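import Groth.Agent.H9Misc.BrownGroth
import Mathlib.Algebra.Category.Ring.Basic
import Mathlib.Algebra.Group.Shrink
import Mathlib.CategoryTheory.Limits.Preserves.Ulift
import Mathlib.CategoryTheory.Localization.Equivalence

/-!
# Representing `Hom(Ψ -, L)` on the derived category of a ring
-/

set_option linter.style.haveILetI false
set_option linter.unusedSectionVars false
set_option backward.isDefEq.respectTransparency false

universe u w

open CategoryTheory CategoryTheory.Limits Opposite Pretriangulated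

namespace Groth.Agent.Dual59

variable {C : Type*} [Category C] [Preadditive C] [HasZeroObject C] [HasShift C ℤ]
  [∀ n : ℤ, (shiftFunctor C n).Additive] [Pretriangulated C]
  {𝒟 : Type*} [Category 𝒟] [Preadditive 𝒟] [HasZeroObject 𝒟] [HasShift 𝒟 ℤ]
  [∀ n : ℤ, (shiftFunctor 𝒟 n).Additive] [Pretriangulated 𝒟]

/-- A functor mapping distinguished triangles to distinguished ones, up to the last arrow. -/
def IsExactFunctor (Ψ : C ⥤ 𝒟) : Prop :=
  ∀ T ∈ distTriang C, ∃ c, Triangle.mk (Ψ.map T.mor₁) (Ψ.map T.mor₂) c ∈ distTriang 𝒟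

lemma IsExactFunctor.comp {ℰ : Type*} [Category ℰ] [Preadditive ℰ] [HasZeroObject ℰ] [HasShift ℰ ℤ]
    [∀ n : ℤ, (shiftFunctor ℰ n).Additive] [Pretriangulated ℰ] {Ψ : C ⥤ 𝒟} {Θ : 𝒟 ⥤ ℰ}
    (h : IsExactFunctor Ψ) (h' : IsExactFunctor Θ) : IsExactFunctor (Ψ ⋙ Θ) := fun T hT => by
  obtain ⟨c, hc⟩ := h T hT
  exact h' _ hc

lemma isExactFunctor_of_isTriangulated (Ψ : C ⥤ 𝒟) [Ψ.CommShift ℤ] [Ψ.IsTriangulated] :
    IsExactFunctor Ψ := fun T hT => ⟨_, Ψ.map_distinguished T hT⟩

section Shrink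

variable {D : Type*} [Category.{u} D] [Preadditive D]
  {ℰ : Type*} [Category.{w} ℰ] [Preadditive ℰ] (G : D ⥤ ℰ) [G.Additive] (L : ℰ)
  [∀ X, Small.{u} (G.obj X ⟶ L)]

/-- `Hom(G -, L)` in the smaller universe. -/
noncomputable def shrinkHom : Dᵒᵖ ⥤ AddCommGrpCat.{u} where
  obj X := AddCommGrpCat.of (Shrink.{u} (G.obj X.unop ⟶ L))
  map {X Y} f := AddCommGrpCat.ofHom
    (AddMonoidHom.mk' (fun a => equivShrink _ (G.map f.unop ≫ (equivShrink _).symm a)) fun a b => by
      simp [Preadditive.comp_add])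
  map_id X := by ext a; simp
  map_comp f g := by ext a; simp

instance : (shrinkHom G L).Additive where
  map_add {X Y f g} := by
    ext a
    show equivShrink _ (G.map (f + g).unop ≫ _) = equivShrink _ _ + equivShrink _ _
    rw [unop_add, G.map_add, Preadditive.add_comp, equivShrink_add]

/-- Comparison with the representable functor. -/
noncomputable def shrinkHomUlift :
    (shrinkHom G L ⋙ forget AddCommGrpCat.{u}) ⋙ uliftFunctor.{w, u} ≅
      (G.op ⋙ yoneda.obj L) ⋙ uliftFunctor.{u, w} :=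
  NatIso.ofComponents (fun X => (Equiv.ulift.trans ((equivShrink _).symm.trans Equiv.ulift.symm)).toIso)
    fun {X Y} f => by
      ext a
      obtain ⟨a⟩ := a
      exact ULift.down_injective ((equivShrink (G.obj Y.unop ⟶ L)).symm_apply_apply _)

lemma preservesLimits_shrinkHom (τ : Type u) [PreservesColimitsOfShape (Discrete τ) G] :
    PreservesLimitsOfShape (Discrete τ) (shrinkHom G L) := by
  have : PreservesColimitsOfShape (Discrete τ)ᵒᵖ G :=
    preservesColimitsOfShape_of_equiv (Discrete.opposite τ).symm G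
  have : PreservesLimitsOfShape (Discrete τ) G.op := preservesLimitsOfShape_op _ G
  have : PreservesLimitsOfShape (Discrete τ) ((G.op ⋙ yoneda.obj L) ⋙ uliftFunctor.{u, w}) :=
    inferInstance
  have : PreservesLimitsOfShape (Discrete τ)
      ((shrinkHom G L ⋙ forget AddCommGrpCat.{u}) ⋙ uliftFunctor.{w, u}) :=
    preservesLimitsOfShape_of_natIso (shrinkHomUlift G L).symm
  have : PreservesLimitsOfShape (Discrete τ) (shrinkHom G L ⋙ forget AddCommGrpCat.{u}) :=
    preservesLimitsOfShape_of_reflects_of_preserves _ (uliftFunctor.{w, u})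
  exact preservesLimitsOfShape_of_reflects_of_preserves _ (forget AddCommGrpCat.{u})

variable [HasZeroObject D] [HasShift D ℤ] [∀ n : ℤ, (shiftFunctor D n).Additive] [Pretriangulated D]
  [HasZeroObject ℰ] [HasShift ℰ ℤ] [∀ n : ℤ, (shiftFunctor ℰ n).Additive] [Pretriangulated ℰ]

open Pretriangulated.Opposite in
lemma isHomological_shrinkHom (hG : IsExactFunctor G) : (shrinkHom G L).IsHomological where
  exact T hT := by
    rw [ShortComplex.ab_exact_iff]
    intro (x₂ : Shrink.{u} (G.obj T.obj₂.unop ⟶ L))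
      (hx₂ : equivShrink _ (G.map T.mor₂.unop ≫ (equivShrink _).symm x₂) = 0)
    obtain ⟨c, hc⟩ := hG _ (unop_distinguished T hT)
    obtain ⟨y, hy⟩ : ∃ y : G.obj T.obj₁.unop ⟶ L, (equivShrink _).symm x₂ = G.map T.mor₁.unop ≫ y := by
      refine Triangle.yoneda_exact₂ _ hc ((equivShrink (G.obj T.obj₂.unop ⟶ L)).symm x₂) ?_
      refine (equivShrink (G.obj T.obj₃.unop ⟶ L)).injective (hx₂.trans ?_)
      exact ((equivShrink (G.obj T.obj₃.unop ⟶ L)).apply_symm_apply 0).symm.trans
        (congrArg _ equivShrink_symm_zero)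
    refine ⟨equivShrink _ y, ?_⟩
    show equivShrink _ (G.map T.mor₁.unop ≫ (equivShrink _).symm (equivShrink _ y)) = x₂
    rw [Equiv.symm_apply_apply]
    exact (congrArg (equivShrink _) hy.symm).trans ((equivShrink _).apply_symm_apply x₂)

end Shrink

section Cmp

variable (A : Type*) [Category A] [Abelian A]

/-- Comparison of two models of the derived category. -/
noncomputable def cmpD (I₁ I₂ : HasDerivedCategory A) :
    @DerivedCategory A _ _ I₁ ⥤ @DerivedCategory A _ _ I₂ :=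
  @CategoryTheory.Functor.mapDerivedCategory _ _ _ I₁ _ _ _ I₂ (𝟭 A) _ _ _

lemma isEquivalence_cmpD (I₁ I₂ : HasDerivedCategory A) : (cmpD A I₁ I₂).IsEquivalence := by
  let c := cmpD A I₁ I₂
  let W := HomologicalComplex.quasiIso A (ComplexShape.up ℤ)
  let Q₁ := @DerivedCategory.Q A _ _ I₁
  let Q₂ := @DerivedCategory.Q A _ _ I₂
  let e : Q₁ ⋙ c ≅ Q₂ :=
    @CategoryTheory.Functor.mapDerivedCategoryFactors _ _ _ I₁ _ _ _ I₂ (𝟭 _) _ _ _ ≪≫
      Functor.isoWhiskerRight (Functor.mapHomologicalComplexIdIso _ _) Q₂ ≪≫ Functor.leftUnitor _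
  let : Localization.Lifting Q₁ W Q₂ c := ⟨e⟩
  let : Localization.Lifting Q₁ W Q₂ (Localization.uniq Q₁ Q₂ W).functor :=
    ⟨Localization.compUniqFunctor Q₁ Q₂ W⟩
  exact Functor.isEquivalence_of_iso
    (Localization.liftNatIso Q₁ W Q₂ Q₂ (Localization.uniq Q₁ Q₂ W).functor c (Iso.refl _))

section

variable {A₁ : Type*} [Category A₁] [Abelian A₁] [HasDerivedCategory A₁]
  {A₂ : Type*} [Category A₂] [Abelian A₂] [HasDerivedCategory A₂]
  (F : A₁ ⥤ A₂) [F.Additive] [PreservesFiniteLimits F] [PreservesFiniteColimits F]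

lemma additive_and_exact_comp {ℰ : Type*} [Category ℰ] [Preadditive ℰ] [HasZeroObject ℰ]
    [HasShift ℰ ℤ] [∀ n : ℤ, (shiftFunctor ℰ n).Additive] [Pretriangulated ℰ]
    (Ψ : DerivedCategory A₂ ⥤ ℰ) [Ψ.Additive] (hΨ : IsExactFunctor Ψ) :
    (F.mapDerivedCategory ⋙ Ψ).Additive ∧ IsExactFunctor (F.mapDerivedCategory ⋙ Ψ) :=
  ⟨inferInstance, (isExactFunctor_of_isTriangulated _).comp hΨ⟩

end

end Cmp

section Small

variable (R : Type u) [Ring R] [HasDerivedCategory.{u} (ModuleCat.{u} R)]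
  {𝒟' : Type*} [Category.{w} 𝒟'] [Preadditive 𝒟'] [HasZeroObject 𝒟'] [HasShift 𝒟' ℤ]
  [∀ n : ℤ, (shiftFunctor 𝒟' n).Additive] [Pretriangulated 𝒟'] [LocallySmall.{u} 𝒟']

/-- `Hom(G -, L)` is representable, small model. -/
theorem exists_univ_small (G : DerivedCategory (ModuleCat.{u} R) ⥤ 𝒟') [G.Additive]
    (hG : IsExactFunctor G) [∀ τ : Type u, PreservesColimitsOfShape (Discrete τ) G] (L : 𝒟') :
    ∃ (A : DerivedCategory (ModuleCat.{u} R)) (e : G.obj A ⟶ L),
      ∀ M, Function.Bijective fun a : M ⟶ A => G.map a ≫ e := by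
  have := isHomological_shrinkHom G L hG
  have : ∀ τ : Type u, PreservesLimitsOfShape (Discrete τ) (shrinkHom G L) :=
    fun τ => preservesLimits_shrinkHom G L τ
  have : HasCoproducts.{u} (DerivedCategory (ModuleCat.{u} R)) :=
    fun τ => TriCat.hasColimitsOfShape_derivedCategory
  obtain ⟨X, ⟨r⟩⟩ := TriCat.isRepresentable_of_detects
    (fun n : ULift.{u} ℤ => DerivedCategory.Q.obj (H9Misc.BrownGroth.gen R n.down))
    (H9Misc.BrownGroth.detects _) (fun [_] => H9Misc.BrownGroth.countPerfect _) (shrinkHom G L)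
  let x : Shrink.{u} (G.obj X ⟶ L) := r.homEquiv (𝟙 X)
  refine ⟨X, (equivShrink _).symm x, fun M => ?_⟩
  have h : ∀ a : M ⟶ X, G.map a ≫ (equivShrink _).symm x = (equivShrink _).symm (r.homEquiv a) := fun a => by
    have := r.homEquiv_comp a (𝟙 X)
    rw [Category.comp_id] at this
    rw [this]
    exact ((equivShrink _).symm_apply_apply _).symm
  have hb : Function.Bijective fun a : M ⟶ X =>
      (equivShrink (G.obj M ⟶ L)).symm (r.homEquiv a) :=
    (r.homEquiv.trans (equivShrink _).symm).bijective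
  exact (funext h) ▸ hb

end Small

section Ring

attribute [local instance] HasDerivedCategory.standard

variable (R : CommRingCat.{u})
  {𝒟' : Type*} [Category.{w} 𝒟'] [Preadditive 𝒟'] [HasZeroObject 𝒟'] [HasShift 𝒟' ℤ]
  [∀ n : ℤ, (shiftFunctor 𝒟' n).Additive] [Pretriangulated 𝒟'] [LocallySmall.{u} 𝒟']

/-- `Hom(Ψ -, L)` is representable for exact coproduct preserving `Ψ`. -/
theorem exists_univ_of_exact (Ψ : DerivedCategory (ModuleCat.{u} R) ⥤ 𝒟') [Ψ.Additive]
    (hΨ : IsExactFunctor Ψ) [∀ τ : Type u, PreservesColimitsOfShape (Discrete τ) Ψ] (L : 𝒟') :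
    ∃ (A : DerivedCategory (ModuleCat.{u} R)) (e : Ψ.obj A ⟶ L),
      ∀ M, Function.Bijective fun a : M ⟶ A => Ψ.map a ≫ e := by
  let I₁ : HasDerivedCategory.{u} (ModuleCat.{u} R) :=
    H9Misc.BrownGroth.smallDerived _ H9Misc.GPDerived.exists_res
  let c := cmpD (ModuleCat.{u} R) I₁ (HasDerivedCategory.standard _)
  haveI := isEquivalence_cmpD (ModuleCat.{u} R) I₁ (HasDerivedCategory.standard _)
  have hce := @additive_and_exact_comp _ _ _ I₁ _ _ _ (HasDerivedCategory.standard _)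
    (𝟭 (ModuleCat.{u} R)) _ _ _ _ _ _ _ _ _ _ Ψ _ hΨ
  haveI : ∀ τ : Type u, PreservesColimitsOfShape (Discrete τ) c := fun τ => inferInstance
  obtain ⟨X, e, he⟩ := @exists_univ_small R _ I₁ _ _ _ _ _ _ _ _ (c ⋙ Ψ) hce.1 hce.2 _ L
  refine ⟨c.obj X, e, fun M => ?_⟩
  have hM := (c.asEquivalence.toAdjunction)
  let M' := c.objPreimage M
  let i := c.objObjPreimageIso M
  have hb : Function.Bijective fun b : c.obj M' ⟶ c.obj X => Ψ.map b ≫ e := by
    have := he M'
    refine (Function.Bijective.of_comp_iff _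
      (Functor.FullyFaithful.ofFullyFaithful c).homEquiv.bijective).1 ?_
    exact this
  have h1 : (fun a : M ⟶ c.obj X => Ψ.map a ≫ e) =
      (fun z : Ψ.obj (c.obj M') ⟶ L => Ψ.map i.inv ≫ z) ∘ (fun b : c.obj M' ⟶ c.obj X => Ψ.map b ≫ e) ∘
        (fun a : M ⟶ c.obj X => i.hom ≫ a) := by
    funext a
    simp
  rw [h1]
  refine Function.Bijective.comp ?_ (hb.comp ?_)
  · convert (Iso.homCongr (Ψ.mapIso i) (Iso.refl L)).bijective using 1
    funext z; simp
  · convert (Iso.homCongr i.symm (Iso.refl (c.obj X))).bijective using 1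
    funext z; simp

end Ring

end Groth.Agent.Dual59
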