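import Mathlib.AlgebraicGeometry.Morphisms.Immersion
import Mathlib.AlgebraicGeometry.Morphisms.Proper
import Mathlib.AlgebraicGeometry.IdealSheaf.Subscheme

/-!
# The closure of the graph of a morphism from an open to a proper scheme
-/

set_option linter.style.haveILetI false
set_option linter.unusedSectionVars false

universe u

open CategoryTheory CategoryTheory.Limits AlgebraicGeometry TopologicalSpace

namespace Groth.Agent.Dual59

/-- A morphism from an open of a proper scheme to a proper scheme extends after a modification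
which is an isomorphism over the open. -/
theorem exists_graph {U X Y P : Scheme.{u}} (f : X ⟶ Y) [IsProper f] (p : P ⟶ Y) [IsProper p]
    (j : U ⟶ X) [IsOpenImmersion j] [QuasiCompact j] (ψ : U ⟶ P) (w : j ≫ f = ψ ≫ p) :
    ∃ (Z : Scheme.{u}) (π₁ : Z ⟶ X) (π₂ : Z ⟶ P) (k : U ⟶ Z), IsProper π₁ ∧ IsProper π₂ ∧
      IsOpenImmersion k ∧ π₁ ≫ f = π₂ ≫ p ∧ k ≫ π₁ = j ∧ k ≫ π₂ = ψ ∧
      π₁ ⁻¹' Set.range j = Set.range k := by
  let Γ : U ⟶ pullback f p := pullback.lift j ψ w
  haveI : IsImmersion (Γ ≫ pullback.fst f p) := by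
    rw [pullback.lift_fst]; infer_instance
  haveI : IsImmersion Γ := IsImmersion.of_comp Γ (pullback.fst f p)
  haveI : QuasiCompact (Γ ≫ pullback.fst f p) := by
    rw [pullback.lift_fst]; infer_instance
  haveI : QuasiCompact Γ := QuasiCompact.of_comp Γ (pullback.fst f p)
  let π₁ := Γ.imageι ≫ pullback.fst f p
  let π₂ := Γ.imageι ≫ pullback.snd f p
  let k := Γ.toImage
  have hk₁ : k ≫ π₁ = j := by
    show Γ.toImage ≫ Γ.imageι ≫ _ = _
    rw [Scheme.Hom.toImage_imageι_assoc, pullback.lift_fst]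
  have hk₂ : k ≫ π₂ = ψ := by
    show Γ.toImage ≫ Γ.imageι ≫ _ = _
    rw [Scheme.Hom.toImage_imageι_assoc, pullback.lift_snd]
  refine ⟨Γ.image, π₁, π₂, k, inferInstance, inferInstance, inferInstance, ?_, hk₁, hk₂, ?_⟩
  · show (_ ≫ _) ≫ f = (_ ≫ _) ≫ p
    rw [Category.assoc, Category.assoc, pullback.condition]
  let O := π₁ ⁻¹ᵁ j.opensRange
  have hle : Set.range k ⊆ (O : Set Γ.image) := by
    rintro _ ⟨x, rfl⟩
    exact ⟨x, (Scheme.Hom.comp_apply k π₁ x).symm.trans (by rw [hk₁]) |>.symm⟩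
  let k' : U ⟶ O := IsOpenImmersion.lift O.ι k (by rw [Scheme.Opens.range_ι]; exact hle)
  have hk' : k' ≫ O.ι = k := IsOpenImmersion.lift_fac _ _ _
  have hsec : k' ≫ (π₁ ∣_ j.opensRange) = j.isoOpensRange.hom := by
    rw [← cancel_mono j.opensRange.ι, Category.assoc, morphismRestrict_ι, ← Category.assoc, hk', hk₁,
      Scheme.Hom.isoOpensRange_hom_ι]
  haveI : IsClosedImmersion (k' ≫ (π₁ ∣_ j.opensRange)) := by rw [hsec]; infer_instance
  haveI : IsClosedImmersion k' := IsClosedImmersion.of_comp k' (π₁ ∣_ j.opensRange)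
  refine Set.Subset.antisymm (fun z hz => ?_) hle
  have hd : z ∈ closure (Set.range k) := (Γ.toImage).denseRange z
  have hO : O.ι ⟨z, hz⟩ ∈ closure (O.ι '' Set.range k') := by
    rw [← Set.range_comp]
    have : (O.ι : _ → _) ∘ k' = k := funext fun x => by
      show O.ι (k' x) = k x
      rw [← Scheme.Hom.comp_apply, hk']
    rw [this]
    exact hd
  have h2 : (⟨z, hz⟩ : O) ∈ closure (Set.range k') := by
    rw [O.ι.isOpenEmbedding.isInducing.closure_eq_preimage_closure_image]
    exact hO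
  rw [k'.isClosedEmbedding.isClosed_range.closure_eq] at h2
  obtain ⟨x, hx⟩ := h2
  refine ⟨x, ?_⟩
  rw [← hk', Scheme.Hom.comp_apply, hx]
  rfl

end Groth.Agent.Dual59
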