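import Groth.Prelude.Def_CohB1
import Groth.Agent.PnCoh.Chow.Proper
import Groth.Agent.Lib.AmpleEmbed
import Mathlib.AlgebraicGeometry.ProjectiveSpectrum.Proper

/-!
# The two standard charts of the projective line over a ring
-/

set_option linter.style.haveILetI false
set_option linter.unusedSectionVars false
set_option backward.isDefEq.respectTransparency false
set_option backward.isDefEq.respectTransparency.types false

universe u

open CategoryTheory AlgebraicGeometry TopologicalSpace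
open HomogeneousLocalization (Away)

namespace Groth.Agent.Dual59.P1

noncomputable section

variable (B : Type u) [CommRing B]

local notation "𝒜" => CohB1.polyGrading 1 B
local notation "T" => (MvPolynomial.X : Fin (1 + 1) → MvPolynomial (Fin (1 + 1)) B)

theorem T_mem (i : Fin (1 + 1)) : T i ∈ 𝒜 1 := MvPolynomial.isHomogeneous_X B i

/-- The chart where `T i` does not vanish. -/
abbrev V (i : Fin (1 + 1)) : (Proj 𝒜).Opens := Proj.basicOpen 𝒜 (T i)

theorem isAffineOpen_V (i : Fin (1 + 1)) : IsAffineOpen (V B i) :=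
  Proj.isAffineOpen_basicOpen _ _ (T_mem B i) one_pos

theorem cover (x : Proj 𝒜) : x ∈ V B 0 ∨ x ∈ V B 1 := by
  obtain ⟨i, hi⟩ := Opens.mem_iSup.1 ((AmpleEmbed.iSup_basicOpen_X 1 B).ge (show x ∈ (⊤ : (Proj 𝒜).Opens) from trivial))
  fin_cases i
  · exact Or.inl hi
  · exact Or.inr hi

/-- The coordinate `T j / T i`. -/
def coord (i j : Fin (1 + 1)) : Away 𝒜 (T i) :=
  Away.mk 𝒜 (T_mem B i) 1 (T j) (by rw [one_smul]; exact T_mem B j)

/-- The coordinate `T j / T i` as a function on the chart. -/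
def sec (i j : Fin (1 + 1)) : Γ(Proj 𝒜, V B i) :=
  Proj.awayToSection 𝒜 (T i) (coord B i j)

theorem awayMap_coord_mul :
    HomogeneousLocalization.awayMap 𝒜 (T_mem B 1) (rfl : T 0 * T 1 = _) (coord B 0 1) *
      HomogeneousLocalization.awayMap 𝒜 (T_mem B 0) (mul_comm (T 0) (T 1)) (coord B 1 0) = 1 := by
  apply HomogeneousLocalization.val_injective
  unfold coord Away.mk
  rw [HomogeneousLocalization.val_mul, HomogeneousLocalization.val_awayMap_mk,
    HomogeneousLocalization.val_awayMap_mk, HomogeneousLocalization.val_one, Localization.mk_mul,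
    ← Localization.mk_one, Localization.mk_eq_mk_iff, Localization.r_iff_exists]
  exact ⟨1, by simp; ring⟩

theorem sec_mul :
    (Proj 𝒜).presheaf.map (homOfLE (inf_le_left : V B 0 ⊓ V B 1 ≤ V B 0)).op
        (sec B 0 1) *
      (Proj 𝒜).presheaf.map (homOfLE (inf_le_right : V B 0 ⊓ V B 1 ≤ V B 1)).op
        (sec B 1 0) = 1 := by
  have h0 := ConcreteCategory.congr_hom (Proj.awayMap_awayToSection 𝒜 (f := T 0) (T_mem B 1)
    (rfl : T 0 * T 1 = _)) (coord B 0 1)
  have h1 := ConcreteCategory.congr_hom (Proj.awayMap_awayToSection 𝒜 (f := T 1) (T_mem B 0)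
    (mul_comm (T 0) (T 1))) (coord B 1 0)
  have h := congrArg (Proj.awayToSection 𝒜 (T 0 * T 1)) (awayMap_coord_mul B)
  rw [map_mul, map_one] at h
  erw [h0, h1] at h
  have hle : V B 0 ⊓ V B 1 ≤ Proj.basicOpen 𝒜 (T 0 * T 1) := (Proj.basicOpen_mul 𝒜 _ _).ge
  have h' := congrArg ((Proj 𝒜).presheaf.map (homOfLE hle).op) h
  rw [map_mul, map_one] at h'
  erw [← ConcreteCategory.comp_apply, ← ConcreteCategory.comp_apply, Category.assoc, Category.assoc,
    ← Functor.map_comp, ← Functor.map_comp] at h'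
  exact h'

theorem inf_eq_basicOpen : V B 0 ⊓ V B 1 = (Proj 𝒜).basicOpen (sec B 1 0) := by
  refine le_antisymm (fun x hx => ?_) fun x hx => ⟨?_, (Proj 𝒜).basicOpen_le _ hx⟩
  · have hu : IsUnit ((Proj 𝒜).presheaf.map
        (homOfLE (inf_le_right : V B 0 ⊓ V B 1 ≤ V B 1)).op (sec B 1 0)) :=
      IsUnit.of_mul_eq_one _ ((mul_comm _ _).trans (sec_mul B))
    have := (Proj 𝒜).basicOpen_of_isUnit hu
    rw [Scheme.basicOpen_res] at this
    exact (this.ge hx).2
  · have hx1 := (Proj 𝒜).basicOpen_le _ hx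
    rw [Scheme.mem_basicOpen _ _ x hx1] at hx
    let e := Proj.basicOpenIsoSpec 𝒜 (T 1) (T_mem B 1) one_pos
    let y : (Proj.basicOpen 𝒜 (T 1)).toScheme := ⟨x, hx1⟩
    have hy : y ∈ (Proj.basicOpen 𝒜 (T 1)).toScheme.basicOpen
        ((Proj.basicOpen 𝒜 (T 1)).topIso.inv (sec B 1 0)) := by
      have h := Scheme.preimage_basicOpen (Proj.basicOpen 𝒜 (T 1)).ι (sec B 1 0)
      have hx' : x ∈ (Proj 𝒜).basicOpen (sec B 1 0) := by
        rw [Scheme.mem_basicOpen _ _ x hx1]; exact hx
      have hy' : y ∈ (Proj.basicOpen 𝒜 (T 1)).ι ⁻¹ᵁ (Proj 𝒜).basicOpen (sec B 1 0) := hx'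
      rw [h] at hy'
      let O := Proj.basicOpen 𝒜 (T 1)
      have hle : (⊤ : O.toScheme.Opens) ≤ O.ι ⁻¹ᵁ V B 1 := fun z _ => z.2
      have hs : O.topIso.inv (sec B 1 0) =
          O.toScheme.presheaf.map (homOfLE hle).op (O.ι.app (V B 1) (sec B 1 0)) := by
        rw [Scheme.Opens.topIso_inv, Scheme.Opens.ι_app, ← CommRingCat.comp_apply]
        erw [← Functor.map_comp]
        rfl
      rw [hs, Scheme.basicOpen_res]
      exact ⟨trivial, hy'⟩
    have hb := (basicOpen_eq_of_affine (R := CommRingCat.of (Away 𝒜 (T 1))) (coord B 1 0))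
    have he : e.hom ⁻¹ᵁ ((Spec (CommRingCat.of (Away 𝒜 (T 1)))).basicOpen
        ((Scheme.ΓSpecIso (CommRingCat.of (Away 𝒜 (T 1)))).inv (coord B 1 0))) =
        (Proj.basicOpen 𝒜 (T 1)).toScheme.basicOpen
          ((Proj.basicOpen 𝒜 (T 1)).topIso.inv (sec B 1 0)) := by
      rw [Scheme.preimage_basicOpen_top]
      congr 1
      show (Proj.basicOpenIsoSpec 𝒜 (T 1) (T_mem B 1) one_pos).hom.app ⊤ _ = _
      rw [Proj.basicOpenIsoSpec_hom, Proj.basicOpenToSpec_app_top]
      show (Proj.basicOpen 𝒜 (T 1)).topIso.inv (Proj.awayToSection 𝒜 (T 1)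
        ((Scheme.ΓSpecIso _).hom ((Scheme.ΓSpecIso _).inv (coord B 1 0)))) = _
      erw [CategoryTheory.Iso.inv_hom_id_apply]
      rfl
    rw [← he, hb] at hy
    have hel : Away.isLocalizationElem (T_mem B 1) (T_mem B 0) = coord B 1 0 := by
      apply HomogeneousLocalization.val_injective
      simp [Away.isLocalizationElem, coord]
    have hp := Proj.awayι_preimage_basicOpen 𝒜 (T_mem B 1) one_pos (T_mem B 0) one_pos
    rw [hel] at hp
    have hy2 : e.hom y ∈ Proj.awayι 𝒜 (T 1) (T_mem B 1) one_pos ⁻¹ᵁ Proj.basicOpen 𝒜 (T 0) := by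
      rw [hp]; exact hy
    have hx2 : Proj.awayι 𝒜 (T 1) (T_mem B 1) one_pos (e.hom y) = x := by
      rw [← Scheme.Hom.comp_apply]
      simp [e, Proj.awayι, y]
    rw [← hx2]
    exact hy2

instance isProper_toSpec : IsProper (CohB1.ProjSpace.toSpec 1 B) :=
  PnCoh.Chow.isProper_toSpec 1 B

theorem mem_range_appTop {X : Scheme.{u}} {R C : CommRingCat.{u}} (γ : R ⟶ C) (e : Spec R ⟶ X)
    [IsIso e] {r : R} {c : C} (h : γ r = c) :
    (Scheme.ΓSpecIso C).inv c ∈ Set.range (Spec.map γ ≫ e).appTop := by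
  refine ⟨(inv e).appTop ((Scheme.ΓSpecIso R).inv r), ?_⟩
  have h1 : (inv e).appTop ≫ (Spec.map γ ≫ e).appTop = (Spec.map γ).appTop := by
    rw [← Scheme.Hom.comp_appTop, Category.assoc, IsIso.hom_inv_id, Category.comp_id]
  rw [← h]
  exact (ConcreteCategory.congr_hom h1 _).trans
    (ConcreteCategory.congr_hom (Scheme.ΓSpecIso_inv_naturality γ) r).symm

/-- A function on an affine scheme over `B` gives a morphism to the first chart. -/
theorem exists_hom {C : Type u} [CommRing C] (β : B →+* C) (c : C) :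
    ∃ φ : Spec (CommRingCat.of C) ⟶ (V B 0).toScheme,
      φ ≫ (V B 0).ι ≫ CohB1.ProjSpace.toSpec 1 B = Spec.map (CommRingCat.ofHom β) ∧
      (Scheme.ΓSpecIso (CommRingCat.of C)).inv c ∈ Set.range φ.appTop := by
  let θ : MvPolynomial (Fin (1 + 1)) B →+* C :=
    MvPolynomial.eval₂Hom β fun i => if i = 0 then 1 else c
  have h0 : IsUnit (θ (T 0)) := by simp [θ]
  let L : Localization (Submonoid.powers (T 0)) →+* C := IsLocalization.Away.lift (T 0) h0
  let γ : Away 𝒜 (T 0) →+* C := L.comp (algebraMap _ _)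
  have hγb : γ.comp ((HomogeneousLocalization.fromZeroRingHom 𝒜 _).comp (algebraMap B (𝒜 0))) = β := by
    ext b
    show L ((HomogeneousLocalization.mk _).val) = _
    rw [HomogeneousLocalization.val_mk]
    show L (Localization.mk (MvPolynomial.C b) _) = _
    erw [Localization.mk_one_eq_algebraMap, IsLocalization.Away.lift_eq]
    simp [θ]
  have hγc : γ (coord B 0 1) = c := by
    show L (coord B 0 1).val = _
    have h : (coord B 0 1).val * algebraMap (MvPolynomial (Fin (1 + 1)) B) _ (T 0) =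
        algebraMap (MvPolynomial (Fin (1 + 1)) B) (Localization (Submonoid.powers (T 0))) (T 1) := by
      rw [coord, HomogeneousLocalization.Away.val_mk, ← Localization.mk_one_eq_algebraMap,
        ← Localization.mk_one_eq_algebraMap, Localization.mk_mul, Localization.mk_eq_mk_iff,
        Localization.r_iff_exists]
      exact ⟨1, by simp [mul_comm]⟩
    have h' := congrArg L h
    rw [map_mul, IsLocalization.Away.lift_eq, IsLocalization.Away.lift_eq] at h'
    simpa [θ] using h'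
  let e := Proj.basicOpenIsoSpec 𝒜 (T 0) (T_mem B 0) one_pos
  refine ⟨Spec.map (CommRingCat.ofHom γ) ≫ e.inv, ?_, ?_⟩
  · have h1 : e.inv ≫ (Proj.basicOpen 𝒜 (T 0)).ι ≫ Proj.toSpecZero 𝒜 =
        Spec.map (CommRingCat.ofHom (HomogeneousLocalization.fromZeroRingHom 𝒜 _)) :=
      (Category.assoc _ _ _).symm.trans (Proj.awayι_toSpecZero 𝒜 (T 0) (T_mem B 0) one_pos)
    have h2 : ∀ g : Spec (CommRingCat.of (𝒜 0)) ⟶ Spec (CommRingCat.of B), e.inv ≫ (Proj.basicOpen 𝒜 (T 0)).ι ≫ Proj.toSpecZero 𝒜 ≫ g =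
        Spec.map (CommRingCat.ofHom (HomogeneousLocalization.fromZeroRingHom 𝒜 _)) ≫ g :=
      fun g => by rw [← h1, Category.assoc, Category.assoc]
    let F := CommRingCat.ofHom (HomogeneousLocalization.fromZeroRingHom 𝒜 (Submonoid.powers (T 0)))
    let A := CommRingCat.ofHom (algebraMap B (𝒜 0))
    have h3 : CommRingCat.ofHom β = A ≫ F ≫ CommRingCat.ofHom γ := by rw [← hγb]; rfl
    rw [h3, Spec.map_comp, Spec.map_comp, Category.assoc, Category.assoc]
    exact congrArg (Spec.map (CommRingCat.ofHom γ) ≫ ·) (h2 (Spec.map A))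
  · exact mem_range_appTop _ _ hγc

end

end Groth.Agent.Dual59.P1
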