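import Groth.Agent.Dual59.HomFinite
import Groth.Agent.Dual59.P1
import Groth.Agent.Dual59.Graph

/-!
# The upper shriek of a coherent object is coherent
-/

set_option linter.style.haveILetI false
set_option linter.unusedSectionVars false
set_option backward.isDefEq.respectTransparency false
set_option backward.isDefEq.respectTransparency.types false

universe u

open CategoryTheory CategoryTheory.Limits CategoryTheory.Pretriangulated AlgebraicGeometry
  TopologicalSpace Opposite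

attribute [local instance] HasDerivedCategory.standard

namespace Groth.Agent.Dual59

open KFlatLib PerfD40

variable {X Y : Scheme.{u}}

/-- Coherence of a restriction to an affine scheme is finiteness of the sections. -/
lemma isCoh_restrict_of_finite {U : Scheme.{u}} [IsAffine U] (j : U ⟶ X) [IsOpenImmersion j]
    {G : X.Modules} (hG : Coh.IsQCoh G) (h : Module.Finite Γ(X, j ''ᵁ ⊤) Γ(G, j ''ᵁ ⊤)) :
    Coh.IsCoh ((Scheme.Modules.restrictFunctor j).obj G) := by
  show Coh.IsCoh (G.restrict j)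
  have hq := QCoh.isQCoh_restrict j hG
  refine ⟨hq, QCoh.isFT_of_finite hq (fun _ : PUnit.{u + 1} => (⊤ : U.Opens))
    (top_unique fun x _ => Opens.mem_iSup.2 ⟨⟨⟩, trivial⟩) (fun _ => isAffineOpen_top U) fun _ => ?_⟩
  obtain ⟨F, hF⟩ := h.fg_top
  let e := G.restrictAppIso j ⊤
  have key : ∀ x ∈ Submodule.span Γ(X, j ''ᵁ ⊤) (F : Set _),
      e.inv x ∈ Submodule.span Γ(U, ⊤) (e.inv '' (F : Set _)) := by
    intro x hx
    induction hx using Submodule.span_induction with
    | mem x hx => exact Submodule.subset_span ⟨x, hx, rfl⟩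
    | zero => rw [map_zero]; exact zero_mem _
    | add x y _ _ hx hy => rw [map_add]; exact add_mem hx hy
    | smul a x _ hx =>
      have : e.inv (a • x) = (j.appIso ⊤).hom a • e.inv x :=
        congr($(Scheme.Modules.smul_restrictAppIso_inv j G ⊤ a) x)
      rw [this]
      exact Submodule.smul_mem _ _ hx
  refine ⟨⟨(F.finite_toSet.image e.inv).toFinset, ?_⟩⟩
  rw [Set.Finite.coe_toFinset]
  refine eq_top_iff.2 fun y _ => ?_
  have := key (e.hom y) (hF ▸ Submodule.mem_top)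
  rwa [show e.inv (e.hom y) = y from congr($(e.hom_inv_id) y)] at this

section Finite

variable (B : Type u) [CommRing B] [IsNoetherianRing B] [X.Over (Spec (CommRingCat.of B))]

lemma homFinite_shift {L : DCoh.D X} (h : HomFinite B L) (q : ℤ) : HomFinite B (L⟦q⟧) :=
  fun F hF j => by
  haveI := h F hF (j + -q)
  let l : ((DCoh.inD X F)⟦j⟧ ⟶ L⟦q⟧) →ₗ[B] ((DCoh.inD X F)⟦j + -q⟧ ⟶ L) :=
    { toFun := fun φ => (shiftFunctorAdd (DCoh.D X) j (-q)).hom.app _ ≫ φ⟦-q⟧' ≫
        (shiftFunctorCompIsoId (DCoh.D X) q (-q) (by omega)).hom.app L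
      map_add' := fun φ ψ => by rw [Functor.map_add, Preadditive.add_comp, Preadditive.comp_add]
      map_smul' := fun b φ => by
        rw [Functor.map_smul, Linear.smul_comp, Linear.comp_smul]; rfl }
  haveI : IsNoetherian B ((DCoh.inD X F)⟦j + -q⟧ ⟶ L) := inferInstance
  refine Module.Finite.of_injective l fun φ ψ e => ?_
  exact (shiftFunctor (DCoh.D X) (-q)).map_injective ((cancel_mono _).1 ((cancel_epi _).1 e))

lemma finite_sections_iso {V : X.Opens} {G G' : X.Modules} (e : G ≅ G')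
    (h : Module.Finite Γ(X, V) Γ(G, V)) : Module.Finite Γ(X, V) Γ(G', V) :=
  Module.Finite.of_surjective (QCoh.appLin e.hom V)
    fun x => ⟨e.inv.app V x, congr(($(e.inv_hom_id)).app V x)⟩

/-- A complex with finite morphism modules is coherent on the first of two charts. -/
theorem isCohD_restrict_chart [IsLocallyNoetherian X] {L : DCoh.D X} (hL : DCoh.IsQCohD L)
    (hfin : HomFinite B L) {U₀ U₁ : X.Opens} (h₀ : IsAffineOpen U₀) (h₁ : IsAffineOpen U₁)
    (hU : ∀ x : X, x ∈ U₀ ∨ x ∈ U₁) (s : Γ(X, U₁)) (t : Γ(X, U₀))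
    (hs : U₀ ⊓ U₁ = X.basicOpen s)
    (hst : X.presheaf.map (homOfLE (inf_le_left : U₀ ⊓ U₁ ≤ U₀)).op t *
      X.presheaf.map (homOfLE (inf_le_right : U₀ ⊓ U₁ ≤ U₁)).op s = 1)
    [PreservesFiniteLimits (Scheme.Modules.restrictFunctor U₀.ι)] :
    DCoh.IsCohD ((DCoh.restrictD U₀.ι).obj L) := fun i => by
  haveI : IsLocallyNoetherian (U₀ : Scheme.{u}) := isLocallyNoetherian_of_isOpenImmersion U₀.ι
  haveI : IsAffine (U₀ : Scheme.{u}) := h₀
  have h := finite_sections_iso ((((DerivedCategory.homologyFunctor X.Modules 0).shiftIso i 0 i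
    (by omega))).app L) (finite_sections_of_homFinite B (isQCohD_shift hL i) (homFinite_shift B hfin i)
      h₀ h₁ hU s t hs hst)
  refine KFlatLib.isCoh_of_iso
    ((mapDCHomologyIso (Scheme.Modules.restrictFunctor U₀.ι) i).app L).symm
    (isCoh_restrict_of_finite U₀.ι (hL i) ?_)
  rw [U₀.ι_image_top]
  exact h

/-- A complex with finite morphism modules on an affine scheme is coherent. -/
theorem isCohD_of_homFinite_affine [IsLocallyNoetherian X] [IsAffine X] {L : DCoh.D X}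
    (hL : DCoh.IsQCohD L) (hfin : HomFinite B L) : DCoh.IsCohD L := fun i => by
  have h0 : Module.Finite B (DCoh.inD X (secObj (⊤ : X.Opens)) ⟶ L⟦i⟧) := by
    haveI := homFinite_shift B hfin i _ (isCoh_secObj_top) 0
    exact @Module.Finite.equiv _ _ _ _ _ _ _ _ this (Linear.homCongr B
      ((shiftFunctorZero (DCoh.D X) ℤ).app (DCoh.inD X (secObj (⊤ : X.Opens)))) (Iso.refl _))
  let G := DCoh.HD (L⟦i⟧) 0
  have hf : Module.Finite Γ(X, ⊤) Γ(G, ⊤) := by
    obtain ⟨S, hS⟩ := h0.fg_top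
    classical
    refine ⟨⟨S.image (Psi ⊤), top_unique fun x hx => ?_⟩⟩
    clear hx
    obtain ⟨φ, rfl⟩ := (Psi_bijective ⊤ (isAffineOpen_top X) (isQCohD_shift hL i)).2 x
    have hm : φ ∈ Submodule.span B (S : Set _) := hS ▸ trivial
    induction hm using Submodule.span_induction with
    | mem z hz => exact Submodule.subset_span (Finset.mem_coe.2 (Finset.mem_image_of_mem _ hz))
    | zero =>
      rw [show Psi ⊤ (0 : DCoh.inD X (secObj (⊤ : X.Opens)) ⟶ L⟦i⟧) = 0 from
        (congrArg (ev ⊤) (psi_zero _)).trans rfl]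
      exact zero_mem _
    | add a b _ _ ha hb => rw [Psi_add]; exact add_mem ha hb
    | smul r a _ ha => rw [Psi_smul]; exact Submodule.smul_mem _ _ ha
  have hG : Coh.IsQCoh G := isQCohD_shift hL i 0
  refine KFlatLib.isCoh_of_iso ((((DerivedCategory.homologyFunctor X.Modules 0).shiftIso i 0 i
    (by omega))).app L) ⟨hG, ?_⟩
  exact QCoh.isFT_of_finite hG (fun _ : PUnit.{u + 1} => (⊤ : X.Opens))
    (top_unique fun x _ => Opens.mem_iSup.2 ⟨⟨⟩, trivial⟩) (fun _ => isAffineOpen_top X) fun _ => hf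

end Finite

/-- Upper shrieks of bounded below objects are bounded below. -/
theorem exists_isGE_of_isShriek (f : X ⟶ Y) [IsProper f] [IsNoetherian Y] [DCoh.HasRpush f]
    {T : DCoh.D Y} (hT : DCoh.IsQCohD T) (c : ℤ) [T.IsGE c] {L : DCoh.D X}
    {e : (DCoh.Rpush f).obj L ⟶ T} (h : IsShriek f T L e) : ∃ c', L.IsGE c' := by
  haveI : IsLocallyNoetherian X := LocallyOfFiniteType.isLocallyNoetherian f
  haveI : CompactSpace X := QuasiCompact.compactSpace_of_compactSpace f
  have hq : ∀ K : DCoh.D X, DCoh.IsQCohD K → DCoh.IsQCohD ((DCoh.Rpush f).obj K) :=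
    fun K hK => isQCohD_rpush f hK
  haveI := S1766.result X Y f hq
  let F := ObjectProperty.lift DCoh.IsQCohD (ObjectProperty.ι DCoh.IsQCohD ⋙ DCoh.Rpush f)
    (fun K => hq K.obj K.property)
  let adj := Adjunction.ofIsLeftAdjoint F
  let K : DCoh.DQCoh Y := ⟨T, hT⟩
  haveI : K.obj.IsGE c := inferInstanceAs (T.IsGE c)
  obtain ⟨i⟩ := nonempty_iso_of_isShriek h (isShriek_counit f hq F.rightAdjoint adj K)
  obtain ⟨c', hc⟩ := isGE_rightAdjoint f hq F.rightAdjoint adj K c
  haveI := hc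
  exact ⟨c', (tS X).isGE_of_iso i.symm c'⟩

/-- An upper shriek along a modification agrees with the original where it is an isomorphism. -/
theorem nonempty_iso_restrict_of_modif {Z U : Scheme.{u}} [IsNoetherian X] (π : Z ⟶ X) [IsProper π]
    [DCoh.HasRpush π] (j : U ⟶ X) [IsOpenImmersion j] (k : U ⟶ Z) [IsOpenImmersion k]
    (w : k ≫ π = j) (hr : π ⁻¹' Set.range j = Set.range k)
    [PreservesFiniteLimits (Scheme.Modules.restrictFunctor j)]
    [PreservesFiniteLimits (Scheme.Modules.restrictFunctor k)]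
    {L : DCoh.D X} (hL : DCoh.IsQCohD L) (c : ℤ) [L.IsGE c] {L' : DCoh.D Z}
    {e : (DCoh.Rpush π).obj L' ⟶ L} (h : IsShriek π L L' e) :
    Nonempty ((DCoh.restrictD k).obj L' ≅ (DCoh.restrictD j).obj L) := by
  let V := j.opensRange
  let O := π ⁻¹ᵁ V
  haveI : IsNoetherian (V : Scheme.{u}) := {
    toIsLocallyNoetherian := isLocallyNoetherian_of_isOpenImmersion V.ι
    toCompactSpace := isCompact_iff_compactSpace.1 (NoetherianSpace.isCompact _) }
  haveI : DCoh.HasRpush (π ∣_ V) := hasRpush_scheme _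
  haveI : PreservesFiniteLimits (Scheme.Modules.restrictFunctor V.ι) := inferInstance
  haveI : PreservesFiniteLimits (Scheme.Modules.restrictFunctor O.ι) := inferInstance
  obtain ⟨e', h'⟩ := exists_isShriek_restrict π V hL c h
  let k' : U ⟶ O := IsOpenImmersion.lift O.ι k (by
    rw [Scheme.Opens.range_ι, ← hr]; exact subset_rfl)
  have hk' : k' ≫ O.ι = k := IsOpenImmersion.lift_fac _ _ _
  haveI : IsOpenImmersion k' := by
    haveI : IsOpenImmersion (k' ≫ O.ι) := by rw [hk']; infer_instance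
    exact IsOpenImmersion.of_comp k' O.ι
  haveI : IsIso k' := by
    refine (isIso_iff_isOpenImmersion_and_epi_base k').2 ⟨inferInstance, ?_⟩
    rw [TopCat.epi_iff_surjective]
    rintro ⟨z, hz⟩
    obtain ⟨x, rfl⟩ : z ∈ Set.range k := hr ▸ hz
    exact ⟨x, O.ι.isOpenEmbedding.injective (by rw [← Scheme.Hom.comp_apply, hk']; rfl)⟩
  have hV : k' ≫ (π ∣_ V) = j.isoOpensRange.hom := by
    rw [← cancel_mono V.ι, Category.assoc, morphismRestrict_ι, ← Category.assoc, hk', w,
      Scheme.Hom.isoOpensRange_hom_ι]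
  haveI : IsIso (π ∣_ V) := by
    have h0 : π ∣_ V = inv k' ≫ j.isoOpensRange.hom := by rw [IsIso.eq_inv_comp]; exact hV
    rw [h0]
    infer_instance
  haveI : PreservesFiniteLimits (Scheme.Modules.restrictFunctor (π ∣_ V)) := inferInstance
  haveI : PreservesFiniteLimits (Scheme.Modules.restrictFunctor k') := inferInstance
  haveI : PreservesFiniteLimits (Scheme.Modules.restrictFunctor (π ∣_ V ≫ V.ι)) := inferInstance
  obtain ⟨i⟩ := nonempty_iso_restrict_of_isIso (π ∣_ V) (isQCohD_restrictD V.ι hL) h'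
  obtain ⟨a⟩ := nonempty_restrictD_comp k' O.ι k hk' L'
  obtain ⟨b⟩ := nonempty_restrictD_comp (π ∣_ V) V.ι (π ∣_ V ≫ V.ι) rfl L
  obtain ⟨d⟩ := nonempty_restrictD_comp k' (π ∣_ V ≫ V.ι) j
    (by rw [morphismRestrict_ι, ← Category.assoc, hk', w]) L
  exact ⟨a ≪≫ (DCoh.restrictD k').mapIso (i ≪≫ b.symm) ≪≫ d.symm⟩

lemma toSec_surjective_isoSpec (Y : Scheme.{u}) [IsAffine Y] :
    letI : Y.Over (Spec (CommRingCat.of Γ(Y, ⊤))) := ⟨Y.isoSpec.hom⟩
    Function.Surjective (toSec (⊤ : Y.Opens) Γ(Y, ⊤)) := by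
  letI : Y.Over (Spec (CommRingCat.of Γ(Y, ⊤))) := ⟨Y.isoSpec.hom⟩
  intro x
  refine ⟨(Scheme.ΓSpecIso Γ(Y, ⊤)).hom (Y.isoSpec.inv.appTop x), ?_⟩
  have h1 : Y.isoSpec.inv.appTop ≫ Y.isoSpec.hom.appTop = 𝟙 _ := by
    rw [← Scheme.Hom.comp_appTop, Iso.hom_inv_id, Scheme.Hom.id_appTop]
  show Y.presheaf.map (homOfLE (le_top : (⊤ : Y.Opens) ≤ ⊤)).op (Y.isoSpec.hom.appTop
    ((Scheme.ΓSpecIso Γ(Y, ⊤)).inv ((Scheme.ΓSpecIso Γ(Y, ⊤)).hom (Y.isoSpec.inv.appTop x)))) = x
  rw [CategoryTheory.Iso.hom_inv_id_apply, ← CommRingCat.comp_apply _ Y.isoSpec.hom.appTop, h1,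
    show (homOfLE (le_top : (⊤ : Y.Opens) ≤ ⊤)).op = 𝟙 _ from Subsingleton.elim _ _,
    CategoryTheory.Functor.map_id]
  rfl

/-- Coherence of the upper shriek on an affine open with `n` generators over the base. -/
theorem isCohD_shriek_restrict :
    ∀ (n : ℕ) {X Y : Scheme.{u}} [IsAffine Y] [IsNoetherian Y] (f : X ⟶ Y) [IsProper f]
      [DCoh.HasRpush f] {T : DCoh.D Y} (_ : DCoh.IsCohD T) (c : ℤ) [T.IsGE c] {L : DCoh.D X}
      {e : (DCoh.Rpush f).obj L ⟶ T} (_ : IsShriek f T L e)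
      {U : Scheme.{u}} [IsAffine U] (j : U ⟶ X) [IsOpenImmersion j]
      [PreservesFiniteLimits (Scheme.Modules.restrictFunctor j)] (g : Fin n → Γ(U, ⊤))
      (_ : Subring.closure (Set.range (j ≫ f).appTop ∪ Set.range g) = ⊤),
      DCoh.IsCohD ((DCoh.restrictD j).obj L) := by
  intro n
  induction n with
  | zero =>
    intro X Y _ _ f _ _ T hT c _ L e h U _ j _ _ g hg
    haveI : IsLocallyNoetherian X := LocallyOfFiniteType.isLocallyNoetherian f
    haveI : CompactSpace X := QuasiCompact.compactSpace_of_compactSpace f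
    haveI : IsNoetherian X := {}
    haveI : IsLocallyNoetherian U := isLocallyNoetherian_of_isOpenImmersion j
    have hsurj : Function.Surjective (j ≫ f).appTop := by
      intro x
      have hx : x ∈ Subring.closure (Set.range (j ≫ f).appTop ∪ Set.range g) := hg ▸ trivial
      rw [show Set.range g = ∅ from Set.range_eq_empty g, Set.union_empty,
        show Set.range (j ≫ f).appTop = ((j ≫ f).appTop.hom.range : Set _) from
          (RingHom.coe_range _).symm, Subring.closure_eq] at hx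
      exact hx
    haveI : IsClosedImmersion (j ≫ f) := IsClosedImmersion.of_surjective_of_isAffine _ hsurj
    haveI : IsProper j := IsProper.of_comp j f
    haveI : DCoh.HasRpush j := hasRpush_scheme _
    haveI : DCoh.HasRpush (j ≫ f) := hasRpush_scheme _
    obtain ⟨L₂, e₂, h₂⟩ := exists_isShriek j L
    obtain ⟨e₃, h₃⟩ := isShriek_comp j f h h₂
    obtain ⟨cL, hcL⟩ := exists_isGE_of_isShriek f (isCohD_isQCohD hT) c h
    haveI := hcL
    haveI : PreservesFiniteLimits (Scheme.Modules.restrictFunctor (𝟙 U)) := inferInstance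
    obtain ⟨i⟩ := nonempty_iso_restrict_of_modif j j (𝟙 U) (Category.id_comp j)
      (by rw [Scheme.Hom.id_base]; ext x; simp) h.1 cL h₂
    refine KFlatLib.isCohD_of_iso i (KFlatLib.isCohD_rho (𝟙 U) ?_)
    let B := Γ(Y, ⊤)
    haveI : IsNoetherianRing B := QCoh.noetherian_sections ⟨⊤, isAffineOpen_top Y⟩
    letI : Y.Over (Spec (CommRingCat.of B)) := ⟨Y.isoSpec.hom⟩
    letI : U.Over (Spec (CommRingCat.of B)) := ⟨(j ≫ f) ≫ Y.isoSpec.hom⟩
    haveI : (j ≫ f).IsOver (Spec (CommRingCat.of B)) := ⟨rfl⟩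
    exact isCohD_of_homFinite_affine B h₂.1
      (homFinite_of_isShriek B (j ≫ f) (toSec_surjective_isoSpec Y) hT c h₃)
  | succ n ih =>
    intro X Y _ _ f _ _ T hT c _ L e h U _ j _ _ g hg
    haveI : IsLocallyNoetherian X := LocallyOfFiniteType.isLocallyNoetherian f
    haveI : CompactSpace X := QuasiCompact.compactSpace_of_compactSpace f
    haveI : IsNoetherian X := {}
    haveI : IsLocallyNoetherian U := isLocallyNoetherian_of_isOpenImmersion j
    let B := Γ(Y, ⊤)
    haveI : IsNoetherianRing B := QCoh.noetherian_sections ⟨⊤, isAffineOpen_top Y⟩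
    letI : Y.Over (Spec (CommRingCat.of B)) := ⟨Y.isoSpec.hom⟩
    let P : Scheme.{u} := CohB1.ProjSpace 1 B
    letI : P.Over (Spec (CommRingCat.of B)) := ⟨CohB1.ProjSpace.toSpec 1 B⟩
    haveI : IsProper (CohB1.ProjSpace.toSpec 1 B) := P1.isProper_toSpec B
    let p : P ⟶ Y := CohB1.ProjSpace.toSpec 1 B ≫ Y.isoSpec.inv
    haveI : p.IsOver (Spec (CommRingCat.of B)) := ⟨by
      show (_ ≫ _) ≫ Y.isoSpec.hom = CohB1.ProjSpace.toSpec 1 B
      rw [Category.assoc, Iso.inv_hom_id, Category.comp_id]⟩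
    haveI : IsLocallyNoetherian P := LocallyOfFiniteType.isLocallyNoetherian p
    haveI : CompactSpace P := QuasiCompact.compactSpace_of_compactSpace p
    haveI : IsNoetherian P := {}
    haveI : DCoh.HasRpush p := hasRpush_scheme _
    obtain ⟨M, eM, hM⟩ := exists_isShriek p T
    let V : P.Opens := P1.V B 0
    haveI : IsAffine (V : Scheme.{u}) := P1.isAffineOpen_V B 0
    haveI : IsNoetherian (V : Scheme.{u}) := {
      toIsLocallyNoetherian := isLocallyNoetherian_of_isOpenImmersion V.ι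
      toCompactSpace := isCompact_iff_compactSpace.1 (NoetherianSpace.isCompact _) }
    haveI : PreservesFiniteLimits (Scheme.Modules.restrictFunctor V.ι) := inferInstance
    have hMV : DCoh.IsCohD ((DCoh.restrictD V.ι).obj M) :=
      isCohD_restrict_chart B hM.1 (homFinite_of_isShriek B p (toSec_surjective_isoSpec Y) hT c hM)
        (P1.isAffineOpen_V B 0) (P1.isAffineOpen_V B 1) (P1.cover B) (P1.sec B 1 0) (P1.sec B 0 1)
        (P1.inf_eq_basicOpen B) (P1.sec_mul B)
    obtain ⟨cM, hcM⟩ := exists_isGE_of_isShriek p (isCohD_isQCohD hT) c hM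
    haveI := hcM
    obtain ⟨φ₀, hφ₀, hmem₀⟩ := P1.exists_hom B (j ≫ f).appTop.hom (g 0)
    let φ : U ⟶ (V : Scheme.{u}) := U.isoSpec.hom ≫ φ₀
    have hφ : φ ≫ V.ι ≫ p = j ≫ f := by
      have h1 : φ ≫ V.ι ≫ CohB1.ProjSpace.toSpec 1 B = (j ≫ f) ≫ Y.isoSpec.hom := by
        refine (Category.assoc _ _ _).trans ?_
        refine (congrArg (U.isoSpec.hom ≫ ·) hφ₀).trans ?_
        exact Scheme.isoSpec_hom_naturality (j ≫ f)
      calc φ ≫ V.ι ≫ p = (φ ≫ V.ι ≫ CohB1.ProjSpace.toSpec 1 B) ≫ Y.isoSpec.inv := by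
            simp only [p, Category.assoc]
        _ = j ≫ f := by rw [h1, Category.assoc, Iso.hom_inv_id, Category.comp_id]
    have hmem : g 0 ∈ Set.range φ.appTop := by
      obtain ⟨a, ha⟩ := hmem₀
      refine ⟨a, ?_⟩
      rw [Scheme.Hom.comp_appTop, CommRingCat.comp_apply]
      refine (congrArg U.isoSpec.hom.appTop ha).trans ?_
      rw [Scheme.isoSpec_hom, Scheme.toSpecΓ_appTop]
      exact CategoryTheory.Iso.inv_hom_id_apply _ _
    haveI : CompactSpace U := inferInstance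
    haveI : QuasiCompact j := inferInstance
    obtain ⟨Z, π₁, π₂, k, _, _, _, hw, hk₁, hk₂, hr⟩ :=
      exists_graph f p j (φ ≫ V.ι) (hφ.symm.trans (Category.assoc _ _ _).symm)
    haveI : IsLocallyNoetherian Z := LocallyOfFiniteType.isLocallyNoetherian π₁
    haveI : CompactSpace Z := QuasiCompact.compactSpace_of_compactSpace π₁
    haveI : IsNoetherian Z := {}
    haveI : DCoh.HasRpush π₁ := hasRpush_scheme _
    haveI : DCoh.HasRpush π₂ := hasRpush_scheme _
    haveI : DCoh.HasRpush (π₁ ≫ f) := hasRpush_scheme _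
    haveI : DCoh.HasRpush (π₂ ≫ p) := hasRpush_scheme _
    obtain ⟨L₁, e₁, h₁⟩ := exists_isShriek π₁ L
    obtain ⟨L₂, e₂, h₂⟩ := exists_isShriek π₂ M
    obtain ⟨e₁', h₁'⟩ := isShriek_comp π₁ f h h₁
    obtain ⟨e₂', h₂'⟩ := isShriek_comp π₂ p hM h₂
    obtain ⟨i₁₂⟩ : Nonempty (L₁ ≅ L₂) := by
      revert e₁' h₁'
      revert ‹DCoh.HasRpush (π₁ ≫ f)›
      rw [hw]
      intro _ _ h₁'
      exact nonempty_iso_of_isShriek h₁' h₂'
    obtain ⟨cL, hcL⟩ := exists_isGE_of_isShriek f (isCohD_isQCohD hT) c h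
    haveI := hcL
    haveI : PreservesFiniteLimits (Scheme.Modules.restrictFunctor k) := inferInstance
    obtain ⟨i⟩ := nonempty_iso_restrict_of_modif π₁ j k hk₁ hr h.1 cL h₁
    refine KFlatLib.isCohD_of_iso ((DCoh.restrictD k).mapIso i₁₂.symm ≪≫ i) ?_
    -- over the chart
    let O := π₂ ⁻¹ᵁ V
    haveI : DCoh.HasRpush (π₂ ∣_ V) := hasRpush_scheme _
    haveI : PreservesFiniteLimits (Scheme.Modules.restrictFunctor O.ι) := inferInstance
    obtain ⟨e₀, h₀⟩ := exists_isShriek_restrict π₂ V hM.1 cM h₂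
    let k₀ : U ⟶ (O : Scheme.{u}) := IsOpenImmersion.lift O.ι k (by
      rw [Scheme.Opens.range_ι]
      rintro _ ⟨x, rfl⟩
      show π₂ (k x) ∈ V
      rw [← Scheme.Hom.comp_apply, hk₂, Scheme.Hom.comp_apply]
      exact (φ x).2)
    have hk₀ : k₀ ≫ O.ι = k := IsOpenImmersion.lift_fac _ _ _
    haveI : IsOpenImmersion k₀ := by
      haveI : IsOpenImmersion (k₀ ≫ O.ι) := by rw [hk₀]; infer_instance
      exact IsOpenImmersion.of_comp k₀ O.ι
    have hk₀φ : k₀ ≫ (π₂ ∣_ V) = φ := by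
      rw [← cancel_mono V.ι, Category.assoc, morphismRestrict_ι, ← Category.assoc, hk₀, hk₂]
    haveI : PreservesFiniteLimits (Scheme.Modules.restrictFunctor k₀) := inferInstance
    haveI : ((DCoh.restrictD V.ι).obj M).IsGE cM := by
      rw [DerivedCategory.isGE_iff]
      intro i hi
      exact ((Scheme.Modules.restrictFunctor V.ι).map_isZero
        (DerivedCategory.isZero_of_isGE M cM i hi)).of_iso
        ((mapDCHomologyIso (Scheme.Modules.restrictFunctor V.ι) i).app M)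
    have hc := ih (π₂ ∣_ V) hMV cM h₀ k₀ (fun i => g i.succ) (by
      rw [hk₀φ]
      refine top_unique (hg.ge.trans (Subring.closure_le.2 ?_))
      rintro x (⟨y, rfl⟩ | ⟨i, rfl⟩)
      · refine Subring.subset_closure (Or.inl ?_)
        rw [← hφ, Scheme.Hom.comp_appTop φ]
        exact ⟨(V.ι ≫ p).appTop y, rfl⟩
      · induction i using Fin.cases with
        | zero => exact Subring.subset_closure (Or.inl hmem)
        | succ i => exact Subring.subset_closure (Or.inr ⟨i, rfl⟩))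
    obtain ⟨a⟩ := nonempty_restrictD_comp k₀ O.ι k hk₀ L₂
    exact KFlatLib.isCohD_of_iso a.symm hc

/-- A morphism of finite type between affine schemes has finitely many generators. -/
lemma exists_generators_appTop {U W : Scheme.{u}} [IsAffine U] [IsAffine W] (q : U ⟶ W)
    [LocallyOfFiniteType q] : ∃ (n : ℕ) (g : Fin n → Γ(U, ⊤)),
      Subring.closure (Set.range q.appTop ∪ Set.range g) = ⊤ := by
  have hq : q.appTop.hom.FiniteType := (HasRingHomProperty.iff_of_isAffine (P := @LocallyOfFiniteType)).1 ‹_›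
  algebraize [q.appTop.hom]
  obtain ⟨S, hS⟩ := Algebra.FiniteType.out (R := Γ(W, ⊤)) (A := Γ(U, ⊤))
  refine ⟨S.card, fun i => (S.equivFin.symm i).1, ?_⟩
  have hr : Set.range (fun i => (S.equivFin.symm i).1) = (S : Set Γ(U, ⊤)) := by
    ext x
    exact ⟨fun ⟨i, hi⟩ => hi ▸ (S.equivFin.symm i).2, fun hx => ⟨S.equivFin ⟨x, hx⟩, by simp⟩⟩
  rw [hr, ← show (Algebra.adjoin Γ(W, ⊤) (S : Set Γ(U, ⊤))).toSubring = ⊤ from by rw [hS]; rfl,
    Algebra.adjoin_eq_ring_closure]
  rfl

/-- The right adjoint of `Rf_*` for proper `f` preserves coherence. -/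
theorem isCoh_hd_rightAdjoint [IsNoetherian Y] (f : X ⟶ Y) [IsProper f] [DCoh.HasRpush f]
    (h : ∀ K : DCoh.D X, DCoh.IsQCohD K → DCoh.IsQCohD ((DCoh.Rpush f).obj K))
    (a : DCoh.DQCoh Y ⥤ DCoh.DQCoh X)
    (adj : (ObjectProperty.lift DCoh.IsQCohD (ObjectProperty.ι DCoh.IsQCohD ⋙ DCoh.Rpush f)
      (fun K => h K.obj K.property)) ⊣ a) (K : DCoh.DQCoh Y) (c : ℤ)
    (hKc : ∀ i : ℤ, i < c → IsZero (DCoh.HD K.obj i)) (hK : DCoh.IsCohD K.obj) (i : ℤ) :
    Coh.IsCoh (DCoh.HD (a.obj K).obj i) := by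
  haveI : IsLocallyNoetherian X := LocallyOfFiniteType.isLocallyNoetherian f
  haveI : K.obj.IsGE c := (DerivedCategory.isGE_iff _ _).2 hKc
  refine KFlatLib.isCoh_of_local fun x => ?_
  obtain ⟨W, hW, hxW, -⟩ := exists_isAffineOpen_mem_and_subset (x := f x) (U := ⊤) trivial
  obtain ⟨U, hU, hxU, hUW⟩ := exists_isAffineOpen_mem_and_subset (x := x) (U := f ⁻¹ᵁ W) hxW
  haveI : IsAffine (W : Scheme.{u}) := hW
  haveI : IsAffine (U : Scheme.{u}) := hU
  haveI : IsNoetherian (W : Scheme.{u}) := {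
    toIsLocallyNoetherian := isLocallyNoetherian_of_isOpenImmersion W.ι
    toCompactSpace := isCompact_iff_compactSpace.1 (NoetherianSpace.isCompact _) }
  haveI : DCoh.HasRpush (f ∣_ W) := hasRpush_scheme _
  haveI : PreservesFiniteLimits (Scheme.Modules.restrictFunctor W.ι) := inferInstance
  haveI : PreservesFiniteLimits (Scheme.Modules.restrictFunctor (f ⁻¹ᵁ W).ι) := inferInstance
  haveI : PreservesFiniteLimits (Scheme.Modules.restrictFunctor U.ι) := inferInstance
  obtain ⟨e, he⟩ := isShriek_restrict f h a adj W K c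
  let j : (U : Scheme.{u}) ⟶ (f ⁻¹ᵁ W : Scheme.{u}) := X.homOfLE hUW
  haveI : PreservesFiniteLimits (Scheme.Modules.restrictFunctor j) := inferInstance
  have hj : j ≫ (f ⁻¹ᵁ W).ι = U.ι := X.homOfLE_ι _
  haveI : ((DCoh.restrictD W.ι).obj K.obj).IsGE c := by
    rw [DerivedCategory.isGE_iff]
    intro i hi
    exact ((Scheme.Modules.restrictFunctor W.ι).map_isZero
      (DerivedCategory.isZero_of_isGE K.obj c i hi)).of_iso
      ((mapDCHomologyIso (Scheme.Modules.restrictFunctor W.ι) i).app K.obj)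
  obtain ⟨n, g, hg⟩ := exists_generators_appTop (j ≫ f ∣_ W)
  have hc := isCohD_shriek_restrict n (f ∣_ W) (KFlatLib.isCohD_rho W.ι hK) c he j g hg
  obtain ⟨k⟩ := nonempty_restrictD_comp j (f ⁻¹ᵁ W).ι U.ι hj (a.obj K).obj
  haveI : IsLocallyNoetherian (U : Scheme.{u}) := isLocallyNoetherian_of_isOpenImmersion U.ι
  exact ⟨_, U.ι, inferInstance, ⟨⟨x, hxU⟩, rfl⟩, KFlatLib.isCoh_of_iso
    ((mapDCHomologyIso (Scheme.Modules.restrictFunctor U.ι) i).app (a.obj K).obj)
    (KFlatLib.isCohD_of_iso k.symm hc i)⟩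

end Groth.Agent.Dual59
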