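import Mathlib.LinearAlgebra.TensorProduct.RightExactness
import Mathlib.Algebra.Module.Injective
import Mathlib.RingTheory.Noetherian.Basic
import Groth.Agent.LC.Matlis
import Mathlib.RingTheory.AdicCompletion.AsTensorProduct

/-!
# Double duals of finite modules into an injective module
-/

set_option linter.style.haveILetI false
set_option linter.unusedSectionVars false

universe u

open TensorProduct

namespace Groth.Agent.Dual59

variable {R : Type u} [CommRing R] {H : Type u} [AddCommGroup H] [Module R H]
variable (K E : Type u) [AddCommGroup K] [Module R K] [AddCommGroup E] [Module R E]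
variable (eK : (K →ₗ[R] E) ≃ₗ[R] H)

/-- `H ⊗ M → Hom(Hom(M, K), E)`. -/
noncomputable def dualTensor (M : Type u) [AddCommGroup M] [Module R M] :
    H ⊗[R] M →ₗ[R] ((M →ₗ[R] K) →ₗ[R] E) :=
  TensorProduct.lift <| LinearMap.mk₂ R (fun h m => (eK.symm h) ∘ₗ LinearMap.applyₗ m)
    (fun a b m => by rw [map_add, LinearMap.add_comp])
    (fun r a m => by rw [map_smul, LinearMap.smul_comp])
    (fun h a b => by ext g; simp)
    (fun r h a => by ext g; simp)

theorem dualTensor_tmul (M : Type u) [AddCommGroup M] [Module R M]
    (h : H) (m : M) (g : M →ₗ[R] K) :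
    dualTensor K E eK M (h ⊗ₜ m) g = eK.symm h (g m) := rfl

theorem dualTensor_natural {M N : Type u} [AddCommGroup M] [Module R M] [AddCommGroup N] [Module R N]
    (f : M →ₗ[R] N) (t : H ⊗[R] M) :
    dualTensor K E eK N (f.lTensor _ t) =
      LinearMap.lcomp R E (LinearMap.lcomp R K f) (dualTensor K E eK M t) := by
  induction t with
  | zero => simp
  | add a b ha hb => simp only [map_add, ha, hb]
  | tmul h m => rfl

theorem dualTensor_bijective_pi (n : ℕ) :
    Function.Bijective (dualTensor K E eK (Fin n → R)) := by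
  let e : Fin n → (Fin n → R) := fun k => Pi.single k 1
  let c : Fin n → (K →ₗ[R] ((Fin n → R) →ₗ[R] K)) := fun k =>
    LinearMap.smulRightₗ (LinearMap.proj k)
  have hc : ∀ k y v, c k y v = v k • y := fun k y v => rfl
  refine Function.bijective_iff_has_inverse.2 ⟨fun θ => ∑ k, eK (θ ∘ₗ c k) ⊗ₜ[R] e k, fun t => ?_, fun θ => ?_⟩
  · induction t with
    | zero => simp
    | add a b ha hb =>
      simp only [map_add, LinearMap.add_comp, TensorProduct.add_tmul, Finset.sum_add_distrib]
      exact congrArg₂ (· + ·) ha hb
    | tmul h m =>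
      have hk : ∀ k, dualTensor K E eK (Fin n → R) (h ⊗ₜ m) ∘ₗ c k = m k • eK.symm h := fun k =>
        LinearMap.ext fun y => (map_smul (eK.symm h) (m k) y : _)
      simp only [hk, map_smul, LinearEquiv.apply_symm_apply, TensorProduct.smul_tmul]
      rw [← TensorProduct.tmul_sum]
      congr 1
      exact funext fun j => by simp [e, Finset.sum_apply, Pi.single_apply]
  · refine LinearMap.ext fun g => ?_
    simp only [map_sum, LinearMap.sum_apply, dualTensor_tmul, LinearEquiv.symm_apply_apply,
      LinearMap.comp_apply]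
    rw [← map_sum]
    congr 1
    refine LinearMap.ext fun v => ?_
    simp only [LinearMap.sum_apply, hc]
    conv_rhs => rw [show v = ∑ k, v k • e k from funext fun j => by
      simp [e, Finset.sum_apply, Pi.single_apply]]
    simp only [map_sum, map_smul]

/-- The two-step presentation used below. -/
theorem exists_fin_presentation (M : Type u) [AddCommGroup M] [Module R M] [Module.Finite R M] :
    ∃ (n : ℕ) (π : (Fin n → R) →ₗ[R] M), Function.Surjective π :=
  Module.Finite.exists_fin' R M

variable [IsNoetherianRing R] [Module.Injective R E]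

theorem dualTensor_surjective (M : Type u) [AddCommGroup M] [Module R M] [Module.Finite R M] :
    Function.Surjective (dualTensor K E eK M) := by
  intro θ
  obtain ⟨n, π, hπ⟩ := exists_fin_presentation (R := R) M
  have hinj : Function.Injective (LinearMap.lcomp R K π) := fun a b hab =>
    LinearMap.ext fun m => by obtain ⟨v, rfl⟩ := hπ m; exact LinearMap.congr_fun hab v
  obtain ⟨θ', hθ'⟩ := Module.Injective.out (LinearMap.lcomp R K π) hinj θ
  obtain ⟨t, ht⟩ := (dualTensor_bijective_pi K E eK n).2 θ'
  refine ⟨π.lTensor _ t, ?_⟩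
  rw [dualTensor_natural, ht]
  exact LinearMap.ext hθ'

theorem dualTensor_bijective (M : Type u) [AddCommGroup M] [Module R M] [Module.Finite R M] :
    Function.Bijective (dualTensor K E eK M) := by
  refine ⟨(injective_iff_map_eq_zero _).2 fun t ht => ?_, dualTensor_surjective K E eK M⟩
  obtain ⟨n, π, hπ⟩ := exists_fin_presentation (R := R) M
  obtain ⟨s, rfl⟩ := LinearMap.lTensor_surjective (H) hπ t
  let P := LinearMap.ker π
  let θ := dualTensor K E eK (Fin n → R) s
  let res : ((Fin n → R) →ₗ[R] K) →ₗ[R] (P →ₗ[R] K) := LinearMap.lcomp R K P.subtype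
  have hker : LinearMap.ker res ≤ LinearMap.ker θ := by
    intro g hg
    have hle : LinearMap.ker π ≤ LinearMap.ker g := fun z hz =>
      LinearMap.congr_fun (LinearMap.mem_ker.1 hg) ⟨z, hz⟩
    obtain ⟨g', rfl⟩ : ∃ g' : M →ₗ[R] K, g = g' ∘ₗ π := by
      refine ⟨(LinearMap.ker π).liftQ g hle ∘ₗ (π.quotKerEquivOfSurjective hπ).symm.toLinearMap,
        LinearMap.ext fun v => ?_⟩
      have : (π.quotKerEquivOfSurjective hπ).symm (π v) = Submodule.Quotient.mk v :=
        (LinearEquiv.symm_apply_eq _).2 rfl
      simp [this]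
    have h := LinearMap.congr_fun ((dualTensor_natural K E eK π s).symm.trans ht) g'
    exact h
  obtain ⟨θ'', hθ''⟩ := Module.Injective.out ((LinearMap.ker res).liftQ res le_rfl)
    (LinearMap.ker_eq_bot.1 (Submodule.ker_liftQ_eq_bot _ _ _ le_rfl))
    ((LinearMap.ker res).liftQ θ hker)
  have : Module.Finite R P := inferInstance
  obtain ⟨v, hv⟩ := dualTensor_surjective K E eK P θ''
  have heq : P.subtype.lTensor _ v = s := by
    refine (dualTensor_bijective_pi K E eK n).1 ?_
    rw [dualTensor_natural, hv]
    exact LinearMap.ext fun g => hθ'' (Submodule.Quotient.mk g)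
  rw [← heq, ← LinearMap.comp_apply, ← LinearMap.lTensor_comp]
  rw [show π ∘ₗ P.subtype = 0 from LinearMap.ext fun z => z.2, LinearMap.lTensor_zero, LinearMap.zero_apply]

/-- Over a Noetherian local ring the double Matlis dual of a finite module is its completion. -/
theorem nonempty_doubleDual_equiv {R : Type u} [CommRing R] [IsLocalRing R] [IsNoetherianRing R]
    {E : Type u} [AddCommGroup E] [Module R E] {f : IsLocalRing.ResidueField R →ₗ[R] E}
    (hf : InjHull.IsInjectiveHull f) (M : Type u) [AddCommGroup M] [Module R M] [Module.Finite R M] :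
    Nonempty (AdicCompletion (IsLocalRing.maximalIdeal R) M ≃ₗ[R] ((M →ₗ[R] E) →ₗ[R] E)) := by
  haveI := hf.isInjective
  obtain ⟨e, -⟩ := LC.endEquiv hf
  exact ⟨((AdicCompletion.ofTensorProductEquivOfFiniteNoetherian (IsLocalRing.maximalIdeal R) M).symm.restrictScalars R).trans
    (LinearEquiv.ofBijective _ (dualTensor_bijective E E e.toLinearEquiv M))⟩

end Groth.Agent.Dual59
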