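import Groth.Agent.KFlatLib.Ring.DualizingDepth
import Groth.Agent.KFlatLib.Ring.DualizingLocalExt
import Groth.Agent.LC.DualCM
import Groth.Agent.LC.FiniteCrit
import Groth.Agent.LC.ExtDim

/-!
# Ext into a dualizing complex at a prime
-/

set_option linter.style.haveILetI false
set_option linter.unusedSectionVars false
set_option backward.isDefEq.respectTransparency false

universe u

open CategoryTheory CategoryTheory.Limits Pretriangulated IsLocalRing

open scoped TensorProduct

attribute [local instance] HasDerivedCategory.standard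

namespace Groth.Agent.Dual59

open Groth.Agent.KFlatLib

variable {A : Type u} [CommRing A]

lemma exists_LBase_inD_localized (q : Ideal A) [q.IsPrime] (M : Type u) [AddCommGroup M] [Module A M]
    [DTen.HasLBase (algebraMap A (Localization.AtPrime q))] :
    Nonempty ((DTen.LBase (algebraMap A (Localization.AtPrime q))).obj (Dual.inD A M) ≅
      Dual.inD (Localization.AtPrime q) (LocalizedModule q.primeCompl M)) := by
  haveI : Module.Flat A (Localization.AtPrime q) := IsLocalization.flat _ q.primeCompl
  obtain ⟨_, ⟨e⟩⟩ := exists_LBase_map_iso (B := Localization.AtPrime q) (Dual.inD A M)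
  obtain ⟨c⟩ := exists_extendLEquiv (B := Localization.AtPrime q) (ModuleCat.of A M)
  let t : Localization.AtPrime q ⊗[A] M ≃ₗ[Localization.AtPrime q] LocalizedModule q.primeCompl M :=
    (IsBaseChange.equiv (IsLocalizedModule.isBaseChange q.primeCompl (Localization.AtPrime q)
      (LocalizedModule.mkLinearMap q.primeCompl M)))
  exact ⟨e ≪≫ ((ModuleCat.extendScalars.{u, u, u} (algebraMap A _)).mapDerivedCategorySingleFunctor 0).app _ ≪≫
    (DerivedCategory.singleFunctor (ModuleCat.{u} (Localization.AtPrime q)) 0).mapIso (c.trans t).toModuleIso⟩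

variable [IsNoetherianRing A] {ω : Dual.D A}

/-- Ext of a finite module at a prime. -/
lemma exists_extLocEquiv (hω : Dual.IsDualizing A ω) (q : Ideal A) [q.IsPrime]
    [DTen.HasLBase (algebraMap A (Localization.AtPrime q))] (M : Type u) [AddCommGroup M] [Module A M]
    [Module.Finite A M] (i : ℤ) :
    Nonempty ((Dual.inD (Localization.AtPrime q) (LocalizedModule q.primeCompl M) ⟶
        ((DTen.LBase (algebraMap A (Localization.AtPrime q))).obj ω)⟦i⟧) ≃
      LocalizedModule q.primeCompl (Dual.inD A M ⟶ ω⟦i⟧)) := by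
  haveI : Module.Flat A (Localization.AtPrime q) := IsLocalization.flat _ q.primeCompl
  obtain ⟨a, b, -, _, _⟩ := exists_bounds_of_isDualizing hω
  obtain ⟨eM⟩ := exists_LBase_inD_localized q M
  obtain ⟨e⟩ := exists_homBaseChangeLEquiv (B := Localization.AtPrime q) (X := Dual.inD A M) (Y := ω)
    ((Groth.Agent.S6942.result A 0 (Dual.inD A M) M).2.2 inferInstance) a i
  exact ⟨eM.homFromEquiv.symm.trans (e.toEquiv.trans
    (LocalizedModule.equivTensorProduct q.primeCompl (Dual.inD A M ⟶ ω⟦i⟧)).symm.toEquiv)⟩

lemma isDualizing_localized (hω : Dual.IsDualizing A ω) (q : Ideal A) [q.IsPrime]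
    [DTen.HasLBase (algebraMap A (Localization.AtPrime q))] :
    Dual.IsDualizing (Localization.AtPrime q) ((DTen.LBase (algebraMap A (Localization.AtPrime q))).obj ω) := by
  haveI : Module.Flat A (Localization.AtPrime q) := IsLocalization.flat _ q.primeCompl
  exact isDualizing_LBase hω fun n _ =>
    ⟨n.comap (algebraMap A (Localization.AtPrime q)), IsLocalization.map_comap q.primeCompl _ n⟩

variable {n : PrimeSpectrum A → ℤ}

/-- The degree of the closed point of the local ring is the degree of the prime. -/
lemma extDegree_localized_closedPoint (hω : Dual.IsDualizing A ω) (hn : IsExtDegree ω n) (q : Ideal A)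
    [q.IsPrime] [DTen.HasLBase (algebraMap A (Localization.AtPrime q))]
    {m : PrimeSpectrum (Localization.AtPrime q) → ℤ}
    (hm : IsExtDegree ((DTen.LBase (algebraMap A (Localization.AtPrime q))).obj ω) m) :
    m (closedPoint (Localization.AtPrime q)) = n ⟨q, inferInstance⟩ := by
  obtain ⟨a, b, -, _, _⟩ := exists_bounds_of_isDualizing hω
  set p := closedPoint (Localization.AtPrime q) with hp
  haveI : Nontrivial (LocalizedModule p.asIdeal.primeCompl (Dual.inD (Localization.AtPrime q)
    (Localization.AtPrime q ⧸ p.asIdeal) ⟶ ((DTen.LBase (algebraMap A (Localization.AtPrime q))).obj ω)⟦m p⟧)) :=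
      (hm p _).2 rfl
  refine (hn ⟨q, inferInstance⟩ _).1 ?_
  obtain ⟨e⟩ := exists_localExtLEquiv (ω := ω) a q q (m p)
  by_contra hcon
  rw [not_nontrivial_iff_subsingleton] at hcon
  haveI : Subsingleton (LocalizedModule q.primeCompl (Dual.inD A (A ⧸ q) ⟶ ω⟦m p⟧)) := hcon
  have hsub := e.subsingleton
  rw [Localization.AtPrime.map_eq_maximalIdeal] at hsub
  exact not_subsingleton (LocalizedModule p.asIdeal.primeCompl (Dual.inD (Localization.AtPrime q)
    (Localization.AtPrime q ⧸ p.asIdeal) ⟶ ((DTen.LBase (algebraMap A (Localization.AtPrime q))).obj ω)⟦m p⟧))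
    (LocalizedModule.subsingleton_iff.2 fun φ => ⟨1, one_mem _, @Subsingleton.elim _ hsub _ _⟩)

/-- The top localized Ext reads off the depth. -/
theorem exists_top_degree (hω : Dual.IsDualizing A ω) (hn : IsExtDegree ω n) (M : Type u) [AddCommGroup M]
    [Module A M] [Module.Finite A M] (q : PrimeSpectrum A) (hq : q ∈ Module.support A M) :
    ∃ k : ℕ, LocCoh.depth (Localization.AtPrime q.asIdeal) (LocalizedModule q.asIdeal.primeCompl M) = k ∧
      (∀ i : ℤ, n q - k < i → Subsingleton (LocalizedModule q.asIdeal.primeCompl (Dual.inD A M ⟶ ω⟦i⟧))) ∧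
      Nontrivial (LocalizedModule q.asIdeal.primeCompl (Dual.inD A M ⟶ ω⟦n q - k⟧)) := by
  haveI := hasLBase (algebraMap A (Localization.AtPrime q.asIdeal))
  have hB := isDualizing_localized hω q.asIdeal
  obtain ⟨m, hm, -, -, -⟩ := exists_extDegree hB
  have hc := extDegree_localized_closedPoint hω hn q.asIdeal hm
  obtain ⟨a, b, -, _, _⟩ := exists_bounds_of_isDualizing hB
  haveI : Nontrivial (LocalizedModule q.asIdeal.primeCompl M) := Module.mem_support_iff.1 hq
  haveI : Module.Finite (Localization.AtPrime q.asIdeal) (LocalizedModule q.asIdeal.primeCompl M) :=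
    Module.Finite.of_isLocalizedModule q.asIdeal.primeCompl (LocalizedModule.mkLinearMap _ M)
  obtain ⟨k, hk⟩ := exists_depth_eq (A := Localization.AtPrime q.asIdeal)
    (LocalizedModule q.asIdeal.primeCompl M)
  obtain ⟨hvan, hnt⟩ := ext_of_depth hm a hB.finite_cohomology k _ hk
  rw [hc] at hvan hnt
  refine ⟨k, hk, fun i hi => ?_, ?_⟩
  · obtain ⟨e⟩ := exists_extLocEquiv hω q.asIdeal M i
    haveI := hvan i hi
    exact e.symm.subsingleton
  · obtain ⟨e⟩ := exists_extLocEquiv hω q.asIdeal M (n q - k)
    haveI := hnt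
    exact e.symm.nontrivial

/-- Localized Ext vanishes below the degrees of the support under the prime. -/
theorem subsingleton_localized_of_lt (hn : IsExtDegree ω n) (q : PrimeSpectrum A) (M : Type u)
    [AddCommGroup M] [Module A M] [Module.Finite A M] (i : ℤ)
    (hi : ∀ P ∈ Module.support A M, P ≤ q → i < n P) :
    Subsingleton (LocalizedModule q.asIdeal.primeCompl (Dual.inD A M ⟶ ω⟦i⟧)) := by
  have main : ∀ (I : Ideal A) (N : Type u) [AddCommGroup N] [Module A N] [Module.Finite A N],
      (∀ P ∈ Module.support A N, I ≤ P.asIdeal) → (∀ P ∈ Module.support A N, P ≤ q → i < n P) →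
      Subsingleton (LocalizedModule q.asIdeal.primeCompl (Dual.inD A N ⟶ ω⟦i⟧)) := by
    intro I
    induction I using WellFoundedGT.induction with
    | _ I ih =>
    intro N _ _ _
    refine IsNoetherianRing.induction_on_isQuotientEquivQuotientPrime A (M := N) inferInstance
      (motive := fun N _ _ _ => (∀ P ∈ Module.support A N, I ≤ P.asIdeal) →
        (∀ P ∈ Module.support A N, P ≤ q → i < n P) →
        Subsingleton (LocalizedModule q.asIdeal.primeCompl (Dual.inD A N ⟶ ω⟦i⟧))) ?_ ?_ ?_
    · intro N _ _ _ _ _ _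
      exact LocalizedModule.subsingleton_iff.2 fun f => ⟨1, one_mem _, by
        rw [((DerivedCategory.singleFunctor (ModuleCat.{u} A) 0).map_isZero
          (ModuleCat.isZero_of_subsingleton (ModuleCat.of A N))).eq_of_src f 0, smul_zero]⟩
    · intro N _ _ _ p e hI hN
      have hsupp : Module.support A N = PrimeSpectrum.zeroLocus (p.1 : Set A) := by
        rw [e.support_eq, Module.support_eq_zeroLocus, Ideal.annihilator_quotient]
      have hIp : I ≤ p.1 := hI p (hsupp ▸ (le_refl p.1 :))
      let z := Linear.homCongr A ((DerivedCategory.singleFunctor (ModuleCat.{u} A) 0).mapIso e.toModuleIso)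
        (Iso.refl (ω⟦i⟧))
      refine LocalizedModule.subsingleton_iff.2 fun f => ?_
      suffices h : ∃ t ∈ q.asIdeal.primeCompl, t • z f = 0 by
        obtain ⟨t, ht, htf⟩ := h
        exact ⟨t, ht, z.injective (by rw [map_smul, map_zero]; exact htf)⟩
      generalize z f = φ
      by_cases hpq : p.1 ≤ q.asIdeal
      · have hP : i < n p := hN p (hsupp ▸ (le_refl p.1 :)) hpq
        have hloc : Subsingleton (LocalizedModule p.1.primeCompl (Dual.inD A (A ⧸ p.1) ⟶ ω⟦i⟧)) :=
          not_nontrivial_iff_subsingleton.1 fun h' => hP.ne ((hn p i).1 h')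
        obtain ⟨s, hs, hsφ⟩ := LocalizedModule.subsingleton_iff.1 hloc φ
        let g : (A ⧸ p.1) →ₗ[A] (A ⧸ (p.1 ⊔ Ideal.span {s})) := Submodule.factor le_sup_left
        obtain ⟨ψ, hψ⟩ := exists_factor_inD (f := s • (LinearMap.id : (A ⧸ p.1) →ₗ[A] A ⧸ p.1)) (g := g) (by
          rw [← LinearMap.ker_eq_bot, LinearMap.ker_eq_bot']
          intro x hx
          obtain ⟨c, rfl⟩ := Submodule.Quotient.mk_surjective _ x
          change Submodule.Quotient.mk (s * c) = 0 at hx
          exact (Submodule.Quotient.mk_eq_zero _).2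
            ((p.2.mem_or_mem ((Submodule.Quotient.mk_eq_zero _).1 hx)).resolve_left hs))
          (Submodule.factor_surjective le_sup_left) (fun y => by
          obtain ⟨c, rfl⟩ := Submodule.Quotient.mk_surjective _ y
          refine ⟨fun hy => ?_, ?_⟩
          · obtain ⟨a, ha, b, hb, hab⟩ := Submodule.mem_sup.1 ((Submodule.Quotient.mk_eq_zero _).1 hy)
            obtain ⟨d, rfl⟩ := Ideal.mem_span_singleton.1 hb
            refine ⟨Submodule.Quotient.mk d, ?_⟩
            change Submodule.Quotient.mk (s * d) = _
            rw [Submodule.Quotient.eq, show c = a + s * d from hab.symm]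
            simpa using ha
          · rintro ⟨w, hw⟩
            obtain ⟨d, rfl⟩ := Submodule.Quotient.mk_surjective _ w
            rw [← hw]
            exact (Submodule.Quotient.mk_eq_zero _).2
              (Submodule.mem_sup_right (Ideal.mem_span_singleton.2 (dvd_mul_right s d)))) _ φ (by
          change (DerivedCategory.singleFunctor (ModuleCat.{u} A) 0).map (s • 𝟙 (ModuleCat.of A (A ⧸ p.1))) ≫ φ = 0
          rw [Functor.map_smul, CategoryTheory.Functor.map_id, Linear.smul_comp]
          exact (congrArg (s • ·) (Category.id_comp φ)).trans hsφ)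
        have hlt : I < p.1 ⊔ Ideal.span {s} := lt_of_le_of_lt hIp (lt_of_le_of_ne le_sup_left fun e =>
          hs (e ▸ Submodule.mem_sup_right (Ideal.mem_span_singleton_self s)))
        have hsupp' : Module.support A (A ⧸ (p.1 ⊔ Ideal.span {s})) =
            PrimeSpectrum.zeroLocus ((p.1 ⊔ Ideal.span {s} : Ideal A) : Set A) := by
          rw [Module.support_eq_zeroLocus, Ideal.annihilator_quotient]
        obtain ⟨t, ht, htψ⟩ := LocalizedModule.subsingleton_iff.1
          (ih _ hlt (A ⧸ (p.1 ⊔ Ideal.span {s})) (fun P hP => (hsupp' ▸ hP :))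
            (fun P hP hPq => hN P (by
            rw [hsupp'] at hP
            rw [hsupp]
            exact le_sup_left.trans (show p.1 ⊔ Ideal.span {s} ≤ P.asIdeal from hP)) hPq)) ψ
        exact ⟨t, ht, by rw [hψ, ← Linear.comp_smul, htψ, comp_zero]⟩
      · obtain ⟨t, htp, htq⟩ := SetLike.not_le_iff_exists.1 hpq
        exact ⟨t, htq, smul_hom_inD_eq_zero (fun x => by
          obtain ⟨x, rfl⟩ := Ideal.Quotient.mk_surjective x
          rw [Algebra.smul_def, Ideal.Quotient.algebraMap_eq, ← map_mul,
            Ideal.Quotient.eq_zero_iff_mem.2 (Ideal.mul_mem_right _ _ htp)]) φ⟩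
    · intro N₁ _ _ _ N₂ _ _ _ N₃ _ _ _ f g hf hg hfg h₁ h₃ hI hN
      have s1 := Module.support_subset_of_injective f hf
      have s3 := Module.support_subset_of_surjective g hg
      refine LocalizedModule.subsingleton_iff.2 fun φ => ?_
      obtain ⟨s, hs, hsφ⟩ := LocalizedModule.subsingleton_iff.1
        (h₁ (fun P hP => hI P (s1 hP)) (fun P hP => hN P (s1 hP))) (inDMap f ≫ φ)
      obtain ⟨ψ, hψ⟩ := exists_factor_inD hf hg hfg _ (s • φ) (by rw [Linear.comp_smul]; exact hsφ)
      obtain ⟨t, ht, htψ⟩ := LocalizedModule.subsingleton_iff.1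
        (h₃ (fun P hP => hI P (s3 hP)) (fun P hP => hN P (s3 hP))) ψ
      exact ⟨t * s, mul_mem ht hs, by rw [mul_smul, hψ, ← Linear.comp_smul, htψ, comp_zero]⟩
  exact main ⊥ M (fun _ _ => bot_le) hi

/-- A minimal prime of the support below a prime gives a nonzero localized Ext. -/
theorem nontrivial_localized_of_minimal (hω : Dual.IsDualizing A ω) (hn : IsExtDegree ω n) (M : Type u)
    [AddCommGroup M] [Module A M] [Module.Finite A M] {P q : PrimeSpectrum A}
    (hP : P.asIdeal ∈ (Module.annihilator A M).minimalPrimes) (hPq : P ≤ q) :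
    Nontrivial (LocalizedModule q.asIdeal.primeCompl (Dual.inD A M ⟶ ω⟦n P⟧)) := by
  obtain ⟨a, b, -, _, _⟩ := exists_bounds_of_isDualizing hω
  obtain ⟨-, f, hf⟩ := (isAssociatedPrime_iff_exists_injective_linearMap _ _).1
    (Module.associatedPrimes.minimalPrimes_annihilator_subset_associatedPrimes A M hP)
  exact Module.mem_support_iff.1 (Module.mem_support_mono hPq (Module.mem_support_iff.2
    (nontrivial_localized_of_injective hn a hω.finite_cohomology M P f hf)))

lemma exists_minimal_below (M : Type u) [AddCommGroup M] [Module A M] [Module.Finite A M]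
    {q : PrimeSpectrum A} (hq : q ∈ Module.support A M) :
    ∃ P : PrimeSpectrum A, P.asIdeal ∈ (Module.annihilator A M).minimalPrimes ∧ P ≤ q := by
  rw [Module.support_eq_zeroLocus] at hq
  obtain ⟨p, hp, hpq⟩ := Ideal.exists_minimalPrimes_le (show Module.annihilator A M ≤ q.asIdeal from hq)
  exact ⟨⟨p, hp.1.1⟩, hp, hpq⟩

lemma comap_mem_support (q : PrimeSpectrum A) (M : Type u) [AddCommGroup M] [Module A M] [Module.Finite A M]
    {Q : PrimeSpectrum (Localization.AtPrime q.asIdeal)}
    (hQ : Q ∈ Module.support (Localization.AtPrime q.asIdeal) (LocalizedModule q.asIdeal.primeCompl M)) :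
    Q.comap (algebraMap A (Localization.AtPrime q.asIdeal)) ∈ Module.support A M := by
  obtain ⟨z, hz⟩ := Module.mem_support_iff'.1 hQ
  induction z using LocalizedModule.induction_on with
  | h m s =>
    exact Module.mem_support_iff'.2 ⟨m, fun a ha h0 => hz (algebraMap A _ a) ha (by
      rw [algebraMap_smul, LocalizedModule.smul'_mk, h0, LocalizedModule.zero_mk])⟩

/-- The dimension of the localized module is read off the degree function. -/
theorem supportDim_localized_le_iff (hmono : StrictMono n)
    (hcov : ∀ p r : PrimeSpectrum A, p ⋖ r → n r = n p + 1) (M : Type u) [AddCommGroup M] [Module A M]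
    [Module.Finite A M] (q : PrimeSpectrum A) (k : ℕ) :
    Module.supportDim (Localization.AtPrime q.asIdeal) (LocalizedModule q.asIdeal.primeCompl M) ≤ k ↔
      ∀ P ∈ Module.support A M, P ≤ q → n q - n P ≤ k := by
  constructor
  · intro h P hP hPq
    obtain ⟨l, hl1, hl2, hl3⟩ := exists_chain_of_le hcov _ q rfl P hPq
    have hl : ∀ j, P ≤ l j := fun j => hl1.trans (l.monotone (Fin.zero_le j))
    let l' : LTSeries (Set.Ici P) := ⟨l.length, fun j => ⟨l j, hl j⟩, fun j => l.step j⟩
    have h1 : (l.length : ℕ∞) ≤ Order.height (⟨q, hPq⟩ : Set.Ici P) :=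
      Order.length_le_height (p := l') (Subtype.mk_le_mk.2 hl2.le)
    rw [LC.height_Ici_eq P q hPq] at h1
    have h2 : ((l.length : ℕ∞) : WithBot ℕ∞) ≤ ((k : ℕ∞) : WithBot ℕ∞) :=
      (WithBot.coe_le_coe.2 h1).trans ((LC.height_map_mk_le_supportDim_localized M P q hPq hP).trans h)
    have h3 : l.length ≤ k := by exact_mod_cast h2
    omega
  · intro h
    refine iSup_le fun s => ?_
    let c := fun j : Fin (s.length + 1) =>
      (s j).1.comap (algebraMap A (Localization.AtPrime q.asIdeal))
    have hle : ∀ j, c j ≤ q := fun j => by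
      have h1 : (s j).1.asIdeal ≤ maximalIdeal _ := le_maximalIdeal (s j).1.isPrime.ne_top
      exact (Ideal.comap_mono h1).trans_eq (IsLocalization.AtPrime.comap_maximalIdeal _ q.asIdeal)
    have hstep : ∀ j : Fin s.length, n (c j.castSucc) < n (c j.succ) := fun j => hmono (by
      refine lt_of_le_of_ne (Ideal.comap_mono (le_of_lt (s.step j))) fun he => (show s j.castSucc < s j.succ from s.step j).ne ?_
      apply Subtype.ext; apply PrimeSpectrum.ext
      have := congrArg (fun P : PrimeSpectrum A => P.asIdeal.map (algebraMap A (Localization.AtPrime q.asIdeal))) he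
      simpa [c, IsLocalization.map_comap q.asIdeal.primeCompl] using this)
    have h1 : ∀ j : ℕ, ∀ hj : j < s.length + 1, n (c 0) + j ≤ n (c ⟨j, hj⟩) := by
      intro j
      induction j with
      | zero => intro hj; simp
      | succ j ihj =>
        intro hj
        have h2 := ihj (by omega)
        have h3 := hstep ⟨j, by omega⟩
        simp only [Fin.castSucc_mk, Fin.succ_mk] at h3
        push_cast
        omega
    have h2 := h1 s.length (by omega)
    have h3 := h (c 0) (comap_mem_support q M (s 0).2) (hle 0)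
    have h4 := hmono.monotone (hle ⟨s.length, by omega⟩)
    exact_mod_cast (show s.length ≤ k by omega)

/-- A finite module is Cohen–Macaulay at a prime of its support iff one localized Ext survives. -/
theorem isCM_localized_iff (hω : Dual.IsDualizing A ω) (M : Type u) [AddCommGroup M] [Module A M]
    [Module.Finite A M] (q : PrimeSpectrum A) (hq : q ∈ Module.support A M) :
    LocCoh.IsCohenMacaulayModule (Localization.AtPrime q.asIdeal) (LocalizedModule q.asIdeal.primeCompl M) ↔
      ∀ i j : ℤ, Nontrivial (LocalizedModule q.asIdeal.primeCompl (Dual.inD A M ⟶ ω⟦i⟧)) →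
        Nontrivial (LocalizedModule q.asIdeal.primeCompl (Dual.inD A M ⟶ ω⟦j⟧)) → i = j := by
  obtain ⟨n, hn, hcov, hmono, -⟩ := exists_extDegree hω
  obtain ⟨k, hk, hvan, hnt⟩ := exists_top_degree hω hn M q hq
  haveI : Nontrivial (LocalizedModule q.asIdeal.primeCompl M) := Module.mem_support_iff.1 hq
  haveI : Module.Finite (Localization.AtPrime q.asIdeal) (LocalizedModule q.asIdeal.primeCompl M) :=
    Module.Finite.of_isLocalizedModule q.asIdeal.primeCompl (LocalizedModule.mkLinearMap _ M)
  have key := supportDim_localized_le_iff hmono hcov M q k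
  unfold LocCoh.IsCohenMacaulayModule
  rw [hk]
  constructor
  · intro h
    suffices H : ∀ i : ℤ, Nontrivial (LocalizedModule q.asIdeal.primeCompl (Dual.inD A M ⟶ ω⟦i⟧)) → i = n q - k from
      fun i j hi hj => (H i hi).trans (H j hj).symm
    intro i hi
    have hle : i ≤ n q - k := le_of_not_gt fun hlt => not_subsingleton _ (hvan i hlt)
    have hge : n q - k ≤ i := le_of_not_gt fun hlt =>
      not_subsingleton _ (subsingleton_localized_of_lt hn q M i fun P hP hPq => by
        have := key.1 h.le P hP hPq
        omega)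
    omega
  · intro h
    refine le_antisymm (key.2 fun P hP hPq => ?_) ?_
    · obtain ⟨P', hP', hP'P⟩ := exists_minimal_below M hP
      have h1 := h _ _ (nontrivial_localized_of_minimal hω hn M hP' (hP'P.trans hPq)) hnt
      have h2 := hmono.monotone hP'P
      omega
    · have := LC.depth_le_supportDim (R := Localization.AtPrime q.asIdeal)
        (M := LocalizedModule q.asIdeal.primeCompl M)
      rwa [hk] at this

end Groth.Agent.Dual59
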