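import Groth.Agent.Dual59.DualizingLoc
import Groth.Agent.KFlatLib.Ring.Dualizing
import Groth.Agent.LC.GorDualizing
import Mathlib.RingTheory.Spectrum.Prime.FreeLocus
import Mathlib.RingTheory.Spectrum.Prime.Module

/-!
# Cohen–Macaulay and Gorenstein loci of rings with a dualizing complex
-/

set_option linter.style.haveILetI false
set_option linter.unusedSectionVars false
set_option backward.isDefEq.respectTransparency false

universe u

open CategoryTheory CategoryTheory.Limits Pretriangulated IsLocalRing

open scoped TensorProduct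

attribute [local instance] HasDerivedCategory.standard

namespace Groth.Agent.Dual59

open Groth.Agent.KFlatLib

variable {A : Type u} [CommRing A] [IsNoetherianRing A] {ω : Dual.D A}

lemma isOpen_atMostOne {E : ℤ → Type*} [∀ i, AddCommGroup (E i)] [∀ i, Module A (E i)]
    [∀ i, Module.Finite A (E i)] (a b : ℤ) (h : ∀ i, i < a ∨ b < i → Subsingleton (E i)) :
    IsOpen {q : PrimeSpectrum A | ∀ i j : ℤ, Nontrivial (LocalizedModule q.asIdeal.primeCompl (E i)) →
      Nontrivial (LocalizedModule q.asIdeal.primeCompl (E j)) → i = j} := by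
  let S := ((Finset.Icc a b) ×ˢ (Finset.Icc a b)).filter fun ij => ij.1 ≠ ij.2
  have hrange : ∀ (q : PrimeSpectrum A) (i : ℤ),
      Nontrivial (LocalizedModule q.asIdeal.primeCompl (E i)) → i ∈ Finset.Icc a b := by
    intro q i hi
    by_contra hc
    rw [Finset.mem_Icc] at hc
    haveI := h i (by omega)
    exact not_subsingleton (LocalizedModule q.asIdeal.primeCompl (E i))
      (LocalizedModule.subsingleton_iff.2 fun x => ⟨1, one_mem _, Subsingleton.elim _ _⟩)
  have : {q : PrimeSpectrum A | ∀ i j : ℤ, Nontrivial (LocalizedModule q.asIdeal.primeCompl (E i)) →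
      Nontrivial (LocalizedModule q.asIdeal.primeCompl (E j)) → i = j} =
      (⋃ ij ∈ (S : Set (ℤ × ℤ)), Module.support A (E ij.1) ∩ Module.support A (E ij.2))ᶜ := by
    ext q
    simp only [Set.mem_setOf_eq, Set.mem_compl_iff, Set.mem_iUnion, not_exists, Set.mem_inter_iff,
      Module.mem_support_iff, not_and]
    constructor
    · intro hq ij hij h1 h2
      exact (Finset.mem_filter.1 hij).2 (hq _ _ h1 h2)
    · intro hq i j hi hj
      by_contra hne
      exact hq (i, j) (Finset.mem_filter.2 ⟨Finset.mem_product.2 ⟨hrange q i hi, hrange q j hj⟩, hne⟩) hi hj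
  rw [this]
  exact (Set.Finite.isClosed_biUnion S.finite_toSet fun ij _ =>
    Module.isClosed_support.inter Module.isClosed_support).isOpen_compl

variable (hω : Dual.IsDualizing A ω)

include hω in
theorem finite_hom (M : Type u) [AddCommGroup M] [Module A M] [Module.Finite A M] (i : ℤ) :
    Module.Finite A (Dual.inD A M ⟶ ω⟦i⟧) := by
  obtain ⟨a, b, -, _, _⟩ := exists_bounds_of_isDualizing hω
  exact finite_hom_module ω a hω.finite_cohomology M i

include hω in
theorem isOpen_moduleLocus (M : Type u) [AddCommGroup M] [Module A M] [Module.Finite A M] :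
    IsOpen {p : PrimeSpectrum A | Subsingleton (LocalizedModule p.asIdeal.primeCompl M) ∨
      LocCoh.IsCohenMacaulayModule (Localization.AtPrime p.asIdeal) (LocalizedModule p.asIdeal.primeCompl M)} := by
  haveI := fun i => finite_hom hω M i
  obtain ⟨a, b, hab⟩ := hω.finite_injective_dimension
  convert isOpen_atMostOne (A := A) (E := fun i : ℤ => (Dual.inD A M ⟶ ω⟦i⟧)) a b (fun i hi => hab M i hi) using 1
  ext q
  by_cases hq : q ∈ Module.support A M
  · simp only [Set.mem_setOf_eq, or_iff_right (fun h => not_subsingleton_iff_nontrivial.2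
      (Module.mem_support_iff.1 hq) h)]
    exact isCM_localized_iff hω M q hq
  · simp only [Set.mem_setOf_eq]
    refine iff_of_true (Or.inl (Module.notMem_support_iff.1 hq)) fun i j hi => ?_
    exact absurd (support_hom_subset M (ω⟦i⟧) (Module.mem_support_iff.2 hi)) hq

include hω in
theorem isCM_localized_minimal (M : Type u) [AddCommGroup M] [Module A M] [Module.Finite A M]
    (P : PrimeSpectrum A) (hP : P.asIdeal ∈ (Module.annihilator A M).minimalPrimes) :
    P ∈ Module.support A M ∧
      LocCoh.IsCohenMacaulayModule (Localization.AtPrime P.asIdeal) (LocalizedModule P.asIdeal.primeCompl M) := by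
  have hPs : P ∈ Module.support A M := by rw [Module.support_eq_zeroLocus]; exact hP.1.2
  obtain ⟨n, hn, hcov, hmono, -⟩ := exists_extDegree hω
  refine ⟨hPs, (isCM_localized_iff hω M P hPs).2 ?_⟩
  suffices h : ∀ i : ℤ, Nontrivial (LocalizedModule P.asIdeal.primeCompl (Dual.inD A M ⟶ ω⟦i⟧)) → i = n P from
    fun i j hi hj => (h i hi).trans (h j hj).symm
  intro i hi
  obtain ⟨k, -, hvan, -⟩ := exists_top_degree hω hn M P hPs
  have h1 : i ≤ n P - k := le_of_not_gt fun hlt => not_subsingleton _ (hvan i hlt)
  have h2 : n P ≤ i := le_of_not_gt fun hlt =>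
    not_subsingleton _ (subsingleton_localized_of_lt hn P M i fun Q hQ hQP => by
      have : Q = P := by
        rw [Module.support_eq_zeroLocus] at hQ
        exact le_antisymm hQP (hP.2 ⟨Q.isPrime, hQ⟩ hQP)
      rw [this]; exact hlt)
  omega

include hω in
theorem dense_moduleLocus (M : Type u) [AddCommGroup M] [Module A M] [Module.Finite A M] :
    Module.support A M ⊆ closure ({p : PrimeSpectrum A | LocCoh.IsCohenMacaulayModule
      (Localization.AtPrime p.asIdeal) (LocalizedModule p.asIdeal.primeCompl M)} ∩ Module.support A M) := by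
  intro q hq
  obtain ⟨P, hP, hPq⟩ := exists_minimal_below M hq
  obtain ⟨h1, h2⟩ := isCM_localized_minimal hω M P hP
  refine closure_mono (s := {P}) ?_ ((PrimeSpectrum.le_iff_specializes P q).1 hPq).mem_closure
  exact Set.singleton_subset_iff.2 ⟨h2, h1⟩

omit [IsNoetherianRing A] in
lemma isCM_self_iff [IsNoetherianRing A] (q : PrimeSpectrum A) :
    LocCoh.IsCohenMacaulayLocalRing (Localization.AtPrime q.asIdeal) ↔
      LocCoh.IsCohenMacaulayModule (Localization.AtPrime q.asIdeal) (LocalizedModule q.asIdeal.primeCompl A) :=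
  ⟨fun h => h.supportDim_eq_depth, fun h => { supportDim_eq_depth := h }⟩

lemma support_self (q : PrimeSpectrum A) : q ∈ Module.support A A :=
  Module.mem_support_iff.2 (inferInstanceAs (Nontrivial (Localization.AtPrime q.asIdeal)))

include hω in
theorem isCM_ring_iff (q : PrimeSpectrum A) :
    LocCoh.IsCohenMacaulayLocalRing (Localization.AtPrime q.asIdeal) ↔
      ∀ i j : ℤ, Nontrivial (LocalizedModule q.asIdeal.primeCompl (Dual.HD A ω i)) →
        Nontrivial (LocalizedModule q.asIdeal.primeCompl (Dual.HD A ω j)) → i = j := by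
  rw [isCM_self_iff q, isCM_localized_iff hω A q (support_self q)]
  have key : ∀ i, Nontrivial (LocalizedModule q.asIdeal.primeCompl (Dual.inD A A ⟶ ω⟦i⟧)) ↔
      Nontrivial (LocalizedModule q.asIdeal.primeCompl (Dual.HD A ω i)) := fun i => by
    obtain ⟨e⟩ := exists_homRingLEquiv ω i
    rw [← Module.mem_support_iff, ← Module.mem_support_iff, e.support_eq]
  simp only [key]

include hω in
theorem isOpen_cmLocus :
    IsOpen {p : PrimeSpectrum A | LocCoh.IsCohenMacaulayLocalRing (Localization.AtPrime p.asIdeal)} := by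
  haveI := hω.finite_cohomology
  obtain ⟨a, b, -, _, _⟩ := exists_bounds_of_isDualizing hω
  simp only [isCM_ring_iff hω]
  refine isOpen_atMostOne (A := A) a b fun i hi => ModuleCat.subsingleton_of_isZero ?_
  rcases hi with hi | hi
  · exact DerivedCategory.isZero_of_isGE ω a i hi
  · exact DerivedCategory.isZero_of_isLE ω b i hi

include hω in
theorem dense_cmLocus :
    Dense {p : PrimeSpectrum A | LocCoh.IsCohenMacaulayLocalRing (Localization.AtPrime p.asIdeal)} := fun q =>
  closure_mono (fun p hp => (isCM_self_iff p).2 hp.1) (dense_moduleLocus hω A (support_self q))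

include hω in
theorem isGorenstein_localized_iff (q : PrimeSpectrum A) :
    LocCoh.IsGorensteinLocalRing (Localization.AtPrime q.asIdeal) ↔
      (∀ i j : ℤ, Nontrivial (LocalizedModule q.asIdeal.primeCompl (Dual.HD A ω i)) →
        Nontrivial (LocalizedModule q.asIdeal.primeCompl (Dual.HD A ω j)) → i = j) ∧
      ∀ i : ℤ, q ∈ Module.freeLocus A (Dual.HD A ω i) := by
  let B := Localization.AtPrime q.asIdeal
  haveI := hasLBase (algebraMap A B)
  haveI : Module.Flat A B := IsLocalization.flat _ q.asIdeal.primeCompl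
  haveI : DTen.HasLTen B := hasLTen B
  haveI : DTen.HasRHom B := hasRHom
  have hB := isDualizing_localized hω q.asIdeal
  obtain ⟨ωB, hωB⟩ : ∃ K, K = (DTen.LBase (algebraMap A B)).obj ω := ⟨_, rfl⟩
  rw [← hωB] at hB
  have hH : ∀ i, Nonempty (Dual.HD B ωB i ≃ₗ[B] B ⊗[A] Dual.HD A ω i) := fun i =>
    hωB ▸ exists_hdLBaseLEquiv ω i
  have hnt : ∀ i, Nontrivial (LocalizedModule q.asIdeal.primeCompl (Dual.HD A ω i)) ↔
      Nontrivial (Dual.HD B ωB i) := fun i => by
    obtain ⟨e⟩ := hH i
    exact Equiv.nontrivial_congr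
      ((LocalizedModule.equivTensorProduct q.asIdeal.primeCompl _).toEquiv.trans e.toEquiv.symm)
  have hfree : ∀ i, q ∈ Module.freeLocus A (Dual.HD A ω i) ↔ Module.Free B (Dual.HD B ωB i) := fun i => by
    obtain ⟨e⟩ := hH i
    rw [Module.mem_freeLocus_iff_tensor q B]
    exact ⟨fun h => Module.Free.of_equiv e.symm, fun h => Module.Free.of_equiv e⟩
  simp only [hnt, hfree]
  constructor
  · intro hG
    obtain ⟨m, ⟨e⟩⟩ := exists_iso_shift_of_isDualizing ((LC.gorenstein_iff_isDualizing B).1 hG) hB
    have hiso : ∀ i, Nonempty (Dual.HD B ωB i ≃ₗ[B] Dual.HD B (Dual.inD B B) (i + m)) := fun i => by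
      obtain ⟨es⟩ := exists_hdShiftLEquiv (Dual.inD B B) m i (i + m) (by omega)
      exact ⟨((DerivedCategory.homologyFunctor (ModuleCat.{u} B) i).mapIso e).toLinearEquiv.trans es⟩
    have hz : ∀ i, i + m ≠ 0 → Subsingleton (Dual.HD B (Dual.inD B B) (i + m)) := fun i hi =>
      ModuleCat.subsingleton_of_isZero (by
        rcases lt_or_gt_of_ne hi with h | h
        · exact DerivedCategory.isZero_of_isGE _ 0 _ h
        · exact DerivedCategory.isZero_of_isLE _ 0 _ h)
    refine ⟨fun i j hi hj => ?_, fun i => ?_⟩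
    · have h0 : ∀ k, Nontrivial (Dual.HD B ωB k) → k + m = 0 := fun k hk => by
        by_contra hne
        haveI := hz k hne
        obtain ⟨e⟩ := hiso k
        exact not_subsingleton _ e.injective.subsingleton
      have := h0 i hi
      have := h0 j hj
      omega
    · obtain ⟨e⟩ := hiso i
      by_cases hi : i + m = 0
      · rw [hi] at e
        obtain ⟨e0⟩ := exists_hdSingleLEquiv (ModuleCat.of B B) 0
        exact Module.Free.of_equiv (e.trans e0).symm
      · haveI := hz i hi
        haveI := e.injective.subsingleton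
        exact inferInstance
  · rintro ⟨huniq, hf⟩
    obtain ⟨j, hj⟩ : ∃ j, Nontrivial (Dual.HD B ωB j) := by
      by_contra! hall
      obtain ⟨a, b, -, _, _⟩ := exists_bounds_of_isDualizing hB
      haveI : ωB.IsLE (a - 1) := (DerivedCategory.isLE_iff _ _).2 fun i _ =>
        @ModuleCat.isZero_of_subsingleton _ _ _ (hall i)
      have hz : IsZero ωB := DerivedCategory.TStructure.t.isZero ωB (a - 1) a (by omega)
      exact zero_ne_one (α := B) (hB.toEnd_bijective.1 (hz.eq_of_src _ _))
    have hzero : ∀ i, i ≠ j → Subsingleton (Dual.HD B ωB i) := fun i hi =>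
      not_nontrivial_iff_subsingleton.1 fun h => hi (huniq i j h hj)
    haveI : ωB.IsGE j := (DerivedCategory.isGE_iff _ _).2 fun i hi =>
      @ModuleCat.isZero_of_subsingleton _ _ _ (hzero i (by omega))
    haveI : ωB.IsLE j := (DerivedCategory.isLE_iff _ _).2 fun i hi =>
      @ModuleCat.isZero_of_subsingleton _ _ _ (hzero i (by omega))
    obtain ⟨V, ⟨eV⟩⟩ := DerivedCategory.exists_iso_singleFunctor_obj_of_isGE_of_isLE ωB j
    obtain ⟨eh⟩ := exists_hdSingleLEquiv V j
    let eHV := ((DerivedCategory.homologyFunctor (ModuleCat.{u} B) j).mapIso eV).toLinearEquiv.trans eh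
    haveI : Module.Free B V := haveI := hf j; Module.Free.of_equiv eHV
    haveI : Nontrivial V := eHV.symm.toEquiv.nontrivial
    let bs := Module.Free.chooseBasis B V
    obtain ⟨i0⟩ := bs.index_nonempty
    let ι : ModuleCat.of B B ⟶ V := ModuleCat.ofHom (LinearMap.toSpanSingleton B V (bs i0))
    let π : V ⟶ ModuleCat.of B B := ModuleCat.ofHom (bs.coord i0)
    have hιπ : ι ≫ π = 𝟙 _ := ModuleCat.hom_ext (LinearMap.ext_ring (by simp [ι, π]))
    let eY : (DerivedCategory.singleFunctor (ModuleCat.{u} B) 0).obj V ≅ ωB⟦j⟧ :=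
      (((SingleFunctors.shiftIso (DerivedCategory.singleFunctors (ModuleCat.{u} B)) j 0 j (by omega)).app V).symm ≪≫
        (shiftFunctor (Dual.D B) j).mapIso eV.symm)
    obtain ⟨a, b, hab⟩ := hB.finite_injective_dimension
    refine { exists_hasInjectiveDimensionLT := ⟨(b - j).toNat + 1, ?_⟩ }
    rw [hasInjectiveDimensionLT_iff]
    intro i hi Y e
    haveI : Subsingleton (Abelian.Ext.{u} Y (ModuleCat.of B B) i) := by
      rw [← LC.subsingleton_hom_shift_nat_iff B Y B i]
      haveI := hab Y ((i : ℤ) + j) (Or.inr (by have := Int.self_le_toNat (b - j); omega))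
      haveI : Subsingleton (Dual.inD B Y ⟶ ((DerivedCategory.singleFunctor (ModuleCat.{u} B) 0).obj V)⟦(i : ℤ)⟧) :=
        ((Iso.refl _).homCongr ((shiftFunctor (Dual.D B) (i : ℤ)).mapIso eY ≪≫
          ((shiftFunctorAdd' (Dual.D B) j (i : ℤ) _ (add_comm j (i : ℤ))).app ωB).symm)).subsingleton
      refine subsingleton_of_forall_eq 0 fun φ => ?_
      have h0 : φ ≫ ((DerivedCategory.singleFunctor (ModuleCat.{u} B) 0).map ι)⟦(i : ℤ)⟧' = 0 := Subsingleton.elim _ _
      have h1 : φ = (φ ≫ ((DerivedCategory.singleFunctor (ModuleCat.{u} B) 0).map ι)⟦(i : ℤ)⟧') ≫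
          ((DerivedCategory.singleFunctor (ModuleCat.{u} B) 0).map π)⟦(i : ℤ)⟧' := by
        rw [Category.assoc, ← Functor.map_comp, ← Functor.map_comp, hιπ]
        simp
      rw [h1, h0, zero_comp]
    exact Subsingleton.elim _ _

include hω in
theorem isOpen_gorLocus :
    IsOpen {p : PrimeSpectrum A | LocCoh.IsGorensteinLocalRing (Localization.AtPrime p.asIdeal)} := by
  haveI := hω.finite_cohomology
  haveI : ∀ i, Module.FinitePresentation A (Dual.HD A ω i) := fun i => Module.finitePresentation_of_finite A _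
  obtain ⟨a, b, -, _, _⟩ := exists_bounds_of_isDualizing hω
  have hz : ∀ i, i < a ∨ b < i → Subsingleton (Dual.HD A ω i) := fun i hi => ModuleCat.subsingleton_of_isZero (by
    rcases hi with hi | hi
    · exact DerivedCategory.isZero_of_isGE ω a i hi
    · exact DerivedCategory.isZero_of_isLE ω b i hi)
  convert (isOpen_atMostOne (A := A) (E := fun i => Dual.HD A ω i) a b hz).inter
    (isOpen_biInter_finset (s := Finset.Icc a b) fun i _ => Module.isOpen_freeLocus (R := A) (M := Dual.HD A ω i))
    using 1
  ext q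
  simp only [Set.mem_setOf_eq, Set.mem_inter_iff, Set.mem_iInter, isGorenstein_localized_iff hω q]
  refine and_congr_right fun _ => ⟨fun h i _ => h i, fun h i => ?_⟩
  by_cases hi : i ∈ Finset.Icc a b
  · exact h i hi
  · rw [Finset.mem_Icc] at hi
    haveI := hz i (by omega)
    rw [Module.mem_freeLocus]
    haveI : Subsingleton (LocalizedModule q.asIdeal.primeCompl (Dual.HD A ω i)) :=
      LocalizedModule.subsingleton_iff.2 fun x => ⟨1, one_mem _, Subsingleton.elim _ _⟩
    infer_instance

end Groth.Agent.Dual59
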