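import Groth.Agent.Dual59.KillLocal
import Groth.Agent.LC.InjNoeth

/-!
# Modules vanishing on an open, and torsion injective hulls on affine opens
-/

set_option linter.style.haveILetI false
set_option linter.unusedSectionVars false
set_option backward.isDefEq.respectTransparency false
set_option backward.isDefEq.respectTransparency.types false

universe u

open CategoryTheory CategoryTheory.Limits CategoryTheory.Pretriangulated AlgebraicGeometry
  TopologicalSpace Opposite

attribute [local instance] HasDerivedCategory.standard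

namespace Groth.Agent.Dual59

open KFlatLib PerfD40

variable {X : Scheme.{u}}

/-- The module vanishes on the open. -/
def VanM (U : X.Opens) (M : X.Modules) : Prop :=
  IsZero ((Scheme.Modules.restrictFunctor U.ι).obj M)

lemma vanM_of_mono {U : X.Opens} {M N : X.Modules} (ι : N ⟶ M) [Mono ι] (h : VanM U M) : VanM U N := by
  haveI : PreservesFiniteLimits (Scheme.Modules.restrictFunctor U.ι) := inferInstance
  exact IsZero.of_mono ((Scheme.Modules.restrictFunctor U.ι).map ι) h

lemma vanM_of_iso {U : X.Opens} {M N : X.Modules} (e : M ≅ N) (h : VanM U M) : VanM U N :=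
  h.of_iso ((Scheme.Modules.restrictFunctor U.ι).mapIso e.symm)

lemma vanM_of_isZero {U : X.Opens} {M : X.Modules} (h : IsZero M) : VanM U M :=
  (Scheme.Modules.restrictFunctor U.ι).map_isZero h

/-- Sections of a module vanishing on an open. -/
lemma app_eq_zero_of_vanM {U O : X.Opens} {M : X.Modules} (h : VanM U M) (hO : O ≤ U)
    (x : Γ(M, O)) : x = 0 :=
  app_eq_zero_of_cover (fun _ : Unit => U) O (fun _ hy => Opens.mem_iSup.2 ⟨⟨⟩, hO hy⟩)
    (fun _ => h) x

lemma vanM_of_sections {U : X.Opens} {M : X.Modules} (h : ∀ O ≤ U, ∀ x : Γ(M, O), x = 0) :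
    VanM U M := by
  rw [VanM, IsZero.iff_id_eq_zero]
  exact Scheme.Modules.hom_ext _ _ fun O => by
    ext x
    exact h _ (U.ι_image_le O) x

lemma vanM_of_cover {U : X.Opens} {M : X.Modules} {κ : Type*} (W : κ → X.Opens) (hU : U ≤ ⨆ k, W k)
    (h : ∀ k, VanM (W k) M) : VanM U M :=
  vanM_of_sections fun O hO x => app_eq_zero_of_cover W O (hO.trans hU) h x

lemma isZero_of_vanM_cover {M : X.Modules} {κ : Type*} (W : κ → X.Opens)
    (hW : ∀ x : X, ∃ k, x ∈ W k) (h : ∀ k, VanM (W k) M) : IsZero M := by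
  rw [IsZero.iff_id_eq_zero]
  exact Scheme.Modules.hom_ext _ _ fun O => by
    ext x
    exact app_eq_zero_of_cover W O (fun y _ => Opens.mem_iSup.2 (hW y)) h x

lemma vanM_of_range {Z : Scheme.{u}} (j : Z ⟶ X) [IsOpenImmersion j] {U : X.Opens}
    (hj : j.opensRange = U) {M : X.Modules}
    (h : IsZero ((Scheme.Modules.restrictFunctor j).obj M)) : VanM U M := by
  refine vanM_of_sections fun O hO x => ?_
  have hO' : j ''ᵁ (j ⁻¹ᵁ O) = O := by
    rw [Scheme.Hom.image_preimage_eq_opensRange_inf, hj, inf_eq_right.2 hO]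
  have h0 : (𝟙 ((Scheme.Modules.restrictFunctor j).obj M)) = 0 := h.eq_of_src _ _
  have hz : ∀ y : Γ(M, j ''ᵁ (j ⁻¹ᵁ O)), y = 0 := fun y =>
    congr($(congrArg (fun q : (Scheme.Modules.restrictFunctor j).obj M ⟶
      (Scheme.Modules.restrictFunctor j).obj M => q.app (j ⁻¹ᵁ O)) h0) y)
  rw [hO'] at hz
  exact hz x

/-- A quasi-compact open inside an affine is a finite union of basic opens. -/
lemma exists_basicOpens {Y : Scheme.{u}} {W : Y.Opens} (hW : IsAffineOpen W) (V : Y.Opens)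
    (hWV : IsCompact ((W ⊓ V : Y.Opens) : Set Y)) :
    ∃ l : List Γ(Y, W), (W ⊓ V ≤ ⨆ s : {s // s ∈ l}, Y.basicOpen s.1) ∧
      ∀ s ∈ l, Y.basicOpen s ≤ V := by
  classical
  have h : ∀ y : {y : Y // y ∈ W ⊓ V}, ∃ s : Γ(Y, W), Y.basicOpen s ≤ W ⊓ V ∧ y.1 ∈ Y.basicOpen s :=
    fun y => hW.exists_basicOpen_le ⟨y.1, y.2⟩ y.2.1
  choose s hs hmem using h
  obtain ⟨T, hT⟩ := hWV.elim_finite_subcover (fun y => (Y.basicOpen (s y) : Set Y))
    (fun y => (Y.basicOpen (s y)).isOpen) fun y hy => Set.mem_iUnion.2 ⟨⟨y, hy⟩, hmem _⟩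
  refine ⟨T.toList.map s, fun y hy => ?_, fun t ht => ?_⟩
  · obtain ⟨i, hi, hy'⟩ := Set.mem_iUnion₂.1 (hT hy)
    exact Opens.mem_iSup.2 ⟨⟨s i, List.mem_map.2 ⟨i, Finset.mem_toList.2 hi, rfl⟩⟩, hy'⟩
  · obtain ⟨i, -, rfl⟩ := List.mem_map.1 ht
    exact (hs i).trans inf_le_right

/-- A torsion module embeds in a torsion injective. -/
lemma exists_torsion_injective {R : CommRingCat.{u}} [IsNoetherianRing R] (l : List R)
    (M : ModuleCat.{u} R) (htor : ∀ s ∈ l, ∀ x : M, ∃ m : ℕ, s ^ m • x = 0) :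
    ∃ (I : ModuleCat.{u} R) (v : M ⟶ I), Injective I ∧ Mono v ∧
      ∀ s ∈ l, ∀ x : I, ∃ m : ℕ, s ^ m • x = 0 := by
  classical
  let E := Injective.under M
  let v₀ : M ⟶ E := Injective.ι M
  let J : Ideal R := Ideal.span (l.toFinset : Set R)
  let T : Submodule R E := ⨆ n : ℕ, Submodule.torsionBySet R E ((J ^ n : Ideal R) : Set R)
  have hdir : Directed (· ≤ ·)
      fun n : ℕ => Submodule.torsionBySet R E ((J ^ n : Ideal R) : Set R) :=
    fun a b => ⟨max a b, Submodule.torsionBySet_le_torsionBySet_of_subset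
      (Ideal.pow_le_pow_right (le_max_left a b)), Submodule.torsionBySet_le_torsionBySet_of_subset
      (Ideal.pow_le_pow_right (le_max_right a b))⟩
  haveI : Module.Injective R E :=
    Module.injective_module_of_injective_object R E (inj := inferInstanceAs (Injective (Injective.under M)))
  haveI hT : Module.Injective R T := LC.injective_torsion J
  have hv : ∀ x : M, v₀.hom x ∈ T := fun x => by
    have hrad : J ≤ Ideal.radical (LinearMap.toSpanSingleton R E (v₀.hom x)).ker := Ideal.span_le.2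
      fun s hs => by
        obtain ⟨m, hm⟩ := htor s (List.mem_toFinset.1 hs) x
        refine ⟨m, ?_⟩
        show s ^ m • v₀.hom x = 0
        rw [← map_smul, hm]
        exact map_zero _
    obtain ⟨n, hn⟩ := Ideal.exists_pow_le_of_le_radical_of_fg hrad ⟨l.toFinset, rfl⟩
    exact Submodule.mem_iSup_of_mem n ((Submodule.mem_torsionBySet_iff _ _).2 fun a => hn a.2)
  refine ⟨ModuleCat.of R T, ModuleCat.ofHom (v₀.hom.codRestrict T hv),
    Module.injective_object_of_injective_module R T, ?_, fun s hs y => ?_⟩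
  · refine (ModuleCat.mono_iff_injective _).2 fun a b hab => ?_
    exact (ModuleCat.mono_iff_injective v₀).1 inferInstance (congrArg Subtype.val hab)
  · obtain ⟨n, hn⟩ := (Submodule.mem_iSup_of_directed _ hdir).1 y.2
    exact ⟨n, Subtype.ext ((Submodule.mem_torsionBySet_iff _ _).1 hn
      ⟨s ^ n, Ideal.pow_mem_pow (Ideal.subset_span (List.mem_toFinset.2 hs)) n⟩)⟩

variable {Y : Scheme.{u}} {W : Y.Opens} (hW : IsAffineOpen W) (V : Y.Opens)

/-- A module vanishing on `V` is torsion for the functions vanishing outside `V`. -/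
lemma torsion_of_vanM {M : Y.Modules} (hM : Coh.IsQCoh M) (hMV : VanM V M) (s : Γ(Y, W))
    (hs : Y.basicOpen s ≤ V)
    (x : (moduleSpecΓFunctor (R := Γ(Y, W))).obj ((Scheme.Modules.restrictFunctor hW.fromSpec).obj M)) :
    ∃ m : ℕ, s ^ m • x = 0 := by
  let N := (Scheme.Modules.restrictFunctor hW.fromSpec).obj M
  let y : Γ(N, ⊤) := x
  obtain ⟨m, hm⟩ := QCoh.exists_pow_smul_eq_zero (QCoh.isQCoh_restrict _ hM)
    (isAffineOpen_top (Spec Γ(Y, W))) ((Scheme.ΓSpecIso Γ(Y, W)).inv s) y (by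
      refine app_eq_zero_of_vanM hMV ?_ _
      refine (le_of_eq ?_).trans hs
      rw [← hW.fromSpec_image_basicOpen, basicOpen_eq_of_affine])
  refine ⟨m, ?_⟩
  show s ^ m • y = 0
  rw [Scheme.Modules.smul_Spec_def, map_pow, map_pow]
  have e : (Spec Γ(Y, W)).presheaf.map (⊤ : (Spec Γ(Y, W)).Opens).leTop.op
      ((Scheme.ΓSpecIso Γ(Y, W)).inv s) = (Scheme.ΓSpecIso Γ(Y, W)).inv s :=
    ConcreteCategory.congr_hom ((Spec Γ(Y, W)).presheaf.map_id _) _
  rw [e]
  exact hm

/-- The sheaf of a torsion module vanishes where the torsion is inverted. -/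
lemma vanM_tilde_basicOpen {R : CommRingCat.{u}} (I : ModuleCat.{u} R) (s : R)
    (htor : ∀ x : I, ∃ m : ℕ, s ^ m • x = 0) :
    VanM (X := Spec R) (PrimeSpectrum.basicOpen s) ((tilde.functor R).obj I) := by
  let D : (Spec R).Opens := PrimeSpectrum.basicOpen s
  have hD : IsAffineOpen D := IsAffineOpen.Spec_basicOpen s
  haveI : IsAffine (D : Scheme.{u}) := hD
  have h0 : ∀ y : Γ((tilde.functor R).obj I, D), y = 0 := fun y => by
    obtain ⟨⟨x, c⟩, hc⟩ := IsLocalizedModule.surj (Submonoid.powers s)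
      (tilde.toOpen I D).hom y
    obtain ⟨m, hm⟩ := htor x
    have hu := IsLocalizedModule.map_units (S := Submonoid.powers s) (tilde.toOpen I D).hom c
    have hu' := IsLocalizedModule.map_units (S := Submonoid.powers s) (tilde.toOpen I D).hom
      ⟨s ^ m, m, rfl⟩
    rw [Module.End.isUnit_iff] at hu hu'
    apply hu.injective
    rw [map_zero]
    apply hu'.injective
    rw [map_zero]
    show s ^ m • ((c : R) • y) = 0
    have hc' : (c : R) • y = (tilde.toOpen I D).hom x := hc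
    rw [hc']
    exact ((tilde.toOpen I D).hom.map_smul _ _).symm.trans ((congrArg _ hm).trans (map_zero _))
  rw [VanM, IsZero.iff_id_eq_zero]
  have hq : Coh.IsQCoh ((Scheme.Modules.restrictFunctor D.ι).obj ((tilde.functor R).obj I)) :=
    QCoh.isQCoh_restrict _ (inferInstanceAs (Coh.IsQCoh (tilde I)))
  refine QCoh.hom_eq_zero_of_cover hq hq _ (fun _ : Unit => ⊤) (fun _ => isAffineOpen_top _)
    (fun _ => ⟨⟨⟩, trivial⟩) fun _ y => ?_
  have hy : ∀ z : Γ((tilde.functor R).obj I, D.ι ''ᵁ ⊤), z = 0 := by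
    rw [D.ι_image_top]; exact h0
  exact hy y

/-- The sheaf of a torsion module vanishes over `V`. -/
lemma vanM_tilde_preimage (I : ModuleCat.{u} Γ(Y, W)) (l : List Γ(Y, W))
    (hV : W ⊓ V ≤ ⨆ s : {s // s ∈ l}, Y.basicOpen s.1)
    (htor : ∀ s ∈ l, ∀ x : I, ∃ m : ℕ, s ^ m • x = 0) :
    VanM (hW.fromSpec ⁻¹ᵁ V) ((tilde.functor Γ(Y, W)).obj I) := by
  refine vanM_of_cover (fun s : {s // s ∈ l} => PrimeSpectrum.basicOpen s.1) (fun z hz => ?_)
    fun s => vanM_tilde_basicOpen I s.1 (htor _ s.2)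
  have hzW : hW.fromSpec z ∈ W := by
    exact hW.opensRange_fromSpec.le ⟨z, rfl⟩
  obtain ⟨s, hs⟩ := Opens.mem_iSup.1 (hV ⟨hzW, hz⟩)
  refine Opens.mem_iSup.2 ⟨s, ?_⟩
  rw [← hW.fromSpec_preimage_basicOpen]
  exact hs

end Groth.Agent.Dual59
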