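import Mathlib.RingTheory.Finiteness.Basic
import Mathlib.Algebra.Module.BigOperators

/-!
# Finite generation from two charts

Sections on two charts glued along the locus where `σ` is inverted, with `τ = σ⁻¹` coming from the first
chart: finiteness of the twisted global sections and of the Čech cokernel gives finite generation of
the sections on the first chart.
-/

universe u

namespace Groth.Agent.Dual59

theorem finite_of_twoChart {A0 A1 A01 M0 M1 M01 : Type*} [CommRing A0] [CommRing A1] [CommRing A01]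
    [AddCommGroup M0] [Module A0 M0] [AddCommGroup M1] [Module A1 M1] [AddCommGroup M01]
    [Module A01 M01] (π0 : A0 →+* A01) (π1 : A1 →+* A01) (ρ0 : M0 →+ M01) (ρ1 : M1 →+ M01)
    (hρ0 : ∀ (a : A0) x, ρ0 (a • x) = π0 a • ρ0 x) (hρ1 : ∀ (a : A1) x, ρ1 (a • x) = π1 a • ρ1 x)
    (s : A1) (t : A0) (hst : π0 t * π1 s = 1)
    (hloc : ∀ c : M01, ∃ (n : ℕ) (y : M1), π1 s ^ n • c = ρ1 y)
    (hcoker : ∃ (B : Type u) (_ : CommRing B) (β0 : B →+* A0) (β1 : B →+* A1)
      (_ : π0.comp β0 = π1.comp β1) (ι : Type) (_ : Fintype ι) (C : ι → M01),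
      ∀ c : M01, ∃ (x : M0) (y : M1) (b : ι → B), c = ρ0 x + ρ1 y + ∑ e, π1 (β1 (b e)) • C e)
    (hglob : ∀ m : ℕ, ∃ V : Finset M0, ∀ x : M0, (∃ y, π1 s ^ m • ρ0 x = ρ1 y) →
      x ∈ Submodule.span A0 (V : Set M0)) :
    Module.Finite A0 M0 := by
  classical
  obtain ⟨B, _, β0, β1, hβ, ι, _, C, hC⟩ := hcoker
  choose n w hw using hloc
  let N := Finset.univ.sup fun e => n (C e)
  have hN : ∀ c : M01, ∃ (a : M0) (y : M1), π1 s ^ N • c = ρ1 y + π1 s ^ N • ρ0 a := by
    intro c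
    obtain ⟨x, y, b, rfl⟩ := hC c
    have he : ∀ e, ∃ z : M1, π1 s ^ N • π1 (β1 (b e)) • C e = ρ1 z := fun e => by
      obtain ⟨k, hk⟩ := Nat.exists_eq_add_of_le
        (Finset.le_sup (f := fun e => n (C e)) (Finset.mem_univ e))
      refine ⟨(s ^ k * β1 (b e)) • w (C e), ?_⟩
      rw [hρ1, map_mul, map_pow, show N = n (C e) + k from hk, pow_add, ← hw (C e), smul_smul, smul_smul]
      congr 1
      ring
    choose z hz using he
    refine ⟨x, s ^ N • y + ∑ e, z e, ?_⟩
    rw [map_add, map_sum, hρ1, map_pow, smul_add, smul_add, Finset.smul_sum,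
      Finset.sum_congr rfl fun e _ => hz e]
    abel
  obtain ⟨V, hV⟩ := hglob (N + 1)
  refine ⟨⟨V, top_unique fun x _ => ?_⟩⟩
  have key : ∀ (k : ℕ) (x : M0), (∃ y, π1 s ^ (N + 1 + k) • ρ0 x = ρ1 y) →
      x ∈ Submodule.span A0 (V : Set M0) := by
    intro k
    induction k with
    | zero => exact fun x hx => hV x hx
    | succ k ih =>
      rintro x ⟨y, hy⟩
      obtain ⟨a, y', hd⟩ := hN (π1 s ^ (k + 1) • ρ0 x)
      have ha : a ∈ Submodule.span A0 (V : Set M0) := hV a ⟨y - s • y', by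
        rw [map_sub, hρ1, pow_succ', mul_smul, eq_sub_of_add_eq' hd.symm, smul_sub, ← hy]
        simp only [smul_smul]
        congr 2
        ring⟩
      have hx : x - t ^ (k + 1) • a ∈ Submodule.span A0 (V : Set M0) := ih _ ⟨y', by
        rw [map_sub, hρ0, map_pow, smul_sub, eq_sub_iff_add_eq.2 hd.symm, smul_smul, smul_smul]
        have h1 : π1 s ^ (N + 1 + k) * π0 t ^ (k + 1) = π1 s ^ N := by
          rw [show N + 1 + k = N + (k + 1) by ring, pow_add, mul_assoc, ← mul_pow,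
            mul_comm (π1 s), hst, one_pow, mul_one]
        rw [h1, show N + 1 + k = N + (k + 1) by ring, pow_add]⟩
      simpa using Submodule.add_mem _ hx (Submodule.smul_mem _ (t ^ (k + 1)) ha)
  by_cases h : N + 1 ≤ n (ρ0 x)
  · obtain ⟨k, hk⟩ := Nat.exists_eq_add_of_le h
    exact key k x ⟨w (ρ0 x), by rw [← hk]; exact hw _⟩
  · obtain ⟨k, hk⟩ := Nat.exists_eq_add_of_le (le_of_not_ge h)
    exact hV x ⟨s ^ k • w (ρ0 x), by
      rw [hρ1, map_pow, ← hw, hk, pow_add, mul_comm, mul_smul]⟩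

end Groth.Agent.Dual59
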