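import Groth.Agent.Dual59.SecObj
import Groth.Agent.Dual59.TwoChart
import Groth.Agent.Dual59.KillTorsion
import Groth.Agent.KFlatLib.Scheme.MayerVietoris
import Groth.Agent.QCoh.DevissageP

/-!
# Finiteness on an affine chart from finiteness of morphisms out of coherent modules
-/

set_option linter.style.haveILetI false
set_option linter.unusedSectionVars false
set_option backward.isDefEq.respectTransparency false
set_option backward.isDefEq.respectTransparency.types false

universe u

open CategoryTheory CategoryTheory.Limits CategoryTheory.Pretriangulated AlgebraicGeometry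
  TopologicalSpace Opposite

attribute [local instance] HasDerivedCategory.standard

namespace Groth.Agent.Dual59

open KFlatLib

variable {X : Scheme.{u}}

/-- Restricting to `U`, the extensions by zero from `W ≤ V` agree if `U ∩ V ≤ W`. -/
lemma isIso_restrict_resMap {U W V : X.Opens} (h : W ≤ V) (hU : U ⊓ V ≤ W) :
    IsIso ((Scheme.Modules.restrictFunctor U.ι).map (resMap h)) := by
  rw [isIso_iff_coyoneda_map_bijective]
  intro N
  let adj := Scheme.Modules.restrictAdjunction U.ι
  let P := (Scheme.Modules.pushforward U.ι).obj N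
  have he : U.ι ⁻¹ᵁ V ≤ U.ι ⁻¹ᵁ W := fun y hy => hU (show U.ι y ∈ U ⊓ V from ⟨y.2, hy⟩)
  have hres : Function.Bijective (P.presheaf.map (homOfLE h).op) := by
    haveI : IsIso (homOfLE (show U.ι ⁻¹ᵁ W ≤ U.ι ⁻¹ᵁ V from fun y hy => h hy)) :=
      ⟨homOfLE he, rfl, rfl⟩
    exact ConcreteCategory.bijective_of_isIso
      (N.presheaf.map (homOfLE (show U.ι ⁻¹ᵁ W ≤ U.ι ⁻¹ᵁ V from fun y hy => h hy)).op)
  have hpre : Function.Bijective fun φ : secObj V ⟶ P => resMap h ≫ φ := by
    refine (Function.Bijective.of_comp_iff' (ev_bijective W P) _).1 ?_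
    exact (congrArg Function.Bijective (funext (ev_resMap_comp h))).mpr (hres.comp (ev_bijective V P))
  have hb := ((adj.homEquiv (secObj W) N).symm.bijective.comp hpre).comp
    (adj.homEquiv (secObj V) N).bijective
  refine (congrArg Function.Bijective (funext fun φ => ?_)).mp hb
  show (adj.homEquiv _ _).symm (resMap h ≫ adj.homEquiv _ _ φ) = _
  rw [adj.homEquiv_naturality_left_symm, Equiv.symm_apply_apply]

lemma isIso_mulMap {V : X.Opens} {c : Γ(X, V)} (hc : IsUnit c) : IsIso (mulMap V c) := by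
  obtain ⟨d, hd⟩ := hc.exists_left_inv
  refine ⟨mulMap V d, secObj_hom_ext V ?_, secObj_hom_ext V ?_⟩ <;>
    rw [← Category.comp_id (_ ≫ _), Category.assoc, ev_mulMap_comp, ev_mulMap_comp,
      ← Category.id_comp (𝟙 (secObj V))] <;> simp only [Category.id_comp, smul_smul]
  · rw [mul_comm, hd, one_smul]
  · rw [hd, one_smul]

/-- If one leg restricts to an isomorphism, the cokernel is the other summand. -/
lemma isIso_inl_coker {C : Type*} [Category C] [Abelian C] {W A B : C} (a : W ⟶ A) (b : W ⟶ B)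
    [IsIso b] : Mono (biprod.lift a b) ∧ IsIso (biprod.inl ≫ cokernel.π (biprod.lift a b)) := by
  refine ⟨mono_of_mono_fac (biprod.lift_snd a b), ?_⟩
  let r : A ⊞ B ⟶ A := biprod.fst - biprod.snd ≫ inv b ≫ a
  have hr : biprod.lift a b ≫ r = 0 := by simp [r]
  refine ⟨cokernel.desc _ r hr, by simp [r], ?_⟩
  rw [← cancel_epi (cokernel.π (biprod.lift a b)), cokernel.π_desc_assoc, Category.comp_id]
  have h0 := cokernel.condition (biprod.lift a b)
  have hl : biprod.lift a b = a ≫ biprod.inl + b ≫ biprod.inr := by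
    apply biprod.hom_ext <;> simp
  have h1 : a ≫ biprod.inl ≫ cokernel.π (biprod.lift a b) =
      -(b ≫ biprod.inr ≫ cokernel.π (biprod.lift a b)) := by
    rw [eq_neg_iff_add_eq_zero, ← Category.assoc, ← Category.assoc, ← Preadditive.add_comp, ← hl, h0]
  simp only [r, Preadditive.sub_comp, Category.assoc, h1, Preadditive.comp_neg,
    IsIso.inv_hom_id_assoc, sub_neg_eq_add]
  rw [← Category.assoc, ← Category.assoc, ← Preadditive.add_comp, biprod.total, Category.id_comp]

section Glue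

variable {U₀ U₁ : X.Opens} (c : Γ(X, U₀ ⊓ U₁))

/-- Gluing two copies of `O` along multiplication by `c`. -/
noncomputable def glueMap : secObj (U₀ ⊓ U₁) ⟶ secObj U₀ ⊞ secObj U₁ :=
  biprod.lift (mulMap _ c ≫ resMap inf_le_left) (-(resMap inf_le_right))

/-- The glued module is coherent. -/
lemma glue_coh [IsLocallyNoetherian X] (hU : ∀ x : X, x ∈ U₀ ∨ x ∈ U₁) (hc : IsUnit c) :
    Mono (glueMap c) ∧ Coh.IsCoh (cokernel (glueMap c)) := by
  haveI := isIso_mulMap hc
  let a := mulMap (U₀ ⊓ U₁) c ≫ resMap (inf_le_left : U₀ ⊓ U₁ ≤ U₀)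
  let b := -(resMap (inf_le_right : U₀ ⊓ U₁ ≤ U₁))
  have unitIso : ∀ O : X.Opens, Nonempty ((Scheme.Modules.restrictFunctor O.ι).obj (secObj O) ≅
      Coh.structureModule (O : Scheme.{u})) := fun O => by
    haveI : IsIso (lshAdj O.ι).unit := inferInstance
    exact ⟨(asIso ((lshAdj O.ι).unit.app (Coh.structureModule (O : Scheme.{u})))).symm⟩
  have hr0 : IsIso ((Scheme.Modules.restrictFunctor U₁.ι).map a) := by
    haveI := isIso_restrict_resMap (U := U₁) (inf_le_left : U₀ ⊓ U₁ ≤ U₀) (by rw [inf_comm])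
    rw [Functor.map_comp]; infer_instance
  have hr1 : IsIso ((Scheme.Modules.restrictFunctor U₀.ι).map b) := by
    haveI := isIso_restrict_resMap (U := U₀) (inf_le_right : U₀ ⊓ U₁ ≤ U₁) le_rfl
    show IsIso ((Scheme.Modules.restrictFunctor U₀.ι).map (-(resMap inf_le_right)))
    haveI : (Scheme.Modules.restrictFunctor U₀.ι).Additive :=
      (Scheme.Modules.restrictAdjunction U₀.ι).left_adjoint_additive
    rw [Functor.map_neg]
    exact ⟨-inv ((Scheme.Modules.restrictFunctor U₀.ι).map (resMap inf_le_right)), by simp, by simp⟩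
  -- restricted to each chart
  have local_ : ∀ (O : X.Opens) {A B : X.Modules} (p : secObj (U₀ ⊓ U₁) ⟶ A)
      (q : secObj (U₀ ⊓ U₁) ⟶ B), IsIso ((Scheme.Modules.restrictFunctor O.ι).map q) →
      VanM O (kernel (biprod.lift p q)) ∧
        Nonempty ((Scheme.Modules.restrictFunctor O.ι).obj A ≅
          (Scheme.Modules.restrictFunctor O.ι).obj (cokernel (biprod.lift p q))) := by
    intro O A B p q hq
    let R := Scheme.Modules.restrictFunctor O.ι
    haveI : R.Additive := (Scheme.Modules.restrictAdjunction O.ι).left_adjoint_additive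
    haveI : PreservesFiniteLimits R := inferInstance
    haveI : PreservesColimitsOfSize.{0, 0} R :=
      (Scheme.Modules.restrictAdjunction _).leftAdjoint_preservesColimits
    haveI := hq
    obtain ⟨hm, hi⟩ := isIso_inl_coker (R.map p) (R.map q)
    haveI := preservesBinaryBiproducts_of_preservesBinaryCoproducts R
    let e := R.mapBiprod A B
    have he : R.map (biprod.lift p q) = biprod.lift (R.map p) (R.map q) ≫ e.inv := by
      rw [Iso.eq_comp_inv]
      apply biprod.hom_ext <;> simp [e, ← R.map_comp]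
    constructor
    · haveI : Mono (R.map (biprod.lift p q)) := by rw [he]; infer_instance
      exact (isZero_kernel_of_mono (R.map (biprod.lift p q))).of_iso (PreservesKernel.iso R _)
    · haveI := hi
      exact ⟨@asIso _ _ _ _ _ hi ≪≫ cokernel.mapIso _ _ (Iso.refl _) e.symm (by simp [he]) ≪≫
        (PreservesCokernel.iso R _).symm⟩
  have h0 := local_ U₀ a b hr1
  -- the second chart, with the summands exchanged
  have h1 := local_ U₁ b a hr0
  let sw := biprod.braiding (secObj U₀) (secObj U₁)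
  have hsw : glueMap c ≫ sw.hom = biprod.lift b a := by
    apply biprod.hom_ext <;> simp [glueMap, sw, a, b]
  let kI : kernel (glueMap c) ≅ kernel (biprod.lift b a) :=
    kernel.mapIso _ _ (Iso.refl _) sw (by simp [hsw])
  let cI : cokernel (glueMap c) ≅ cokernel (biprod.lift b a) :=
    cokernel.mapIso _ _ (Iso.refl _) sw (by simp [hsw])
  constructor
  · refine Preadditive.mono_of_isZero_kernel _ (isZero_of_vanM_cover
      (fun i : Bool => if i then U₀ else U₁) (fun x => ?_) fun i => ?_)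
    · rcases hU x with h | h
      · exact ⟨true, h⟩
      · exact ⟨false, h⟩
    · cases i
      · exact vanM_of_iso kI.symm h1.1
      · exact h0.1
  · refine KFlatLib.isCoh_of_local fun x => ?_
    rcases hU x with h | h
    · obtain ⟨e⟩ := unitIso U₀
      obtain ⟨k⟩ := h0.2
      exact ⟨_, U₀.ι, inferInstance, ⟨⟨x, h⟩, rfl⟩,
        KFlatLib.isCoh_of_iso (e.symm ≪≫ k) QCoh.isCoh_structureModule'⟩
    · obtain ⟨e⟩ := unitIso U₁
      obtain ⟨k⟩ := h1.2
      exact ⟨_, U₁.ι, inferInstance, ⟨⟨x, h⟩, rfl⟩,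
        KFlatLib.isCoh_of_iso (e.symm ≪≫ k ≪≫
          (Scheme.Modules.restrictFunctor U₁.ι).mapIso cI.symm) QCoh.isCoh_structureModule'⟩

end Glue

variable (B : Type u) [CommRing B] [IsNoetherianRing B] [X.Over (Spec (CommRingCat.of B))]

/-- Morphisms from shifts of coherent modules form finite `B`-modules. -/
def HomFinite (L : DCoh.D X) : Prop :=
  ∀ F : X.Modules, Coh.IsCoh F → ∀ j : ℤ, Module.Finite B ((DCoh.inD X F)⟦j⟧ ⟶ L)

/-- Composition with a map, on the morphisms into `L`. -/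
lemma exists_generators {E E' L : DCoh.D X} (g : E ⟶ E') (h : Module.Finite B (E' ⟶ L)) :
    ∃ (n : ℕ) (χ : Fin n → (E' ⟶ L)), ∀ φ : E' ⟶ L, ∃ b : Fin n → B,
      g ≫ φ = ∑ i, b i • (g ≫ χ i) := by
  obtain ⟨n, χ, hχ⟩ := Module.Finite.exists_fin (R := B) (M := E' ⟶ L)
  refine ⟨n, χ, fun φ => ?_⟩
  have hm : φ ∈ Submodule.span B (Set.range χ) := hχ ▸ trivial
  obtain ⟨b, rfl⟩ := (Submodule.mem_span_range_iff_exists_fun B).1 hm
  exact ⟨b, by simp [Preadditive.comp_sum]⟩

/-- The main criterion, in degree zero. -/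
theorem finite_sections_of_homFinite [IsLocallyNoetherian X] {L : DCoh.D X} (hL : DCoh.IsQCohD L)
    (hfin : HomFinite B L) {U₀ U₁ : X.Opens} (h₀ : IsAffineOpen U₀) (h₁ : IsAffineOpen U₁)
    (hU : ∀ x : X, x ∈ U₀ ∨ x ∈ U₁) (s : Γ(X, U₁)) (t : Γ(X, U₀))
    (hs : U₀ ⊓ U₁ = X.basicOpen s)
    (hst : X.presheaf.map (homOfLE (inf_le_left : U₀ ⊓ U₁ ≤ U₀)).op t *
      X.presheaf.map (homOfLE (inf_le_right : U₀ ⊓ U₁ ≤ U₁)).op s = 1) :
    Module.Finite Γ(X, U₀) Γ(DCoh.HD L 0, U₀) := by
  classical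
  let W := U₀ ⊓ U₁
  let G := DCoh.HD L 0
  let sg := DerivedCategory.singleFunctor X.Modules 0
  let π0 := (X.presheaf.map (homOfLE (inf_le_left : W ≤ U₀)).op).hom
  let π1 := (X.presheaf.map (homOfLE (inf_le_right : W ≤ U₁)).op).hom
  let ρ0 := (G.presheaf.map (homOfLE (inf_le_left : W ≤ U₀)).op).hom
  let ρ1 := (G.presheaf.map (homOfLE (inf_le_right : W ≤ U₁)).op).hom
  let σ := π1 s
  have hσ : IsUnit σ := ⟨⟨σ, π0 t, (mul_comm _ _).trans hst, hst⟩, rfl⟩
  have hW : IsAffineOpen W := by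
    show IsAffineOpen (U₀ ⊓ U₁)
    rw [hs]; exact h₁.basicOpen s
  let E := secObj U₀ ⊞ secObj U₁
  -- maps out of `E`
  have hpair : ∀ ψ : DCoh.inD X E ⟶ L, ψ = sg.map biprod.fst ≫ sg.map biprod.inl ≫ ψ +
      sg.map biprod.snd ≫ sg.map biprod.inr ≫ ψ := fun ψ => by
    rw [← Functor.map_comp_assoc, ← Functor.map_comp_assoc, ← Preadditive.add_comp, ← Functor.map_add,
      biprod.total, CategoryTheory.Functor.map_id, Category.id_comp]
  have hPsi : ∀ (k : ℕ) (ψ : DCoh.inD X E ⟶ L),
      Psi W (sg.map (glueMap (σ ^ k)) ≫ ψ) =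
        σ ^ k • ρ0 (Psi U₀ (sg.map biprod.inl ≫ ψ)) - ρ1 (Psi U₁ (sg.map biprod.inr ≫ ψ)) := by
    intro k ψ
    conv_lhs => rw [hpair ψ]
    have e1 : sg.map (glueMap (σ ^ k)) ≫ sg.map biprod.fst =
        sg.map (mulMap W (σ ^ k)) ≫ sg.map (resMap (inf_le_left : W ≤ U₀)) := by
      rw [← Functor.map_comp, ← Functor.map_comp, glueMap, biprod.lift_fst]
    have e2 : sg.map (glueMap (σ ^ k)) ≫ sg.map biprod.snd =
        -sg.map (resMap (inf_le_right : W ≤ U₁)) := by
      rw [← Functor.map_comp, glueMap, biprod.lift_snd, Functor.map_neg]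
    rw [Preadditive.comp_add, Psi_add, reassoc_of% e1, reassoc_of% e2, Psi_mulMap, Psi_resMap,
      Preadditive.neg_comp, sub_eq_add_neg]
    congr 1
    rw [← Psi_resMap (inf_le_right : W ≤ U₁)]
    apply eq_neg_of_add_eq_zero_left
    rw [← Psi_add, neg_add_cancel]
    exact (congrArg (ev W) (psi_zero L)).trans rfl
  have hcoh : ∀ k : ℕ, Mono (glueMap (σ ^ k)) ∧ Coh.IsCoh (cokernel (glueMap (σ ^ k))) :=
    fun k => glue_coh _ hU (hσ.pow k)
  have hS : ∀ k : ℕ, (ShortComplex.mk (glueMap (σ ^ k)) (cokernel.π _)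
      (cokernel.condition _)).ShortExact := fun k =>
    { exact := ShortComplex.exact_cokernel _
      mono_f := (hcoh k).1 }
  refine finite_of_twoChart π0 π1 ρ0 ρ1
    (fun a x => Scheme.Modules.map_smul _ _ a x) (fun a x => Scheme.Modules.map_smul _ _ a x) s t hst
    (fun c => ?_) ?_ (fun k => ?_)
  · -- localisation
    have hq : Coh.IsQCoh G := hL 0
    obtain ⟨n, z, hz⟩ := QCoh.exists_pow_smul_eq_map hq h₁ s
      (G.presheaf.map (homOfLE hs.ge).op c)
    refine ⟨n, z, ?_⟩
    have hi : Function.Injective (G.presheaf.map (homOfLE hs.ge).op) := by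
      haveI : IsIso (homOfLE hs.ge) := ⟨homOfLE hs.le, rfl, rfl⟩
      exact (ConcreteCategory.bijective_of_isIso _).1
    apply hi
    show _ = G.presheaf.map _ (G.presheaf.map _ z)
    rw [Scheme.Modules.map_smul, ← ConcreteCategory.comp_apply (G.presheaf.map _), ← Functor.map_comp]
    refine Eq.trans ?_ hz.symm
    show X.presheaf.map (homOfLE hs.ge).op (π1 s ^ n) • _ = _
    rw [map_pow]
    congr 2
    show X.presheaf.map (homOfLE hs.ge).op (X.presheaf.map _ s) = _
    rw [← ConcreteCategory.comp_apply, ← Functor.map_comp]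
    rfl
  · -- the Čech cokernel
    refine ⟨B, inferInstance, toSec U₀ B, toSec U₁ B, ?_, ?_⟩
    · ext b
      show X.presheaf.map _ (X.presheaf.map _ _) = X.presheaf.map _ (X.presheaf.map _ _)
      rw [← ConcreteCategory.comp_apply, ← Functor.map_comp, ← ConcreteCategory.comp_apply,
        ← Functor.map_comp]
      rfl
    have hT := inv_rot_of_distTriang _ (hS 0).singleTriangle_distinguished
    let Tr := ((hS 0).singleTriangle).invRotate
    haveI hf : Module.Finite B (Tr.obj₁ ⟶ L) := hfin _ (hcoh 0).2 (-1)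
    let A := Linear.leftComp B L Tr.mor₁
    haveI : IsNoetherian B (Tr.obj₁ ⟶ L) := inferInstance
    obtain ⟨T, hT'⟩ := (IsNoetherian.noetherian (LinearMap.range A) : (LinearMap.range A).FG)
    have hp : ∀ x : T, ∃ φ : DCoh.inD X (secObj W) ⟶ L, A φ = x.1 := fun x =>
      LinearMap.mem_range.1 (hT' ▸ Submodule.subset_span x.2)
    choose φ hφ using hp
    let n := Fintype.card T
    let e := Fintype.equivFin T
    refine ⟨Fin n, inferInstance, fun i => Psi W (φ (e.symm i)), fun c => ?_⟩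
    obtain ⟨χ, rfl⟩ := (Psi_bijective W hW hL).2 c
    have hm : A χ ∈ Submodule.span B (Set.range fun i => A (φ (e.symm i))) := by
      have : A χ ∈ LinearMap.range A := LinearMap.mem_range_self _ _
      rw [← hT'] at this
      refine Submodule.span_mono ?_ this
      intro x hx
      exact ⟨e ⟨x, hx⟩, by simp [hφ]⟩
    obtain ⟨b, hb⟩ := (Submodule.mem_span_range_iff_exists_fun B).1 hm
    have hk : Tr.mor₁ ≫ (χ - ∑ i, b i • φ (e.symm i)) = 0 := by
      show A (χ - ∑ i, b i • φ (e.symm i)) = 0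
      rw [map_sub, map_sum, ← hb, sub_eq_zero]
      exact Finset.sum_congr rfl fun i _ => (map_smul A _ _).symm
    obtain ⟨ψ, hψ⟩ := Triangle.yoneda_exact₂ _ hT _ hk
    refine ⟨Psi U₀ (sg.map biprod.inl ≫ ψ), -(Psi U₁ (sg.map biprod.inr ≫ ψ)), b, ?_⟩
    have h1 : Psi W (χ - ∑ i, b i • φ (e.symm i)) =
        ρ0 (Psi U₀ (sg.map biprod.inl ≫ ψ)) - ρ1 (Psi U₁ (sg.map biprod.inr ≫ ψ)) := by
      rw [hψ]
      refine (hPsi 0 ψ).trans ?_
      rw [pow_zero, one_smul]
    let P : (DCoh.inD X (secObj W) ⟶ L) →+ Γ(G, W) := AddMonoidHom.mk' (Psi W) (Psi_add W)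
    have h2 : P (χ - ∑ i, b i • φ (e.symm i)) = P χ - ∑ i, toSec W B (b i) • P (φ (e.symm i)) := by
      rw [map_sub, map_sum]
      exact congrArg (_ - ·) (Finset.sum_congr rfl fun i _ => Psi_smul W B _ _)
    rw [map_neg, ← sub_eq_add_neg, ← h1]
    show P χ = P (χ - _) + _
    rw [h2, sub_add]
    symm
    rw [sub_eq_self, sub_eq_zero]
    refine Finset.sum_congr rfl fun i _ => ?_
    congr 1
    show _ = X.presheaf.map _ (X.presheaf.map _ _)
    rw [← ConcreteCategory.comp_apply, ← Functor.map_comp]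
    rfl
  · -- twisted global sections
    have hT := (hS k).singleTriangle_distinguished
    haveI : Module.Finite B (DCoh.inD X (cokernel (glueMap (σ ^ k))) ⟶ L) := by
      exact @Module.Finite.equiv _ _ _ _ _ _ _ _ (hfin _ (hcoh k).2 0) (Linear.homCongr B
        ((shiftFunctorZero (DCoh.D X) ℤ).app (DCoh.inD X (cokernel (glueMap (σ ^ k))))) (Iso.refl L))
    obtain ⟨n, χ, hχ⟩ := exists_generators B (sg.map (cokernel.π (glueMap (σ ^ k))))
      (L := L) inferInstance
    refine ⟨Finset.univ.image fun i => Psi U₀ (sg.map biprod.inl ≫ sg.map (cokernel.π _) ≫ χ i),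
      fun x hx => ?_⟩
    obtain ⟨y, hy⟩ := hx
    obtain ⟨φ0, rfl⟩ := (Psi_bijective U₀ h₀ hL).2 x
    obtain ⟨φ1, rfl⟩ := (Psi_bijective U₁ h₁ hL).2 y
    let ψ : DCoh.inD X E ⟶ L := sg.map biprod.fst ≫ φ0 + sg.map biprod.snd ≫ φ1
    have hl : sg.map biprod.inl ≫ ψ = φ0 := by
      simp only [ψ, Preadditive.comp_add, ← Functor.map_comp_assoc, biprod.inl_fst, biprod.inl_snd,
        CategoryTheory.Functor.map_id, Functor.map_zero, Category.id_comp, zero_comp, add_zero]
    have hr : sg.map biprod.inr ≫ ψ = φ1 := by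
      simp only [ψ, Preadditive.comp_add, ← Functor.map_comp_assoc, biprod.inr_fst, biprod.inr_snd,
        CategoryTheory.Functor.map_id, Functor.map_zero, Category.id_comp, zero_comp, zero_add]
    have h0 : sg.map (glueMap (σ ^ k)) ≫ ψ = 0 := by
      apply (Psi_bijective W hW hL).1
      rw [hPsi k ψ, hl, hr, hy, sub_self]
      exact ((congrArg (ev W) (psi_zero L)).trans rfl).symm
    obtain ⟨ω, hω⟩ := Triangle.yoneda_exact₂ _ hT ψ h0
    obtain ⟨b, hb⟩ := hχ ω
    rw [← hl, show ψ = sg.map (cokernel.π _) ≫ ω from hω, hb, Preadditive.comp_sum]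
    let P : (DCoh.inD X (secObj U₀) ⟶ L) →+ Γ(G, U₀) := AddMonoidHom.mk' (Psi U₀) (Psi_add U₀)
    show P (∑ i, _) ∈ _
    rw [map_sum]
    refine sum_mem fun i _ => ?_
    rw [Linear.comp_smul]
    show Psi U₀ _ ∈ _
    rw [Psi_smul]
    exact Submodule.smul_mem _ _ (Submodule.subset_span (Finset.mem_coe.2
      (Finset.mem_image.2 ⟨i, Finset.mem_univ _, rfl⟩)))

end Groth.Agent.Dual59
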