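import Groth.Agent.KFlatLib.Ring.DualizingExt
import Mathlib.RingTheory.Finiteness.Finsupp

/-!
# Maps out of finite length modules into a complex with a single Ext at the residue field

For `Y` in `D(A)` (`A` local) with `Hom(κ, Y[i]) = 0` for `i ≠ 0` and `Hom(κ, Y) = κ`, the functor
`N ↦ Hom(N, Y)` is exact on modules of finite length and preserves lengths.
-/

set_option linter.style.haveILetI false
set_option linter.unusedSectionVars false
set_option backward.isDefEq.respectTransparency false

universe u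

open CategoryTheory CategoryTheory.Limits Pretriangulated

attribute [local instance] HasDerivedCategory.standard

namespace Groth.Agent.Dual59

open Groth.Agent.KFlatLib

variable {A : Type u} [CommRing A] {N N' N'' : Type u} [AddCommGroup N] [Module A N]
  [AddCommGroup N'] [Module A N'] [AddCommGroup N''] [Module A N'']

lemma inDMap_add (f g : N →ₗ[A] N') : inDMap (f + g) = inDMap f + inDMap g := by
  rw [inDMap, inDMap, inDMap, ← Functor.map_add]; rfl

lemma inDMap_smul (r : A) (f : N →ₗ[A] N') : inDMap (r • f) = r • inDMap f := by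
  rw [inDMap, inDMap, ← Functor.map_smul]; rfl

lemma inDMap_id : inDMap (LinearMap.id : N →ₗ[A] N) = 𝟙 (Dual.inD A N) :=
  (DerivedCategory.singleFunctor (ModuleCat.{u} A) 0).map_id _

lemma inDMap_comp (f : N →ₗ[A] N') (g : N' →ₗ[A] N'') : inDMap (g ∘ₗ f) = inDMap f ≫ inDMap g := by
  rw [inDMap, inDMap, inDMap, ← Functor.map_comp]; rfl

/-- Precomposition with a linear map. -/
noncomputable def pre (f : N →ₗ[A] N') (Y : Dual.D A) :
    (Dual.inD A N' ⟶ Y) →ₗ[A] (Dual.inD A N ⟶ Y) :=
  Linear.leftComp A Y (inDMap f)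

lemma pre_apply (f : N →ₗ[A] N') (Y : Dual.D A) (g : Dual.inD A N' ⟶ Y) :
    pre f Y g = inDMap f ≫ g := rfl

lemma pre_comp (f : N →ₗ[A] N') (g : N' →ₗ[A] N'') (Y : Dual.D A) :
    pre (g ∘ₗ f) Y = pre f Y ∘ₗ pre g Y := by
  refine LinearMap.ext fun φ => ?_
  rw [LinearMap.comp_apply, pre_apply, pre_apply, pre_apply, inDMap_comp, Category.assoc]

lemma pre_id (Y : Dual.D A) : pre (LinearMap.id : N →ₗ[A] N) Y = LinearMap.id := by
  refine LinearMap.ext fun φ => ?_
  rw [pre_apply, inDMap_id, Category.id_comp]; rfl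

lemma pre_add (f g : N →ₗ[A] N') (Y : Dual.D A) : pre (f + g) Y = pre f Y + pre g Y := by
  refine LinearMap.ext fun φ => ?_
  rw [LinearMap.add_apply, pre_apply, pre_apply, pre_apply, inDMap_add, Preadditive.add_comp]

lemma pre_smul (r : A) (f : N →ₗ[A] N') (Y : Dual.D A) : pre (r • f) Y = r • pre f Y := by
  refine LinearMap.ext fun φ => ?_
  rw [LinearMap.smul_apply, pre_apply, pre_apply, inDMap_smul, Linear.smul_comp]

lemma pre_zero (Y : Dual.D A) : pre (0 : N →ₗ[A] N') Y = 0 := by
  have h := pre_smul (0 : A) (0 : N →ₗ[A] N') Y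
  simpa using h

lemma pre_sum {ι : Type*} (s : Finset ι) (f : ι → (N →ₗ[A] N')) (Y : Dual.D A) :
    pre (∑ i ∈ s, f i) Y = ∑ i ∈ s, pre (f i) Y := by
  classical
  induction s using Finset.induction_on with
  | empty => simp [pre_zero]
  | insert a s ha ih => rw [Finset.sum_insert ha, Finset.sum_insert ha, pre_add, ih]

lemma exists_pre_eq_of_pre_eq_zero {f : N →ₗ[A] N'} {g : N' →ₗ[A] N''} (hf : Function.Injective f)
    (hg : Function.Surjective g) (h : Function.Exact f g) (Y : Dual.D A) (φ : Dual.inD A N' ⟶ Y)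
    (hφ : pre f Y φ = 0) : ∃ ψ, pre g Y ψ = φ := by
  obtain ⟨ψ, hψ⟩ := exists_factor_inD hf hg h Y φ hφ
  exact ⟨ψ, hψ.symm⟩

lemma pre_injective_of_surjective {g : N' →ₗ[A] N''} (hg : Function.Surjective g) (Y : Dual.D A)
    (h : Subsingleton (Dual.inD A (LinearMap.ker g) ⟶ Y⟦(-1 : ℤ)⟧)) : Function.Injective (pre g Y) := by
  rw [injective_iff_map_eq_zero]
  intro φ hφ
  obtain ⟨w, hS⟩ := exists_ses_of_exact (f := (LinearMap.ker g).subtype) (g := g)
    Subtype.val_injective hg (LinearMap.exact_subtype_ker_map g)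
  obtain ⟨ψ, hψ⟩ := Triangle.yoneda_exact₃ _ hS.singleTriangle_distinguished φ hφ
  obtain ⟨e⟩ := exists_shiftHomLEquiv (Dual.inD A (LinearMap.ker g)) Y (-1)
  have hs : Subsingleton ((Dual.inD A (LinearMap.ker g))⟦(1 : ℤ)⟧ ⟶ Y) := by
    have := e.symm.injective.subsingleton
    simpa using this
  rw [hψ, Subsingleton.elim (h := hs) ψ 0, comp_zero]

/-- Zero on the images of generators is zero on the whole module. -/
lemma pre_eq_zero_of_span {ι : Type} [Fintype ι] [DecidableEq ι] {P : Type u} [AddCommGroup P]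
    [Module A P] (p : (ι → P) →ₗ[A] N) (Y : Dual.D A) (g : Dual.inD A N ⟶ Y)
    (h : ∀ i, pre (p ∘ₗ LinearMap.single A (fun _ => P) i) Y g = 0) : pre p Y g = 0 := by
  have hp : p = ∑ i, (p ∘ₗ LinearMap.single A (fun _ => P) i) ∘ₗ LinearMap.proj i := by
    refine LinearMap.ext fun x => ?_
    rw [LinearMap.sum_apply]
    simp only [LinearMap.comp_apply, LinearMap.proj_apply]
    rw [← map_sum]
    congr 1
    exact (Finset.univ_sum_single x).symm
  rw [hp, pre_sum, LinearMap.sum_apply]
  refine Finset.sum_eq_zero fun i _ => ?_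
  rw [pre_comp, LinearMap.comp_apply, h i, map_zero]

variable [IsLocalRing A]

/-- The hypotheses on `Y`: a single Ext at the residue field, in degree zero. -/
structure IsPointDual (Y : Dual.D A) : Prop where
  vanish : ∀ i : ℤ, i ≠ 0 → Subsingleton (Dual.inD A (IsLocalRing.ResidueField A) ⟶ Y⟦i⟧)
  point : Nonempty ((Dual.inD A (IsLocalRing.ResidueField A) ⟶ Y) ≃ₗ[A] IsLocalRing.ResidueField A)

lemma nonempty_quot_equiv_residueField {L : Submodule A N} [IsSimpleModule A (N ⧸ L)] :
    Nonempty ((N ⧸ L) ≃ₗ[A] IsLocalRing.ResidueField A) := by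
  obtain ⟨I, hI, ⟨e⟩⟩ := isSimpleModule_iff_quot_maximal.1 (inferInstance : IsSimpleModule A (N ⧸ L))
  obtain rfl := IsLocalRing.eq_maximalIdeal hI
  exact ⟨e⟩

variable {Y : Dual.D A}

theorem IsPointDual.vanish_finLen (hY : IsPointDual Y) {M : Type u} [AddCommGroup M] [Module A M]
    (hM : IsFiniteLength A M) (i : ℤ) (hi : i ≠ 0) : Subsingleton (Dual.inD A M ⟶ Y⟦i⟧) := by
  induction hM with
  | @of_subsingleton M _ _ _ =>
    exact subsingleton_of_forall_eq 0 fun f => ((DerivedCategory.singleFunctor (ModuleCat.{u} A) 0).map_isZero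
      (ModuleCat.isZero_of_subsingleton _)).eq_of_src f 0
  | @of_simple_quotient M _ _ L _ _ ih =>
    obtain ⟨e⟩ := nonempty_quot_equiv_residueField (N := M) (L := L)
    refine subsingleton_hom_inD_mid Subtype.val_injective L.mkQ_surjective
      (LinearMap.exact_subtype_mkQ L) _ ih ?_
    haveI := hY.vanish i hi
    exact (((DerivedCategory.singleFunctor (ModuleCat.{u} A) 0).mapIso e.toModuleIso).homFromEquiv
      (Z := Y⟦i⟧)).subsingleton

theorem IsPointDual.pre_injective (hY : IsPointDual Y) {g : N →ₗ[A] N'} (hg : Function.Surjective g)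
    (hN : IsFiniteLength A N) : Function.Injective (pre g Y) :=
  pre_injective_of_surjective hg Y (hY.vanish_finLen (hN.of_injective (f := (LinearMap.ker g).subtype)
    Subtype.val_injective) (-1) (by omega))

theorem IsPointDual.pre_surjective (hY : IsPointDual Y) {f : N →ₗ[A] N'} (hf : Function.Injective f)
    (hN' : IsFiniteLength A N') : Function.Surjective (pre f Y) := by
  intro φ
  have hq := (LinearMap.range f).mkQ_surjective
  have hex : Function.Exact f (LinearMap.range f).mkQ := by
    rw [LinearMap.exact_iff, Submodule.ker_mkQ]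
  obtain ⟨δ, hδ⟩ := exists_extend_inD hf hq hex Y 0
  haveI := hY.vanish_finLen (hN'.of_surjective hq) (0 + 1) (by omega)
  let e := (shiftFunctorZero (Dual.D A) ℤ).app Y
  obtain ⟨ψ, hψ⟩ := hδ (φ ≫ e.inv) (Subsingleton.elim _ _)
  refine ⟨ψ ≫ e.hom, ?_⟩
  rw [pre_apply, ← Category.assoc, hψ, Category.assoc, Iso.inv_hom_id, Category.comp_id]

theorem IsPointDual.length_hom (hY : IsPointDual Y) {M : Type u} [AddCommGroup M] [Module A M]
    (hM : IsFiniteLength A M) : Module.length A (Dual.inD A M ⟶ Y) = Module.length A M := by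
  induction hM with
  | @of_subsingleton M _ _ _ =>
    haveI : Subsingleton (Dual.inD A M ⟶ Y) := subsingleton_of_forall_eq 0 fun f =>
      ((DerivedCategory.singleFunctor (ModuleCat.{u} A) 0).map_isZero
        (ModuleCat.isZero_of_subsingleton _)).eq_of_src f 0
    rw [Module.length_eq_zero, Module.length_eq_zero]
  | @of_simple_quotient M _ _ L _ hL ih =>
    have hM' : IsFiniteLength A M := IsFiniteLength.of_simple_quotient hL
    obtain ⟨e⟩ := nonempty_quot_equiv_residueField (N := M) (L := L)
    obtain ⟨eκ⟩ := hY.point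
    rw [Module.length_eq_add_of_exact L.subtype L.mkQ Subtype.val_injective L.mkQ_surjective
      (LinearMap.exact_subtype_mkQ L),
      Module.length_eq_add_of_exact (pre L.mkQ Y) (pre L.subtype Y)
        (hY.pre_injective L.mkQ_surjective hM') (hY.pre_surjective Subtype.val_injective hM')
        (fun φ => ⟨fun h => exists_pre_eq_of_pre_eq_zero Subtype.val_injective L.mkQ_surjective
            (LinearMap.exact_subtype_mkQ L) Y φ h, by
          rintro ⟨ψ, rfl⟩
          rw [← LinearMap.comp_apply, ← pre_comp,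
            show L.mkQ ∘ₗ L.subtype = 0 from (LinearMap.exact_subtype_mkQ L).linearMap_comp_eq_zero,
            pre_zero, LinearMap.zero_apply]⟩),
      ih, ((Linear.homCongr A ((DerivedCategory.singleFunctor (ModuleCat.{u} A) 0).mapIso e.toModuleIso)
        (Iso.refl Y)).trans eκ).length_eq, e.length_eq, add_comm]

end Groth.Agent.Dual59
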