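import Groth.Agent.Dual59.RepGeom
import Groth.Agent.S0015
import Groth.Agent.QCoh.Tilde

/-!
# Functors out of `D_QCoh` of a qcqs scheme have right adjoints
-/

set_option linter.style.haveILetI false
set_option linter.unusedSectionVars false
set_option backward.isDefEq.respectTransparency false

universe u v₁ w

open CategoryTheory CategoryTheory.Limits CategoryTheory.Pretriangulated AlgebraicGeometry Opposite
open ZeroObject

attribute [local instance] HasDerivedCategory.standard

namespace Groth.Agent.Dual59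

open KFlatLib PerfD40 RepGlue

lemma preservesColimit_of_Q {A : Type*} [Category A] [Abelian A] [HasDerivedCategory A]
    {ℰ : Type*} [Category ℰ] (H : DerivedCategory A ⥤ ℰ) {J : Type u}
    [HasColimitsOfShape (Discrete J) A] [HasExactColimitsOfShape (Discrete J) A]
    (h : ∀ K : J → CochainComplex A ℤ,
      PreservesColimit (Discrete.functor K) (DerivedCategory.Q ⋙ H))
    (C : J → DerivedCategory A) : PreservesColimit (Discrete.functor C) H := by
  let K := fun j => DerivedCategory.Q.objPreimage (C j)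
  let e := fun j => DerivedCategory.Q.objObjPreimageIso (C j)
  haveI := h K
  haveI := H9Misc.BrownGroth.preservesColimit_Q K
  haveI : PreservesColimit (Discrete.functor fun j => DerivedCategory.Q.obj (K j)) H :=
    preservesColimit_of_preserves_colimit_cocone
      ((Cofan.isColimitMapCoconeEquiv (DerivedCategory.Q : CochainComplex A ℤ ⥤ DerivedCategory A)
        _ _) (isColimitOfPreserves _ (coproductIsCoproduct K)))
      ((Cofan.isColimitMapCoconeEquiv H _ _).symm
        ((Cofan.isColimitMapCoconeEquiv (DerivedCategory.Q ⋙ H) _ _)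
          (isColimitOfPreserves (DerivedCategory.Q ⋙ H) (coproductIsCoproduct K))))
  exact preservesColimit_of_iso_diagram H (Discrete.natIso fun j => e j.as :
      Discrete.functor (fun j => DerivedCategory.Q.obj (K j)) ≅ Discrete.functor C)

variable {R : CommRingCat.{u}}

lemma preservesColimit_tildeD {J : Type u} (C : J → DerivedCategory (ModuleCat.{u} R)) :
    PreservesColimit (Discrete.functor C) (DCoh.tildeD R) := by
  refine preservesColimit_of_Q _ (fun K => ?_) C
  haveI : (tilde.functor R).IsLeftAdjoint := (tilde.adjunction (R := R)).isLeftAdjoint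
  haveI : PreservesColimit (Discrete.functor K)
      ((tilde.functor R).mapHomologicalComplex (ComplexShape.up ℤ)) := by
    haveI : PreservesColimitsOfShape (Discrete J)
        ((tilde.functor R).mapHomologicalComplex (ComplexShape.up ℤ)) :=
      HomologicalComplex.preservesColimitsOfShape_of_eval _ fun i =>
        preservesColimitsOfShape_of_natIso (F := HomologicalComplex.eval _ _ i ⋙ tilde.functor R)
          (NatIso.ofComponents (fun _ => Iso.refl _))
    infer_instance
  let T := (tilde.functor R).mapHomologicalComplex (ComplexShape.up ℤ)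
  haveI : PreservesColimit (Discrete.functor K ⋙ T)
      (DerivedCategory.Q (C := (Spec R).Modules)) :=
    haveI := H9Misc.BrownGroth.preservesColimit_Q (fun j => T.obj (K j))
    preservesColimit_of_iso_diagram _ (Discrete.natIso fun _ => Iso.refl _ :
      Discrete.functor (fun j => T.obj (K j)) ≅ Discrete.functor K ⋙ T)
  exact preservesColimit_of_natIso _
    (F := T ⋙ DerivedCategory.Q) (tilde.functor R).mapDerivedCategoryFactors.symm

lemma preservesColimit_rpush {X Y : Scheme.{u}} (f : X ⟶ Y) [QuasiCompact f] [QuasiSeparated f]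
    [DCoh.HasRpush f] {J : Type u} (C : J → DCoh.D X) (hC : ∀ j, DCoh.IsQCohD (C j)) :
    PreservesColimit (Discrete.functor C) (DCoh.Rpush f) := by
  haveI : HasColimitsOfShape (Discrete J) (DCoh.D X) := TriCat.hasColimitsOfShape_derivedCategory
  haveI : HasColimitsOfShape (Discrete J) (DCoh.D Y) := TriCat.hasColimitsOfShape_derivedCategory
  haveI : IsIso (sigmaComparison (DCoh.Rpush f) C) := isIso_sigmaDesc_rpush f C hC
  exact PreservesCoproduct.of_iso_comparison _ _

lemma rpush_additive_exact {X Y : Scheme.{u}} (f : X ⟶ Y) [DCoh.HasRpush f] :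
    (DCoh.Rpush f).Additive ∧ IsExactFunctor (DCoh.Rpush f) := by
  exact ⟨(exists_rightDerived_triangle (Scheme.Modules.pushforward f) _
      (contractible_distinguished (0 : DCoh.D X))).1,
    fun T hT => exists_rpush_triangle f T hT⟩

variable {X : Scheme.{u}} {𝒟 : Type v₁} [Category.{w} 𝒟] [Preadditive 𝒟] [HasZeroObject 𝒟]
  [HasShift 𝒟 ℤ] [∀ n : ℤ, (shiftFunctor 𝒟 n).Additive] [Pretriangulated 𝒟] [LocallySmall.{u} 𝒟]

/-- The functor `Hom(Φ -, L)`. -/
noncomputable abbrev homTo (Φ : DCoh.D X ⥤ 𝒟) (L : 𝒟) : (DCoh.D X)ᵒᵖ ⥤ AddCommGrpCat.{w} :=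
  Φ.op ⋙ preadditiveYoneda.obj L

lemma isCohom_homTo (Φ : DCoh.D X ⥤ 𝒟) (hΦ : IsExactFunctor Φ) (L : 𝒟) :
    IsCohom (homTo Φ L) := fun T hT x hx => by
  obtain ⟨c, hc⟩ := hΦ T hT
  obtain ⟨y, hy⟩ := Triangle.yoneda_exact₂ _ hc x hx
  exact ⟨y, hy.symm⟩

variable (Φ : DCoh.D X ⥤ 𝒟) [Φ.Additive]

/-- Representability on an affine open. -/
lemma exists_univ_affine [QuasiSeparatedSpace X] (hΦ : IsExactFunctor Φ)
    (hsum : ∀ (J : Type u) (C : J → DCoh.D X), (∀ j, DCoh.IsQCohD (C j)) →
      PreservesColimit (Discrete.functor C) Φ)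
    (L : 𝒟) {U : X.Opens} (hU : IsAffineOpen U) :
    ∃ B u, IsUniv (homTo Φ L) (LocOn U) B u := by
  let j := hU.fromSpec
  haveI : QuasiCompact j := QuasiCompact.of_comp j (terminal.from X)
  haveI : QuasiSeparated j := inferInstance
  haveI := hasRpush_scheme j
  obtain ⟨hadd, hex⟩ := rpush_additive_exact j
  haveI := hadd
  let Ψ := DCoh.tildeD Γ(X, U) ⋙ DCoh.Rpush j ⋙ Φ
  have hΨ : IsExactFunctor Ψ := (isExactFunctor_of_isTriangulated _).comp (hex.comp hΦ)
  haveI : ∀ τ : Type u, PreservesColimitsOfShape (Discrete τ) Ψ := fun τ => by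
    suffices ∀ M : τ → DerivedCategory (ModuleCat.{u} Γ(X, U)),
        PreservesColimit (Discrete.functor M) Ψ from preservesColimitsOfShape_of_discrete Ψ
    intro M
    haveI := preservesColimit_tildeD M
    have hq : ∀ k, DCoh.IsQCohD ((DCoh.tildeD Γ(X, U)).obj (M k)) := fun k => isQCohD_tildeD _ _
    haveI : PreservesColimit (Discrete.functor fun k => (DCoh.tildeD Γ(X, U)).obj (M k))
        (DCoh.Rpush j) := preservesColimit_rpush j _ hq
    haveI : PreservesColimit
        (Discrete.functor fun k => (DCoh.Rpush j).obj ((DCoh.tildeD Γ(X, U)).obj (M k))) Φ :=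
      hsum _ _ fun k => isQCohD_rpush j (hq k)
    haveI : PreservesColimit (Discrete.functor (fun k => (DCoh.tildeD Γ(X, U)).obj (M k)) ⋙
        DCoh.Rpush j) Φ :=
      preservesColimit_of_iso_diagram _ (Discrete.natIso fun _ => Iso.refl _ :
        Discrete.functor (fun k => (DCoh.Rpush j).obj ((DCoh.tildeD Γ(X, U)).obj (M k))) ≅
          Discrete.functor (fun k => (DCoh.tildeD Γ(X, U)).obj (M k)) ⋙ DCoh.Rpush j)
    haveI : PreservesColimit (Discrete.functor M ⋙ DCoh.tildeD Γ(X, U)) (DCoh.Rpush j ⋙ Φ) :=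
      preservesColimit_of_iso_diagram _ (Discrete.natIso fun _ => Iso.refl _ :
        Discrete.functor (fun k => (DCoh.tildeD Γ(X, U)).obj (M k)) ≅
          Discrete.functor M ⋙ DCoh.tildeD Γ(X, U))
    infer_instance
  obtain ⟨A, e, he⟩ := exists_univ_of_exact Γ(X, U) Ψ hΨ L
  have hr : j.opensRange = U := hU.opensRange_fromSpec
  refine ⟨(DCoh.Rpush j).obj ((DCoh.tildeD _).obj A), e,
    (congrArg (fun V => LocOn V _) hr).mp (locOn_rpush j (isQCohD_tildeD _ A)), fun G hG => ?_⟩
  haveI : IsIso ((restrictRpushAdj j).unit.app G) := isIso_unit_of_locOn j (hr.symm ▸ hG)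
  obtain ⟨M, ⟨i⟩⟩ := exists_tildeD_iso (isQCohD_restrictD j hG.mem)
  haveI := isIso_counit j
  let F := DCoh.tildeD Γ(X, U) ⋙ DCoh.Rpush j
  let k : G ≅ F.obj M :=
    asIso ((restrictRpushAdj j).unit.app G) ≪≫ (DCoh.Rpush j).mapIso i.symm
  have hF : Function.Bijective (F.map : (M ⟶ A) → (F.obj M ⟶ F.obj A)) :=
    ((restrictRpushAdj j).fullyFaithfulROfIsIsoCounit.homEquiv).bijective.comp
      (tildeD_map_bijective M A)
  have hb : Function.Bijective fun b : F.obj M ⟶ F.obj A => Φ.map b ≫ e :=
    (Function.Bijective.of_comp_iff _ hF).1 (he M)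
  have h1 : (fun a : G ⟶ F.obj A => Φ.map a ≫ e) =
      (Iso.homCongr (Φ.mapIso k.symm) (Iso.refl L)) ∘ (fun b : F.obj M ⟶ F.obj A => Φ.map b ≫ e) ∘
        (Iso.homCongr k (Iso.refl (F.obj A))) := by
    funext a
    simp [Iso.homCongr]
  show Function.Bijective fun a : G ⟶ F.obj A => Φ.map a ≫ e
  rw [h1]
  exact (Equiv.bijective _).comp (hb.comp (Equiv.bijective _))

/-- `Hom(Φ -, L)` is representable on `D_QCoh` of a qcqs scheme. -/
theorem exists_univ [CompactSpace X] [QuasiSeparatedSpace X] (hΦ : IsExactFunctor Φ)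
    (hsum : ∀ (J : Type u) (C : J → DCoh.D X), (∀ j, DCoh.IsQCohD (C j)) →
      PreservesColimit (Discrete.functor C) Φ) (L : 𝒟) :
    ∃ (B : DCoh.D X) (e : Φ.obj B ⟶ L), DCoh.IsQCohD B ∧
      ∀ K : DCoh.D X, DCoh.IsQCohD K → Function.Bijective fun a : K ⟶ B => Φ.map a ≫ e := by
  have qc : ∀ U : X.Opens, IsCompact (U : Set X) → QuasiCompact U.ι := fun U hU => by
    haveI : CompactSpace (U : Scheme.{u}) := isCompact_iff_compactSpace.1 hU
    exact QuasiCompact.of_comp U.ι (terminal.from X)
  let P : X.Opens → Prop := fun U => IsCompact (U : Set X) → ∃ B u, IsUniv (homTo Φ L) (LocOn U) B u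
  have key : P ⊤ := by
    refine S0015.result X P (fun U hU _ => exists_univ_affine Φ hΦ hsum L hU)
      (fun U V hU hV pU pV pW _ => ?_) ⊤ isCompact_univ
    have hW : IsCompact ((U ⊓ V : X.Opens) : Set X) :=
      QuasiSeparatedSpace.inter_isCompact _ _ U.2 hU V.2 hV.isCompact
    haveI := qc U hU
    haveI := qc V hV.isCompact
    haveI := qc _ hW
    refine exists_univ_glue (isCohom_homTo Φ hΦ L) isThick_qcohD (van_shift U) (van_shift V)
      (van_shift (U ⊓ V)) (van_shift (U ⊔ V)) (fun N h i x hx => h i x hx.1) (fun N h i x hx => h i x hx.2)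
      (fun N h i x hx => h i x (Or.inl hx)) (fun N h i x hx => h i x (Or.inr hx))
      (fun N h h' i x hx => hx.elim (h i x) (h' i x)) (van_ext₂ _) (van_ext₃ _)
      (hasRefl_opens U) (hasRefl_opens V) (hasRefl_opens _)
      (fun E hE hEW => van_of_locOn rfl hE hEW) (fun E hE hEW => van_of_locOn (inf_comm V U) hE hEW)
      (pU hU) (pV hV.isCompact) (pW hW)
  obtain ⟨B, e, hB, hb⟩ := key isCompact_univ
  refine ⟨B, e, hB.mem, fun K hK => hb K ⟨hK, fun N hN φ => ?_⟩⟩
  haveI : IsIso (0 : N ⟶ N) := (DerivedCategory.isIso_iff _ _).2 fun i => by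
    have h1 : IsZero (DCoh.HD N i) := isZero_of_stalk _ fun x => by
      have : Subsingleton ((DCoh.HD N i).presheaf.stalk x) := by
        by_contra h
        exact hN i x trivial h
      exact @ModuleCat.isZero_of_subsingleton _ _ _ this
    exact ⟨0, h1.eq_of_src _ _, h1.eq_of_src _ _⟩
  exact ((IsZero.iff_id_eq_zero N).2 (by rw [← IsIso.hom_inv_id (0 : N ⟶ N), zero_comp])).eq_of_src _ _

end Groth.Agent.Dual59
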