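import Groth.Agent.Dual59.OpenBC
import Groth.Agent.S1766

/-!
# Operations on upper shrieks: uniqueness, existence, composition, isomorphisms
-/

set_option linter.style.haveILetI false
set_option linter.unusedSectionVars false
set_option backward.isDefEq.respectTransparency false
set_option backward.isDefEq.respectTransparency.types false

universe u

open CategoryTheory CategoryTheory.Limits CategoryTheory.Pretriangulated AlgebraicGeometry
  TopologicalSpace Opposite

attribute [local instance] HasDerivedCategory.standard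

namespace Groth.Agent.Dual59

open KFlatLib PerfD40

variable {X Y Z : Scheme.{u}}

/-- The representing object is unique. -/
lemma nonempty_iso_of_isShriek {f : X ⟶ Y} [DCoh.HasRpush f] {T : DCoh.D Y} {L L' : DCoh.D X}
    {e : (DCoh.Rpush f).obj L ⟶ T} {e' : (DCoh.Rpush f).obj L' ⟶ T} (h : IsShriek f T L e)
    (h' : IsShriek f T L' e') : Nonempty (L ≅ L') := by
  obtain ⟨a, ha⟩ := (h'.2 L h.1).2 e
  obtain ⟨b, hb⟩ := (h.2 L' h'.1).2 e'
  simp only at ha hb
  refine ⟨⟨a, b, (h.2 L h.1).1 ?_, (h'.2 L' h'.1).1 ?_⟩⟩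
  · show (DCoh.Rpush f).map (a ≫ b) ≫ e = (DCoh.Rpush f).map (𝟙 L) ≫ e
    rw [Functor.map_comp, Category.assoc, hb, ha, CategoryTheory.Functor.map_id, Category.id_comp]
  · show (DCoh.Rpush f).map (b ≫ a) ≫ e' = (DCoh.Rpush f).map (𝟙 L') ≫ e'
    rw [Functor.map_comp, Category.assoc, ha, hb, CategoryTheory.Functor.map_id, Category.id_comp]

/-- Upper shrieks exist. -/
theorem exists_isShriek (f : X ⟶ Y) [IsProper f] [IsNoetherian Y] [DCoh.HasRpush f] (T : DCoh.D Y) :
    ∃ L e, IsShriek f T L e := by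
  haveI : IsLocallyNoetherian X := LocallyOfFiniteType.isLocallyNoetherian f
  haveI : CompactSpace X := QuasiCompact.compactSpace_of_compactSpace f
  haveI := locallySmall_D Y
  obtain ⟨hadd, hex⟩ := rpush_additive_exact f
  haveI := hadd
  obtain ⟨L, e, hL, hb⟩ := exists_univ (DCoh.Rpush f) hex
    (fun J C hC => preservesColimit_rpush f C hC) T
  exact ⟨L, e, hL, hb⟩

/-- Upper shrieks compose. -/
theorem isShriek_comp (f : X ⟶ Y) (g : Y ⟶ Z) [QuasiCompact f] [QuasiSeparated f] [CompactSpace Y]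
    [DCoh.HasRpush f] [DCoh.HasRpush g] [DCoh.HasRpush (f ≫ g)] {T : DCoh.D Z} {M : DCoh.D Y}
    {L : DCoh.D X} {e : (DCoh.Rpush g).obj M ⟶ T} {e' : (DCoh.Rpush f).obj L ⟶ M}
    (h : IsShriek g T M e) (h' : IsShriek f M L e') :
    ∃ e'', IsShriek (f ≫ g) T L e'' := by
  obtain ⟨c⟩ := nonempty_rpush_comp f g
  refine ⟨c.inv.app L ≫ (DCoh.Rpush g).map e' ≫ e, h'.1, fun G hG => ?_⟩
  have hb := ((bijective_iso_comp (c.symm.app G) (B := T)).comp
    (h.2 ((DCoh.Rpush f).obj G) (isQCohD_rpush f hG))).comp (h'.2 G hG)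
  refine (congrArg Function.Bijective (funext fun φ => ?_)).mp hb
  show c.inv.app G ≫ (DCoh.Rpush g).map ((DCoh.Rpush f).map φ ≫ e') ≫ e =
    (DCoh.Rpush (f ≫ g)).map φ ≫ c.inv.app L ≫ (DCoh.Rpush g).map e' ≫ e
  have hn : (DCoh.Rpush (f ≫ g)).map φ ≫ c.inv.app L =
      c.inv.app G ≫ (DCoh.Rpush g).map ((DCoh.Rpush f).map φ) := c.inv.naturality φ
  rw [reassoc_of% hn, Functor.map_comp, Category.assoc]

/-- Upper shrieks restrict to opens of the base. -/
theorem exists_isShriek_restrict (f : X ⟶ Y) [IsProper f] [IsNoetherian Y] [DCoh.HasRpush f]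
    (V : Y.Opens) [DCoh.HasRpush (f ∣_ V)]
    [PreservesFiniteLimits (Scheme.Modules.restrictFunctor V.ι)]
    [PreservesFiniteLimits (Scheme.Modules.restrictFunctor (f ⁻¹ᵁ V).ι)]
    {T : DCoh.D Y} (hT : DCoh.IsQCohD T) (c : ℤ) [T.IsGE c] {L : DCoh.D X}
    {e : (DCoh.Rpush f).obj L ⟶ T} (h : IsShriek f T L e) :
    ∃ e', IsShriek (f ∣_ V) ((DCoh.restrictD V.ι).obj T)
      ((DCoh.restrictD (f ⁻¹ᵁ V).ι).obj L) e' := by
  haveI : IsLocallyNoetherian X := LocallyOfFiniteType.isLocallyNoetherian f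
  haveI : CompactSpace X := QuasiCompact.compactSpace_of_compactSpace f
  have hq : ∀ K : DCoh.D X, DCoh.IsQCohD K → DCoh.IsQCohD ((DCoh.Rpush f).obj K) :=
    fun K hK => isQCohD_rpush f hK
  haveI := S1766.result X Y f hq
  let F := ObjectProperty.lift DCoh.IsQCohD (ObjectProperty.ι DCoh.IsQCohD ⋙ DCoh.Rpush f)
    (fun K => hq K.obj K.property)
  let adj := Adjunction.ofIsLeftAdjoint F
  let K : DCoh.DQCoh Y := ⟨T, hT⟩
  haveI : K.obj.IsGE c := inferInstanceAs (T.IsGE c)
  obtain ⟨i⟩ := nonempty_iso_of_isShriek h (isShriek_counit f hq F.rightAdjoint adj K)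
  obtain ⟨e', he'⟩ := isShriek_restrict f hq F.rightAdjoint adj V K c
  let j := (DCoh.restrictD (f ⁻¹ᵁ V).ι).mapIso i
  refine ⟨(DCoh.Rpush (f ∣_ V)).map j.hom ≫ e', isQCohD_restrictD _ h.1, fun G hG => ?_⟩
  refine (congrArg Function.Bijective (funext fun φ => ?_)).mp
    ((he'.2 G hG).comp (bijective_comp_iso j))
  show (DCoh.Rpush (f ∣_ V)).map (φ ≫ j.hom) ≫ e' = _
  rw [Functor.map_comp, Category.assoc]

/-- For an isomorphism the upper shriek is restriction. -/
theorem nonempty_iso_restrict_of_isIso (f : X ⟶ Y) [IsIso f] [DCoh.HasRpush f]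
    [PreservesFiniteLimits (Scheme.Modules.restrictFunctor f)] {T : DCoh.D Y} (hT : DCoh.IsQCohD T)
    {L : DCoh.D X} {e : (DCoh.Rpush f).obj L ⟶ T} (h : IsShriek f T L e) :
    Nonempty (L ≅ (DCoh.restrictD f).obj T) := by
  let adj := restrictRpushAdj f
  haveI := isIso_counit f
  haveI : IsIso (adj.unit.app T) := isIso_unit_of_orth f hT fun M _ hM φ => by
    haveI := faithful_restrictD (asIso f)
    apply (DCoh.restrictD (asIso f).hom).map_injective
    exact ((van_iff_of_range f _ rfl M).1 hM).eq_of_src _ _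
  refine nonempty_iso_of_isShriek h (e' := inv (adj.unit.app T)) ⟨isQCohD_restrictD f hT, fun G _ => ?_⟩
  refine (congrArg Function.Bijective (funext fun φ => ?_)).mp
    ((bijective_comp_iso (asIso (adj.unit.app T)).symm).comp
      (adj.fullyFaithfulROfIsIsoCounit.homEquiv).bijective)
  rfl

end Groth.Agent.Dual59
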