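import Groth.Agent.Dual59.FinCrit
import Groth.Agent.Dual59.ShriekOps

/-!
# Finiteness of morphisms into coherent objects over an affine base
-/

set_option linter.style.haveILetI false
set_option linter.unusedSectionVars false
set_option backward.isDefEq.respectTransparency false
set_option backward.isDefEq.respectTransparency.types false

universe u

open CategoryTheory CategoryTheory.Limits CategoryTheory.Pretriangulated AlgebraicGeometry
  TopologicalSpace Opposite

attribute [local instance] HasDerivedCategory.standard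

namespace Groth.Agent.Dual59

open KFlatLib PerfD40

variable (B : Type u) [CommRing B] {X Y : Scheme.{u}} [X.Over (Spec (CommRingCat.of B))]
  [Y.Over (Spec (CommRingCat.of B))]

/-- `Rf_*` is linear over the base ring. -/
theorem rpush_map_smul (f : X ⟶ Y) [f.IsOver (Spec (CommRingCat.of B))] [DCoh.HasRpush f]
    {E F : DCoh.D X} (b : B) (φ : E ⟶ F) :
    (DCoh.Rpush f).map (b • φ) = b • (DCoh.Rpush f).map φ := by
  suffices h : (DCoh.Rpush f).map (b • 𝟙 E) = b • 𝟙 _ by
    have h1 : b • φ = (b • 𝟙 E) ≫ φ := by rw [Linear.smul_comp, Category.id_comp]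
    rw [h1, Functor.map_comp, h, Linear.smul_comp, Category.id_comp]
  obtain ⟨I, s, hI, hs⟩ := exists_kInjective_res (DerivedCategory.Q.objPreimage E)
  haveI := hI
  haveI := hs
  haveI : IsIso (DerivedCategory.Q.map s) := inferInstance
  let q := HomotopyCategory.quotient X.Modules (ComplexShape.up ℤ)
  let a : E ≅ DerivedCategory.Qh.obj (q.obj I) :=
    (DerivedCategory.Q.objObjPreimageIso E).symm ≪≫ asIso (DerivedCategory.Q.map s) ≪≫
      (DerivedCategory.quotientCompQhIso X.Modules).symm.app I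
  let β := (DCoh.pushKh f).totalRightDerivedUnit DerivedCategory.Qh
    (HomotopyCategory.quasiIso X.Modules (ComplexShape.up ℤ))
  haveI := isIso_unit_of_kInjective f I
  have hQh : DerivedCategory.Qh.map (q.map (b • 𝟙 I)) = b • 𝟙 (DerivedCategory.Qh.obj (q.obj I)) := by
    rw [← cancel_mono ((DerivedCategory.quotientCompQhIso X.Modules).hom.app I)]
    refine ((DerivedCategory.quotientCompQhIso X.Modules).hom.naturality (b • 𝟙 I)).trans ?_
    rw [Functor.map_smul, CategoryTheory.Functor.map_id, Linear.comp_smul, Linear.smul_comp,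
      Category.comp_id, Category.id_comp]
  let push := (Scheme.Modules.pushforward f).mapHomologicalComplex (ComplexShape.up ℤ)
  have hpush : (DCoh.pushKh f).map (q.map (b • 𝟙 I)) = b • 𝟙 ((DCoh.pushKh f).obj (q.obj I)) := by
    have h0 : push.map (b • 𝟙 I) = b • 𝟙 (push.obj I) := HomologicalComplex.hom_ext _ _ fun i => by
      show (Scheme.Modules.pushforward f).map (b • 𝟙 (I.X i)) = b • 𝟙 _
      rw [Functor.map_smul, CategoryTheory.Functor.map_id]
      rfl
    show DerivedCategory.Qh.map ((HomotopyCategory.quotient Y.Modules (ComplexShape.up ℤ)).map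
      (push.map (b • 𝟙 I))) = _
    rw [h0, ← cancel_mono ((DerivedCategory.quotientCompQhIso Y.Modules).hom.app (push.obj I))]
    refine ((DerivedCategory.quotientCompQhIso Y.Modules).hom.naturality (b • 𝟙 (push.obj I))).trans ?_
    rw [Functor.map_smul, CategoryTheory.Functor.map_id, Linear.comp_smul, Category.comp_id]
    refine Eq.trans ?_ (Linear.smul_comp _ _ _ b (𝟙 _) _).symm
    rw [Category.id_comp]
  have hR : (DCoh.Rpush f).map (b • 𝟙 (DerivedCategory.Qh.obj (q.obj I))) = b • 𝟙 _ := by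
    rw [← cancel_epi (β.app (q.obj I)), Linear.comp_smul, ← hQh]
    refine (β.naturality (q.map (b • 𝟙 I))).symm.trans ?_
    rw [hpush, Linear.smul_comp]
    exact congrArg (b • ·) ((Category.id_comp _).trans (Category.comp_id _).symm)
  have hE : b • 𝟙 E = a.hom ≫ (b • 𝟙 (DerivedCategory.Qh.obj (q.obj I))) ≫ a.inv := by
    rw [Linear.smul_comp, Category.id_comp, Linear.comp_smul, Iso.hom_inv_id]
  rw [hE, Functor.map_comp, Functor.map_comp, hR, Linear.smul_comp, Category.id_comp,
    Linear.comp_smul, ← Functor.map_comp, Iso.hom_inv_id, CategoryTheory.Functor.map_id]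

section Devissage

variable [IsNoetherianRing B] {T : DCoh.D X}

lemma finite_hom_of_iso {A A' : DCoh.D X} (a : A ≅ A') (h : Module.Finite B (A ⟶ T)) :
    Module.Finite B (A' ⟶ T) :=
  @Module.Finite.equiv _ _ _ _ _ _ _ _ h (Linear.homCongr B a (Iso.refl T))

lemma finite_hom_obj₂ {S : Triangle (DCoh.D X)} (hS : S ∈ distTriang (DCoh.D X))
    (h₁ : Module.Finite B (S.obj₁ ⟶ T)) (h₃ : Module.Finite B (S.obj₃ ⟶ T)) :
    Module.Finite B (S.obj₂ ⟶ T) := by
  let r : (S.obj₃ ⟶ T) →ₗ[B] (S.obj₂ ⟶ T) := Linear.leftComp B T S.mor₂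
  let g : (S.obj₂ ⟶ T) →ₗ[B] (S.obj₁ ⟶ T) := Linear.leftComp B T S.mor₁
  haveI : IsNoetherian B (S.obj₁ ⟶ T) := inferInstance
  haveI : Module.Finite B (LinearMap.ker g) := by
    have he : LinearMap.ker g = LinearMap.range r := by
      ext x
      refine ⟨fun hx => ?_, ?_⟩
      · obtain ⟨y, hy⟩ := Triangle.yoneda_exact₂ S hS x hx
        exact ⟨y, hy.symm⟩
      · rintro ⟨y, rfl⟩
        show S.mor₁ ≫ S.mor₂ ≫ y = 0
        rw [← Category.assoc, comp_distTriang_mor_zero₁₂ _ hS, zero_comp]
    rw [he]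
    infer_instance
  haveI : Module.Finite B ((S.obj₂ ⟶ T) ⧸ LinearMap.ker g) :=
    Module.Finite.equiv g.quotKerEquivRange.symm
  exact Module.Finite.of_submodule_quotient (LinearMap.ker g)

variable [IsAffine X] [IsLocallyNoetherian X]

lemma isCoh_secObj_top : Coh.IsCoh (secObj (⊤ : X.Opens)) := by
  refine KFlatLib.isCoh_of_local fun x => ⟨_, (⊤ : X.Opens).ι, inferInstance, ⟨⟨x, trivial⟩, rfl⟩, ?_⟩
  haveI : IsIso (lshAdj (⊤ : X.Opens).ι).unit := inferInstance
  exact KFlatLib.isCoh_of_iso
    (asIso ((lshAdj (⊤ : X.Opens).ι).unit.app (Coh.structureModule ((⊤ : X.Opens) : Scheme.{u}))))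
    QCoh.isCoh_structureModule'

/-- Finite modules of morphisms out of shifts of coherent modules. -/
theorem finite_hom_inD (hB : Function.Surjective (toSec (⊤ : X.Opens) B)) (c : ℤ) [T.IsGE c]
    (hT : DCoh.IsCohD T) :
    ∀ (n : ℕ) (M : X.Modules), Coh.IsCoh M → ∀ j : ℤ, -j < c + n →
      Module.Finite B ((DCoh.inD X M)⟦j⟧ ⟶ T) := by
  intro n
  induction n with
  | zero =>
    intro M _ j hj
    haveI : ((DCoh.inD X M)⟦j⟧).IsLE (-j) := (tS X).isLE_shift (DCoh.inD X M) 0 j (-j) (by omega)
    haveI : Subsingleton ((DCoh.inD X M)⟦j⟧ ⟶ T) :=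
      ⟨fun a b => ((tS X).zero a (-j) c (by omega)).trans ((tS X).zero b (-j) c (by omega)).symm⟩
    infer_instance
  | succ n ih =>
    intro M hM j hj
    have hO : Module.Finite B ((DCoh.inD X (secObj (⊤ : X.Opens)))⟦j⟧ ⟶ T) := by
      let e : ((DCoh.inD X (secObj (⊤ : X.Opens)))⟦j⟧ ⟶ T) →ₗ[B]
          (DCoh.inD X (secObj (⊤ : X.Opens)) ⟶ T⟦-j⟧) :=
        { toFun := fun φ => ((shiftFunctorCompIsoId (DCoh.D X) j (-j) (by omega)).inv.app _) ≫ φ⟦-j⟧'
          map_add' := fun φ ψ => by rw [Functor.map_add, Preadditive.comp_add]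
          map_smul' := fun b φ => by rw [Functor.map_smul, Linear.comp_smul]; rfl }
      have he : Function.Injective e := fun φ ψ h => (shiftFunctor (DCoh.D X) (-j)).map_injective
        ((cancel_epi ((shiftFunctorCompIsoId (DCoh.D X) j (-j) (by omega)).inv.app _)).1 h)
      let G := DCoh.HD (T⟦-j⟧) 0
      have hG : Coh.IsCoh G := isCohD_shift hT (-j) 0
      haveI := QCoh.finite_sections hG (isAffineOpen_top X)
      letI : Module B Γ(G, ⊤) := Module.compHom _ (toSec (⊤ : X.Opens) B)
      haveI : Module.Finite B Γ(G, ⊤) := by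
        obtain ⟨S, hS⟩ := ‹Module.Finite Γ(X, ⊤) Γ(G, ⊤)›.fg_top
        refine ⟨⟨S, top_unique fun x hx => ?_⟩⟩
        clear hx
        have hx : x ∈ Submodule.span Γ(X, ⊤) (S : Set Γ(G, ⊤)) := hS ▸ trivial
        induction hx using Submodule.span_induction with
        | mem y hy => exact Submodule.subset_span hy
        | zero => exact zero_mem _
        | add a b _ _ ha hb => exact add_mem ha hb
        | smul r a _ ha =>
          obtain ⟨b, rfl⟩ := hB r
          exact Submodule.smul_mem _ b ha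
      haveI : IsNoetherian B Γ(G, ⊤) := inferInstance
      let P : (DCoh.inD X (secObj (⊤ : X.Opens)) ⟶ T⟦-j⟧) →ₗ[B] Γ(G, ⊤) :=
        { toFun := Psi ⊤
          map_add' := Psi_add ⊤
          map_smul' := fun b φ => Psi_smul ⊤ B b φ }
      exact Module.Finite.of_injective (P.comp e)
        ((Psi_bijective ⊤ (isAffineOpen_top X) (isQCohD_shift (isCohD_isQCohD hT) (-j))).1.comp he)
    haveI := QCoh.finite_sections hM (isAffineOpen_top X)
    obtain ⟨S, hS⟩ := (‹Module.Finite Γ(X, ⊤) Γ(M, ⊤)›).fg_top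
    have key : ∀ S : List Γ(M, ⊤), ∃ (E : X.Modules) (p : E ⟶ M), Coh.IsCoh E ∧
        Module.Finite B ((DCoh.inD X E)⟦j⟧ ⟶ T) ∧ ∀ y ∈ S, ∃ z, p.app ⊤ z = y := by
      intro S
      induction S with
      | nil =>
        refine ⟨secObj (⊤ : X.Opens), 0, isCoh_secObj_top, hO, by simp⟩
      | cons y S ihS =>
        obtain ⟨E, p, hE, hEf, hp⟩ := ihS
        let sp : ShortComplex.Splitting (ShortComplex.mk (biprod.inl : secObj ⊤ ⟶ secObj ⊤ ⊞ E)
            biprod.snd biprod.inl_snd) :=
          { r := biprod.fst, s := biprod.inr, f_r := by simp, s_g := by simp, id := by simp }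
        refine ⟨secObj ⊤ ⊞ E, biprod.desc (ofSec ⊤ y) p,
          KFlatLib.isCoh_of_shortExact sp.shortExact isCoh_secObj_top hE, ?_, fun y' hy' => ?_⟩
        · exact finite_hom_obj₂ B (Triangle.shift_distinguished _ sp.shortExact.singleTriangle_distinguished j)
            hO hEf
        · rcases List.mem_cons.1 hy' with rfl | hy'
          · refine ⟨(biprod.inl : secObj ⊤ ⟶ secObj ⊤ ⊞ E).app ⊤ (gen ⊤), ?_⟩
            show ev ⊤ ((biprod.inl : secObj ⊤ ⟶ secObj ⊤ ⊞ E) ≫ biprod.desc (ofSec ⊤ y') p) = y'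
            rw [biprod.inl_desc, ev_ofSec]
          · obtain ⟨z, hz⟩ := hp y' hy'
            refine ⟨(biprod.inr : E ⟶ secObj ⊤ ⊞ E).app ⊤ z, ?_⟩
            show ((biprod.inr : E ⟶ secObj ⊤ ⊞ E) ≫ biprod.desc (ofSec ⊤ y) p).app ⊤ z = y'
            rw [biprod.inr_desc, hz]
    obtain ⟨E, p, hE, hEf, hp⟩ := key S.toList
    haveI : Epi p := Preadditive.epi_of_isZero_cokernel _ <| by
      have hq := QCoh.isQCoh_cokernel hE.1 hM.1 p
      have h0 : cokernel.π p = 0 := QCoh.hom_eq_zero_of_cover hM.1 hq _ (fun _ : Unit => ⊤)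
        (fun _ => isAffineOpen_top X) (fun _ => ⟨⟨⟩, trivial⟩) fun _ y => by
          have hy : y ∈ Submodule.span Γ(X, ⊤) (S : Set Γ(M, ⊤)) := hS ▸ trivial
          induction hy using Submodule.span_induction with
          | mem z hz =>
            obtain ⟨w, rfl⟩ := hp z (Finset.mem_toList.2 hz)
            exact congr($(congrArg (fun q : E ⟶ cokernel p => q.app ⊤) (cokernel.condition p)) w)
          | zero => exact map_zero _
          | add a b _ _ ha hb => rw [map_add, ha, hb, add_zero]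
          | smul r a _ ha => rw [Scheme.Modules.Hom.app_smul, ha, smul_zero]
      rw [IsZero.iff_id_eq_zero, ← cancel_epi (cokernel.π p), h0, zero_comp, zero_comp]
    have hK : Coh.IsCoh (kernel p) := QCoh.isCoh_kernel hE hM p
    have hS' : (ShortComplex.mk (kernel.ι p) p (kernel.condition p)).ShortExact :=
      { exact := ShortComplex.exact_kernel p }
    have hT' := rot_of_distTriang _ (Triangle.shift_distinguished _ hS'.singleTriangle_distinguished j)
    refine finite_hom_obj₂ B hT' hEf ?_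
    exact finite_hom_of_iso B ((shiftFunctorAdd' (DCoh.D X) j 1 (j + 1) rfl).app _)
      (ih (kernel p) hK (j + 1) (by omega))

/-- Finite modules of morphisms from bounded coherent objects to bounded below coherent ones. -/
theorem finite_hom_bounded (hB : Function.Surjective (toSec (⊤ : X.Opens) B)) {P : DCoh.D X}
    (hP : DCoh.IsCohD P) (a b c : ℤ) [P.IsGE a] [P.IsLE b] [T.IsGE c] (hT : DCoh.IsCohD T) :
    Module.Finite B (P ⟶ T) := by
  refine amplitude_induction (C := X.Modules) (fun K : DCoh.D X => Module.Finite B (K ⟶ T))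
    (fun e h => finite_hom_of_iso B e h) (fun S hS h₁ h₃ => finite_hom_obj₂ B hS h₁ h₃)
    (b - a).toNat a P inferInstance ((tS X).isLE_of_le P b _ (by omega)) fun i _ _ => ?_
  exact finite_hom_of_iso B
    (((DerivedCategory.singleFunctors X.Modules).shiftIso (-i) i 0 (by omega)).app _)
    (finite_hom_inD B hB c hT (i - c + 1).toNat _ (hP i) (-i) (by omega))

end Devissage

/-- The upper shriek of a coherent object over an affine base has finite morphism modules. -/
theorem homFinite_of_isShriek [IsNoetherianRing B] (f : X ⟶ Y) [f.IsOver (Spec (CommRingCat.of B))]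
    [IsProper f] [IsNoetherian Y] [IsAffine Y] (hB : Function.Surjective (toSec (⊤ : Y.Opens) B))
    [DCoh.HasRpush f] {T : DCoh.D Y} (hT : DCoh.IsCohD T) (c : ℤ) [T.IsGE c] {L : DCoh.D X}
    {e : (DCoh.Rpush f).obj L ⟶ T} (h : IsShriek f T L e) : HomFinite B L := fun F hF j => by
  haveI : IsLocallyNoetherian X := LocallyOfFiniteType.isLocallyNoetherian f
  haveI : CompactSpace X := QuasiCompact.compactSpace_of_compactSpace f
  let G := (DCoh.inD X F)⟦j⟧
  have hG : DCoh.IsCohD G := isCohD_shift (isCohD_inD hF) j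
  haveI : G.IsGE (-j) := (tS X).isGE_shift (DCoh.inD X F) 0 j (-j) (by omega)
  haveI : G.IsLE (-j) := (tS X).isLE_shift (DCoh.inD X F) 0 j (-j) (by omega)
  haveI : IsProper (𝟙 X ≫ f) := by rw [Category.id_comp]; infer_instance
  obtain ⟨hR, b', hb'⟩ := isCohD_rpush_bounded f G (-j) (-j) hG fun i =>
    QCoh.isProperOver_of_subset (𝟙 _) (QCoh.isClosed_support_of_isFT (hG i).1 (hG i).2)
      fun x _ => ⟨x, rfl⟩
  haveI : ((DCoh.Rpush f).obj G).IsGE (-j) := isGE_rpush f G (-j)
  haveI : ((DCoh.Rpush f).obj G).IsLE b' := (DerivedCategory.isLE_iff _ _).2 hb'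
  haveI := finite_hom_bounded B hB hR (-j) b' c hT
  let l : (G ⟶ L) →ₗ[B] ((DCoh.Rpush f).obj G ⟶ T) :=
    { toFun := fun φ => (DCoh.Rpush f).map φ ≫ e
      map_add' := fun φ ψ => by
        haveI := (rpush_additive_exact f).1
        rw [Functor.map_add, Preadditive.add_comp]
      map_smul' := fun b φ => by rw [rpush_map_smul B f, Linear.smul_comp]; rfl }
  exact Module.Finite.of_injective l (h.2 G (isCohD_isQCohD hG)).1

end Groth.Agent.Dual59
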