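import Groth.Agent.LC.MatlisExtra

/-!
# Recognising the injective hull of the residue field, in any universe
-/

set_option linter.style.haveILetI false
set_option linter.unusedSectionVars false
set_option backward.isDefEq.respectTransparency false

universe u v

open IsLocalRing InjHull

namespace Groth.Agent.Dual59

open Groth.Agent.LC

variable {R : Type u} [CommRing R] [IsLocalRing R] [IsNoetherianRing R]

/-- A power torsion module with socle a line and with `length Hom(R/m^n, I) = length R/m^n` is
isomorphic to the injective hull of the residue field. -/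
theorem nonempty_equiv_hull_of_length {E : Type u} [AddCommGroup E] [Module R E]
    {f : ResidueField R →ₗ[R] E} (hf : IsInjectiveHull f) (I : Type v) [AddCommGroup I] [Module R I]
    (ha : LocCoh.IsPowerTorsion (maximalIdeal R) I)
    (hb : Nonempty ((ResidueField R →ₗ[R] I) ≃ₗ[R] ResidueField R))
    (hlen : ∀ n : ℕ, Module.length R (R ⧸ maximalIdeal R ^ n) =
      Module.length R ((R ⧸ maximalIdeal R ^ n) →ₗ[R] I)) : Nonempty (I ≃ₗ[R] E) := by
  obtain ⟨e⟩ := hb
  set g₀ := e.symm 1
  set s := g₀ 1
  have hg₀ : g₀ ≠ 0 := fun h => one_ne_zero (α := ResidueField R) (by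
    have := congrArg e h; simpa [g₀] using this)
  have hs0 : s ≠ 0 := fun h => hg₀ (LinearMap.ext fun x => by
    obtain ⟨r, rfl⟩ := exists_smul_eq x; rw [map_smul, show g₀ 1 = 0 from h, smul_zero]; rfl)
  have hsoc : LocCoh.torsionBy (maximalIdeal R) I ≤ R ∙ s := fun x hx => by
    have hker : maximalIdeal R ≤ LinearMap.ker (LinearMap.toSpanSingleton R I x) := fun a ha =>
      (Submodule.mem_torsionBySet_iff _ _).1 hx ⟨a, ha⟩
    let g : ResidueField R →ₗ[R] I := (maximalIdeal R).liftQ _ hker
    obtain ⟨r, hr⟩ := exists_smul_eq (e g)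
    have : g = r • g₀ := e.injective (by simp [g₀, hr])
    refine Submodule.mem_span_singleton.2 ⟨r, ?_⟩
    rw [show r • s = (r • g₀) 1 from rfl, ← this]
    exact liftQ_toSpanSingleton_one _ x hker
  have hinj : Function.Injective (g₀ : ResidueField R →ₗ[R] I) := by
    rw [injective_iff_map_eq_zero]
    intro x hx
    by_contra h0
    apply hs0
    obtain ⟨r, hr⟩ := exists_smul_eq (x⁻¹)
    have : r • x = 1 := by
      rw [← inv_mul_cancel₀ h0, ← hr, smul_one_mul]
    show g₀ 1 = 0
    rw [← this, map_smul, hx, smul_zero]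
  haveI := hf.isInjective
  obtain ⟨φ, hφ⟩ := Module.Baer.extension_property
    (Module.Baer.of_injective (inferInstance : Module.Injective R E)) g₀ hinj f
  have hφinj : Function.Injective φ := by
    rw [injective_iff_map_eq_zero]
    intro x hx
    by_contra h0
    obtain ⟨r, hr0, hr⟩ := exists_socle_multiple _ ha h0
    obtain ⟨c, hc⟩ := Submodule.mem_span_singleton.1 (hsoc hr)
    have h1 : f (c • (1 : ResidueField R)) = 0 := by
      have : g₀ (c • 1) = r • x := by rw [map_smul]; exact hc
      rw [← hφ, LinearMap.comp_apply, this, map_smul, hx, smul_zero]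
    have h2 : c • (1 : ResidueField R) = 0 := hf.injective (h1.trans f.map_zero.symm)
    apply hr0
    rw [← hc, show c • s = g₀ (c • 1) from (map_smul g₀ c 1).symm, h2, map_zero]
  have hsurj : Function.Surjective φ := by
    intro z
    obtain ⟨n, hn⟩ := hull_isPowerTorsion hf z
    let post : ((R ⧸ maximalIdeal R ^ n) →ₗ[R] I) →ₗ[R] ((R ⧸ maximalIdeal R ^ n) →ₗ[R] E) :=
      LinearMap.llcomp R (R ⧸ maximalIdeal R ^ n) I E φ
    have hpinj : Function.Injective post := fun p q h => LinearMap.ext fun x =>
      hφinj (LinearMap.congr_fun h x)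
    have h1 : Module.length R ((R ⧸ maximalIdeal R ^ n) →ₗ[R] E) =
        Module.length R (R ⧸ maximalIdeal R ^ n) := length_dual hf _ (isFiniteLength_quot_pow n)
    obtain ⟨_, _⟩ := isFiniteLength_iff_isNoetherian_isArtinian.1
      (Module.length_ne_top_iff.1 (h1 ▸ Module.length_ne_top_iff.2 (isFiniteLength_quot_pow n)) :
        IsFiniteLength R ((R ⧸ maximalIdeal R ^ n) →ₗ[R] E))
    have hps : Function.Surjective post := by
      rw [← LinearMap.range_eq_top]
      by_contra h
      have := Submodule.length_lt h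
      rw [← (LinearEquiv.ofInjective _ hpinj).length_eq, h1, ← hlen] at this
      exact lt_irrefl _ this
    have hker : maximalIdeal R ^ n ≤ LinearMap.ker (LinearMap.toSpanSingleton R E z) := fun b hb => hn b hb
    obtain ⟨p, hp⟩ := hps ((maximalIdeal R ^ n).liftQ _ hker)
    refine ⟨p (Submodule.Quotient.mk 1), ?_⟩
    have := LinearMap.congr_fun hp (Submodule.Quotient.mk 1)
    exact this.trans (liftQ_toSpanSingleton_one _ z hker)
  exact ⟨LinearEquiv.ofBijective φ ⟨hφinj, hsurj⟩⟩

end Groth.Agent.Dual59
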