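import Groth.Agent.Dual59.Scalar
import Groth.Agent.QCoh.SubCompare
import Groth.Agent.QCoh.Support
import Groth.Agent.KFlatLib.Scheme.ExtZero
import Mathlib.Algebra.Module.Injective

/-!
# Killing maps from a cohomological functor to torsion injective modules
-/

set_option linter.style.haveILetI false
set_option linter.unusedSectionVars false
set_option backward.isDefEq.respectTransparency false
set_option backward.isDefEq.respectTransparency.types false

universe u

open CategoryTheory CategoryTheory.Limits AlgebraicGeometry TopologicalSpace Opposite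

namespace Groth.Agent.Dual59



variable {Z : Scheme.{u}}

lemma isZero_restrict_of_smul_eq_zero {M : Z.Modules} (r : Coh.Γtop Z) (n : ℕ)
    (h : Formal.smulModΓ M (r ^ n) = 0) :
    IsZero ((Scheme.Modules.restrictFunctor (Z.basicOpen r).ι).obj M) := by
  rw [IsZero.iff_id_eq_zero]
  refine Scheme.Modules.hom_ext _ _ fun U => ?_
  ext (x : Γ(M, (Z.basicOpen r).ι ''ᵁ U))
  let O := (Z.basicOpen r).ι ''ᵁ U
  have hO : O ≤ Z.basicOpen r := (Z.basicOpen r).ι_image_le U
  have hu : IsUnit (Z.presheaf.map (homOfLE (le_top : O ≤ ⊤)).op r) := by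
    have := (AlgebraicGeometry.RingedSpace.isUnit_res_basicOpen Z.toRingedSpace r).map
      (Z.presheaf.map (homOfLE hO).op).hom
    convert this using 1
    show _ = (Z.presheaf.map (homOfLE hO).op) ((Z.presheaf.map (homOfLE le_top).op) r)
    rw [← ConcreteCategory.comp_apply, ← Functor.map_comp]
    rfl
  have h0 := congrArg (fun q => q.app O x) h
  simp only [smulModΓ_app] at h0
  rw [map_pow] at h0
  obtain ⟨w, hw⟩ := hu.pow n
  show (x : Γ(M, O)) = 0
  rw [← one_smul Γ(Z, O) (x : Γ(M, O)), ← w.inv_mul, mul_smul, hw]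
  exact (congrArg _ h0).trans (smul_zero _)

lemma smulModΓ_pow_comp (M : Z.Modules) (r : Coh.Γtop Z) (a b : ℕ) :
    Formal.smulModΓ M (r ^ (a + b)) = Formal.smulModΓ M (r ^ a) ≫ Formal.smulModΓ M (r ^ b) := by
  rw [add_comm, pow_add, smulModΓ_mul]

/-- The kernels of the powers of a scalar stabilise. -/
lemma exists_stab [IsLocallyNoetherian Z] [CompactSpace Z] {F : Z.Modules} (hF : Coh.IsCoh F)
    (r : Coh.Γtop Z) :
    ∃ c : ℕ, ∀ n : ℕ, kernel.ι (Formal.smulModΓ F (r ^ (c + n))) ≫ Formal.smulModΓ F (r ^ c) = 0 := by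
  classical
  obtain ⟨κ, hκ⟩ := CompactSpace.elim_nhds_subcover
    (fun x : Z => ((exists_isAffineOpen_mem_and_subset (x := x) (U := ⊤) trivial).choose : Set Z))
    (fun x => (exists_isAffineOpen_mem_and_subset (x := x) (U := ⊤) trivial).choose.isOpen.mem_nhds
      (exists_isAffineOpen_mem_and_subset (x := x) (U := ⊤) trivial).choose_spec.2.1)
  let V : κ → Z.Opens := fun x => (exists_isAffineOpen_mem_and_subset (x := x.1) (U := ⊤) trivial).choose
  have hV : ∀ k, IsAffineOpen (V k) := fun x =>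
    (exists_isAffineOpen_mem_and_subset (x := x.1) (U := ⊤) trivial).choose_spec.1
  have hc : ∀ k, ∃ c : ℕ, ∀ n, c ≤ n → ∀ x : Γ(F, V k),
      Z.presheaf.map (homOfLE (le_top : V k ≤ ⊤)).op r ^ n • x = 0 →
        Z.presheaf.map (homOfLE (le_top : V k ≤ ⊤)).op r ^ c • x = 0 := fun k => by
    haveI := QCoh.noetherian_sections (X := Z) ⟨V k, hV k⟩
    haveI := QCoh.finite_sections hF (hV k)
    let a : Γ(Z, V k) := Z.presheaf.map (homOfLE (le_top : V k ≤ ⊤)).op r
    let K : ℕ →o Submodule Γ(Z, V k) Γ(F, V k) :=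
      ⟨fun n => LinearMap.ker (LinearMap.lsmul Γ(Z, V k) Γ(F, V k) (a ^ n)), fun i j hij x hx => by
        obtain ⟨d, rfl⟩ := Nat.exists_eq_add_of_le hij
        simp only [LinearMap.mem_ker, LinearMap.lsmul_apply] at hx ⊢
        rw [add_comm, pow_add, mul_smul, hx, smul_zero]⟩
    obtain ⟨c, hc⟩ := monotone_stabilizes_iff_noetherian.2 inferInstance K
    exact ⟨c, fun n hn x hx => (hc n hn).ge hx⟩
  choose c hc using hc
  refine ⟨Finset.univ.sup c, fun n => ?_⟩
  refine QCoh.hom_eq_zero_of_cover (QCoh.isQCoh_kernel hF.1 hF.1 _) hF.1 _ V hV (fun x => ?_) (fun k x => ?_)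
  · obtain ⟨i, hi, hx⟩ := Set.mem_iUnion₂.1 (hκ.ge (Set.mem_univ x))
    exact ⟨⟨i, hi⟩, hx⟩
  · let y : Γ(F, V k) := (kernel.ι (Formal.smulModΓ F (r ^ (Finset.univ.sup c + n)))).app (V k) x
    have h0 : Z.presheaf.map (homOfLE (le_top : V k ≤ ⊤)).op r ^ (Finset.univ.sup c + n) • y = 0 := by
      have := congrArg (fun q => q.app (V k) x)
        (kernel.condition (Formal.smulModΓ F (r ^ (Finset.univ.sup c + n))))
      rwa [← map_pow, ← smulModΓ_app]
    have h1 := hc k _ ((Finset.le_sup (Finset.mem_univ k)).trans (Nat.le_add_right _ n)) y h0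
    show (Formal.smulModΓ F (r ^ Finset.univ.sup c)).app (V k) y = 0
    rw [smulModΓ_app, map_pow]
    obtain ⟨d, hd⟩ := Nat.exists_eq_add_of_le (Finset.le_sup (f := c) (Finset.mem_univ k))
    rw [hd, add_comm, pow_add, mul_smul, h1, smul_zero]

variable {R : Type u} [CommRing R] (χ : R →+* Coh.Γtop Z) (H : Z.Modules ⥤ ModuleCat.{u} R)
  [H.Additive] {I : Type u} [AddCommGroup I] [Module R I]

/-- Maps to a torsion injective module vanish on a large submodule. -/
theorem exists_kill [IsLocallyNoetherian Z] [CompactSpace Z]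
    (hexact : ∀ S : ShortComplex Z.Modules, S.ShortExact → Coh.IsCoh S.X₁ → Coh.IsCoh S.X₂ →
      Coh.IsCoh S.X₃ → Function.Exact (H.map S.f).hom (H.map S.g).hom)
    (hfin : ∀ F, Coh.IsCoh F → Module.Finite R (H.obj F))
    (hlin : ∀ (F : Z.Modules) (a : R) (x : H.obj F), H.map (Formal.smulModΓ F (χ a)) x = a • x)
    (hI : Module.Injective R I) :
    ∀ (l : List R), (∀ s ∈ l, ∀ x : I, ∃ m : ℕ, s ^ m • x = 0) → ∀ (F : Z.Modules), Coh.IsCoh F →
      ∀ e : H.obj F →ₗ[R] I, ∃ (F' : Z.Modules) (ι : F' ⟶ F), Coh.IsCoh F' ∧ Mono ι ∧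
        (∀ s ∈ l, IsIso ((Scheme.Modules.restrictFunctor (Z.basicOpen (χ s)).ι).map ι)) ∧
        ∀ x, e (H.map ι x) = 0 := by
  intro l
  induction l with
  | nil =>
    intro _ F hF e
    refine ⟨kernel (𝟙 F), kernel.ι _, QCoh.isCoh_kernel hF hF _, inferInstance, by simp, fun x => ?_⟩
    rw [show kernel.ι (𝟙 F) = 0 by simpa using kernel.condition (𝟙 F), H.map_zero]
    simp
  | cons s l ih =>
    intro htor F hF e
    haveI := hfin F hF
    obtain ⟨m, hm⟩ : ∃ m : ℕ, ∀ x, s ^ m • e x = 0 := by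
      classical
      obtain ⟨T, hT⟩ := (Module.Finite.fg_top : (⊤ : Submodule R (H.obj F)).FG)
      choose g hg using fun x => htor s List.mem_cons_self (e x)
      refine ⟨T.sup g, fun x => ?_⟩
      have hx : x ∈ Submodule.span R (T : Set (H.obj F)) := hT ▸ trivial
      induction hx using Submodule.span_induction with
      | mem y hy =>
        obtain ⟨d, hd⟩ := Nat.exists_eq_add_of_le (Finset.le_sup (f := g) hy)
        rw [hd, add_comm, pow_add, mul_smul, hg, smul_zero]
      | zero => simp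
      | add a b _ _ ha hb => rw [map_add, smul_add, ha, hb, add_zero]
      | smul a b _ hb => rw [map_smul, smul_comm, hb, smul_zero]
    obtain ⟨c, hc⟩ := exists_stab hF (χ s)
    let η : F ⟶ F := Formal.smulModΓ F (χ s ^ (c + m))
    let b : Abelian.coimage η ⟶ F := Abelian.factorThruCoimage η
    let a : Abelian.coimage η ⟶ F := cokernel.desc _ (Formal.smulModΓ F (χ s ^ c)) (hc m)
    haveI : Mono b := inferInstanceAs (Mono (Abelian.factorThruCoimage η))
    have hab : b = a ≫ Formal.smulModΓ F (χ (s ^ m)) := by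
      rw [← cancel_epi (Abelian.coimage.π η)]
      rw [Abelian.coimage.fac, map_pow]
      exact (smulModΓ_pow_comp F (χ s) c m).trans (by
        rw [← Category.assoc]
        exact congrArg (· ≫ _) (cokernel.π_desc _ _ _).symm)
    let p : F ⟶ cokernel b := cokernel.π b
    have hQ : Coh.IsCoh (Abelian.coimage η) := QCoh.isCoh_cokernel (QCoh.isQCoh_kernel hF.1 hF.1 _) hF _
    have hF₁ : Coh.IsCoh (cokernel b) := QCoh.isCoh_cokernel hQ.1 hF _
    have hS : (ShortComplex.mk b p (cokernel.condition b)).ShortExact :=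
      { exact := ShortComplex.exact_cokernel b }
    have hker : LinearMap.ker (H.map p).hom ≤ LinearMap.ker e := fun x hx => by
      obtain ⟨y, rfl⟩ := (hexact _ hS hQ hF hF₁ x).1 hx
      show e ((H.map b).hom y) = 0
      rw [hab, H.map_comp]
      show e (H.map (Formal.smulModΓ F (χ (s ^ m))) (H.map a y)) = 0
      rw [hlin, map_smul, hm]
    obtain ⟨e₁, he₁⟩ : ∃ e₁ : H.obj (cokernel b) →ₗ[R] I, ∀ x, e₁ (H.map p x) = e x := by
      let f₀ : (H.obj F ⧸ LinearMap.ker (H.map p).hom) →ₗ[R] H.obj (cokernel b) :=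
        (LinearMap.ker (H.map p).hom).liftQ (H.map p).hom le_rfl
      have hinj : Function.Injective f₀ := LinearMap.ker_eq_bot.1 (Submodule.ker_liftQ_eq_bot _ _ _ le_rfl)
      obtain ⟨e₁, he₁⟩ := hI.out f₀ hinj ((LinearMap.ker (H.map p).hom).liftQ e hker)
      exact ⟨e₁, fun x => he₁ (Submodule.Quotient.mk x)⟩
    obtain ⟨G, ι', hG, hι', hiso, hkill⟩ :=
      ih (fun t ht => htor t (List.mem_cons_of_mem _ ht)) (cokernel b) hF₁ e₁
    let T := cokernel ι'
    let q : F ⟶ T := p ≫ cokernel.π ι'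
    have hTz : ∀ t ∈ s :: l,
        IsZero ((Scheme.Modules.restrictFunctor (Z.basicOpen (χ t)).ι).obj T) := by
      intro t ht
      rcases List.mem_cons.1 ht with rfl | ht
      · refine isZero_restrict_of_smul_eq_zero (χ t) (c + m) ?_
        haveI : Epi q := epi_comp _ _
        rw [← cancel_epi q, comp_zero, ← smulModΓ_naturality]
        show η ≫ p ≫ _ = 0
        have hb0 : η ≫ p = 0 := (congrArg (· ≫ p) (Abelian.coimage.fac η).symm).trans
          ((Category.assoc _ _ _).trans ((congrArg (_ ≫ ·) (cokernel.condition b)).trans comp_zero))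
        rw [← Category.assoc, hb0, zero_comp]
      · haveI := hiso t ht
        let r := Scheme.Modules.restrictFunctor (Z.basicOpen (χ t)).ι
        haveI : PreservesColimitsOfSize.{0, 0} r :=
          (Scheme.Modules.restrictAdjunction _).leftAdjoint_preservesColimits
        exact (isZero_cokernel_of_epi (r.map ι')).of_iso (PreservesCokernel.iso r ι')
    let lift : kernel q ⟶ G := Abelian.monoLift ι' (kernel.ι q ≫ p) (by
      rw [Category.assoc]; exact kernel.condition q)
    refine ⟨kernel q, kernel.ι q, QCoh.isCoh_kernel hF (QCoh.isCoh_cokernel hG.1 hF₁ _) q,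
      inferInstance, fun t ht => ?_, fun x => ?_⟩
    · let r := Scheme.Modules.restrictFunctor (Z.basicOpen (χ t)).ι
      have h0 : r.map q = 0 := (hTz t ht).eq_of_tgt _ _
      haveI : IsIso (kernel.ι (r.map q)) := by
        rw [show kernel.ι (r.map q) = (kernelIsoOfEq h0).hom ≫ kernel.ι 0 by simp]
        infer_instance
      show IsIso (r.map (kernel.ι q))
      rw [← kernelComparison_comp_ι q r]
      infer_instance
    · have hfac : lift ≫ ι' = kernel.ι q ≫ p := Abelian.monoLift_comp _ _ _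
      rw [← he₁, ← ConcreteCategory.comp_apply, ← H.map_comp, ← hfac, H.map_comp,
        ConcreteCategory.comp_apply, hkill]

end Groth.Agent.Dual59
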