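import Groth.Agent.Dual59.KillTorsion
import Groth.Agent.PerfD40.Trunc
import Groth.Agent.KFlatLib.Scheme.RpushBound

/-!
# Killing maps from direct images of coherent modules to objects vanishing on an open
-/

set_option linter.style.haveILetI false
set_option linter.unusedSectionVars false
set_option backward.isDefEq.respectTransparency false
set_option backward.isDefEq.respectTransparency.types false

universe u

open CategoryTheory CategoryTheory.Limits CategoryTheory.Pretriangulated AlgebraicGeometry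
  TopologicalSpace Opposite

attribute [local instance] HasDerivedCategory.standard

namespace Groth.Agent.Dual59

open KFlatLib PerfD40

variable {X Y : Scheme.{u}}

/-- If `K` restricts to zero, its cohomology vanishes on the open. -/
lemma vanM_hd_of_isZero {U : Y.Opens} [PreservesFiniteLimits (Scheme.Modules.restrictFunctor U.ι)]
    {K : DCoh.D Y} (h : IsZero ((DCoh.restrictD U.ι).obj K)) (i : ℤ) : VanM U (DCoh.HD K i) :=
  ((DerivedCategory.homologyFunctor _ i).map_isZero h).of_iso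
    ((mapDCHomologyIso (Scheme.Modules.restrictFunctor U.ι) i).app K).symm

/-- If all cohomology vanishes on the open, the object restricts to zero. -/
lemma isZero_restrictD_of_vanM {U : Y.Opens}
    [PreservesFiniteLimits (Scheme.Modules.restrictFunctor U.ι)] {K : DCoh.D Y}
    (h : ∀ i, VanM U (DCoh.HD K i)) : IsZero ((DCoh.restrictD U.ι).obj K) := by
  let R := (DCoh.restrictD U.ι).obj K
  have hz : ∀ i, IsZero ((DerivedCategory.homologyFunctor (U : Scheme.{u}).Modules i).obj R) :=
    fun i => (h i).of_iso ((mapDCHomologyIso (Scheme.Modules.restrictFunctor U.ι) i).app K)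
  haveI : IsIso (0 : R ⟶ R) := (DerivedCategory.isIso_iff _ _).2 fun i =>
    ⟨0, (hz i).eq_of_src _ _, (hz i).eq_of_src _ _⟩
  exact (IsZero.iff_id_eq_zero R).2 (by rw [← IsIso.hom_inv_id (0 : R ⟶ R), zero_comp])

variable (f : X ⟶ Y) [DCoh.HasRpush f] (V : Y.Opens)

/-- Every map `Rf_*(F[k]) ⟶ T` kills a coherent submodule of `F` equal to `F` over `V`. -/
def Kills (k : ℤ) (T : DCoh.D Y) : Prop :=
  ∀ F : X.Modules, Coh.IsCoh F → ∀ φ : (DCoh.Rpush f).obj ((DCoh.inD X F)⟦k⟧) ⟶ T,
    ∃ (F' : X.Modules) (ι : F' ⟶ F), Coh.IsCoh F' ∧ Mono ι ∧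
      IsIso ((Scheme.Modules.restrictFunctor (f ⁻¹ᵁ V).ι).map ι) ∧
      (DCoh.Rpush f).map (((DerivedCategory.singleFunctor X.Modules 0).map ι)⟦k⟧') ≫ φ = 0

variable {f V}

lemma kills_of_iso {k : ℤ} {T T' : DCoh.D Y} (e : T ≅ T') (h : Kills f V k T) : Kills f V k T' :=
  fun F hF φ => by
    obtain ⟨F', ι, h1, h2, h3, h4⟩ := h F hF (φ ≫ e.inv)
    exact ⟨F', ι, h1, h2, h3, (cancel_mono e.inv).1 (by rw [zero_comp, Category.assoc]; exact h4)⟩

lemma kills_of_hom_eq_zero {k : ℤ} {T : DCoh.D Y}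
    (h : ∀ F : X.Modules, Coh.IsCoh F → ∀ φ : (DCoh.Rpush f).obj ((DCoh.inD X F)⟦k⟧) ⟶ T, φ = 0) :
    Kills f V k T := fun F hF φ => by
  refine ⟨F, 𝟙 F, hF, inferInstance, inferInstance, ?_⟩
  rw [h F hF φ, comp_zero]

lemma kills_of_isZero {k : ℤ} {T : DCoh.D Y} (h : IsZero T) : Kills f V k T :=
  kills_of_hom_eq_zero fun _ _ _ => h.eq_of_tgt _ _

lemma kills_ext {k : ℤ} (T : Triangle (DCoh.D Y)) (hT : T ∈ distTriang (DCoh.D Y))
    (h₁ : Kills f V k T.obj₁) (h₃ : Kills f V k T.obj₃) : Kills f V k T.obj₂ := fun F hF φ => by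
  obtain ⟨F₁, ι₁, hF₁, hm₁, hi₁, hz₁⟩ := h₃ F hF (φ ≫ T.mor₂)
  obtain ⟨φ₁, hφ₁⟩ := T.coyoneda_exact₂ hT
    ((DCoh.Rpush f).map (((DerivedCategory.singleFunctor X.Modules 0).map ι₁)⟦k⟧') ≫ φ)
    (by rw [Category.assoc]; exact hz₁)
  obtain ⟨F₂, ι₂, hF₂, hm₂, hi₂, hz₂⟩ := h₁ F₁ hF₁ φ₁
  refine ⟨F₂, ι₂ ≫ ι₁, hF₂, mono_comp _ _, ?_, ?_⟩
  · rw [Functor.map_comp]; infer_instance
  · rw [Functor.map_comp, Functor.map_comp, Functor.map_comp, Category.assoc, hφ₁, reassoc_of% hz₂,
      zero_comp]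

lemma kills_shift {k n m : ℤ} (hm : k + n = m) {T : DCoh.D Y} (h : Kills f V k T) :
    Kills f V m (T⟦n⟧) := fun F hF φ => by
  obtain ⟨sf⟩ := nonempty_rpush_shift_natIso f n
  let a := shiftFunctorAdd' (DCoh.D X) k n m hm
  obtain ⟨ψ, hψ⟩ := (shiftFunctor (DCoh.D Y) n).map_surjective
    (X := (DCoh.Rpush f).obj ((DCoh.inD X F)⟦k⟧))
    (sf.inv.app _ ≫ (DCoh.Rpush f).map (a.inv.app (DCoh.inD X F)) ≫ φ)
  obtain ⟨F', ι, h1, h2, h3, h4⟩ := h F hF ψ
  refine ⟨F', ι, h1, h2, h3, ?_⟩
  let σ := (DerivedCategory.singleFunctor X.Modules 0).map ι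
  rw [← cancel_epi ((DCoh.Rpush f).map (a.inv.app (DCoh.inD X F'))), comp_zero,
    ← Functor.map_comp_assoc, ← a.inv.naturality σ, Functor.map_comp_assoc,
    ← cancel_epi (sf.inv.app ((DCoh.inD X F')⟦k⟧)), comp_zero]
  have hn := sf.inv.naturality (σ⟦k⟧')
  refine ((Category.assoc _ _ _).symm.trans (congrArg (· ≫ _) hn.symm)).trans ?_
  rw [Category.assoc, ← hψ]
  show (shiftFunctor _ n).map ((DCoh.Rpush f).map (σ⟦k⟧')) ≫ (shiftFunctor _ n).map ψ = 0
  rw [← Functor.map_comp, h4, Functor.map_zero]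

variable [IsProper f] [IsNoetherian Y]

/-- The degrees above which `Rf_*` of a coherent module vanishes. -/
def Bound (f : X ⟶ Y) [DCoh.HasRpush f] (N : ℕ) : Prop :=
  ∀ F : X.Modules, Coh.IsCoh F → ∀ i : ℤ, N ≤ i →
    IsZero (DCoh.HD ((DCoh.Rpush f).obj (DCoh.inD X F)) i)

variable (f) in
lemma exists_bound : ∃ N, Bound f N := by
  haveI : HasInjectiveResolutions X.Modules := hasInjectiveResolutions_modules
  obtain ⟨N, hN⟩ := exists_Rpush_bound f
  refine ⟨N, fun F hF i hi => ?_⟩
  obtain ⟨n, rfl⟩ := Int.eq_ofNat_of_zero_le (show 0 ≤ i by omega)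
  exact (hN F hF.1 n (by omega)).of_iso (nonempty_hd_rpush_single f F n).some

lemma hom_eq_zero_of_isGE {N : ℕ} (hN : Bound f N) {k : ℤ} {T : DCoh.D Y} (a : ℤ) [T.IsGE a]
    (ha : (N : ℤ) - k ≤ a) {F : X.Modules} (hF : Coh.IsCoh F)
    (φ : (DCoh.Rpush f).obj ((DCoh.inD X F)⟦k⟧) ⟶ T) : φ = 0 := by
  haveI : ((DCoh.Rpush f).obj ((DCoh.inD X F)⟦k⟧)).IsLE ((N : ℤ) - k - 1) := by
    rw [DerivedCategory.isLE_iff]
    intro i hi
    obtain ⟨sf⟩ := nonempty_rpush_shift_natIso f k
    exact (hN F hF (k + i) (by omega)).of_iso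
      ((DerivedCategory.homologyFunctor Y.Modules i).mapIso (sf.app (DCoh.inD X F)) ≪≫
        ((DerivedCategory.homologyFunctor Y.Modules 0).shiftIso k i (k + i) rfl).app _)
  exact (tS Y).zero φ ((N : ℤ) - k - 1) a (by omega)

lemma kills_of_isGE {N : ℕ} (hN : Bound f N) {k : ℤ} {T : DCoh.D Y} (a : ℤ) [T.IsGE a]
    (ha : (N : ℤ) - k ≤ a) : Kills f V k T :=
  kills_of_hom_eq_zero fun _ hF φ => hom_eq_zero_of_isGE hN a ha hF φ

/-- Killing can be checked on cohomology, in the degrees below the bound. -/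
lemma kills_of_hd {N : ℕ} (hN : Bound f N) {k : ℤ} {T : DCoh.D Y} (a : ℤ) [T.IsGE a]
    (h : ∀ i, a ≤ i → i < (N : ℤ) - k →
      Kills f V k ((DerivedCategory.singleFunctor Y.Modules i).obj (DCoh.HD T i))) :
    Kills f V k T := by
  by_cases hak : (N : ℤ) - k ≤ a
  · exact kills_of_isGE hN a hak
  have hT := (tS Y).triangleLTGE_distinguished ((N : ℤ) - k) T
  refine kills_ext _ hT ?_ ?_
  · haveI hle : (((tS Y).truncLT ((N : ℤ) - k)).obj T).IsLE ((N : ℤ) - k - 1) := isLE_truncLT T _
    haveI hge : (((tS Y).truncLT ((N : ℤ) - k)).obj T).IsGE a := by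
      rw [DerivedCategory.isGE_iff]
      intro i hi
      haveI := isIso_hd_truncLTι T ((N : ℤ) - k) i (by omega)
      exact (DerivedCategory.isZero_of_isGE T a i hi).of_iso
        (asIso ((DerivedCategory.homologyFunctor Y.Modules i).map
          (((tS Y).truncLTι ((N : ℤ) - k)).app T)))
    refine amplitude_induction (C := Y.Modules) (fun K => Kills f V k K) (fun e h => kills_of_iso e h)
      (fun S hS h₁ h₃ => kills_ext S hS h₁ h₃) ((N : ℤ) - k - 1 - a).toNat a _ hge
      ((tS Y).isLE_of_le (((tS Y).truncLT ((N : ℤ) - k)).obj T) ((N : ℤ) - k - 1) _ (by omega))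
      fun i hia hib => ?_
    haveI := isIso_hd_truncLTι T ((N : ℤ) - k) i (by omega)
    exact kills_of_iso ((DerivedCategory.singleFunctor Y.Modules i).mapIso
      (asIso ((DerivedCategory.homologyFunctor Y.Modules i).map
        (((tS Y).truncLTι ((N : ℤ) - k)).app T))).symm) (h i hia (by omega))
  · haveI : (((tS Y).truncGE ((N : ℤ) - k)).obj T).IsGE ((N : ℤ) - k) := isGE_truncGE T _
    exact kills_of_isGE hN ((N : ℤ) - k) le_rfl

lemma kills_single {k i : ℤ} {M : Y.Modules} (h : Kills f V (k + i) (DCoh.inD Y M)) :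
    Kills f V k ((DerivedCategory.singleFunctor Y.Modules i).obj M) :=
  kills_of_iso (((DerivedCategory.singleFunctors Y.Modules).shiftIso (-i) i 0 (by omega)).app M)
    (kills_shift (by omega) h)

variable (V) in
/-- The first step: a module vanishing on `V` maps to a killable object, injectively on an affine. -/
lemma exists_step {W : Y.Opens} (hW : IsAffineOpen W) {M : Y.Modules} (hM : Coh.IsQCoh M)
    (hMV : VanM V M) (k : ℤ) :
    ∃ (K : DCoh.D Y) (T : DCoh.D Y) (a : K ⟶ DCoh.inD Y M) (b : DCoh.inD Y M ⟶ T) (c : T ⟶ K⟦(1 : ℤ)⟧),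
      Triangle.mk a b c ∈ distTriang (DCoh.D Y) ∧ Kills f V k T ∧ K.IsGE 0 ∧ DCoh.IsQCohD K ∧
        (∀ i, VanM V (DCoh.HD K i)) ∧ VanM W (DCoh.HD K 0) ∧
        ∀ U : Y.Opens, VanM U M → VanM U (DCoh.HD K 0) := by
  haveI := isNoetherianRing_sections hW
  let R := Γ(Y, W)
  let e := hW.fromSpec
  haveI : DCoh.HasRpush e := hasRpush_scheme e
  haveI : QuasiSeparatedSpace Y := inferInstance
  haveI : QuasiCompact e := QuasiCompact.of_comp e (terminal.from Y)
  obtain ⟨l, hl, hlV⟩ := exists_basicOpens hW V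
    ((NoetherianSpace.isCompact ((W ⊓ V : Y.Opens) : Set Y)))
  let N := (Scheme.Modules.restrictFunctor e).obj M
  obtain ⟨I, v, hI, hv, htor⟩ := exists_torsion_injective l
    ((moduleSpecΓFunctor (R := R)).obj N) fun s hs x => torsion_of_vanM hW V hM hMV s (hlV s hs) x
  haveI := hI
  haveI := hv
  haveI : IsIso N.fromTildeΓ := (isQuasicoherent_iff_isIso_fromTildeΓ _).1 (QCoh.isQCoh_restrict _ hM)
  haveI := QCoh.tildeMap_mono v
  let w : N ⟶ (tilde.functor R).obj I := inv N.fromTildeΓ ≫ tilde.map v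
  haveI : Mono w := mono_comp _ _
  let S0 := (DerivedCategory.singleFunctor (Spec R).Modules 0).obj ((tilde.functor R).obj I)
  let T := (DCoh.Rpush e).obj S0
  let σ := ((Scheme.Modules.restrictFunctor e).mapDerivedCategorySingleFunctor 0).app M
  let μ : DCoh.inD Y M ⟶ T := (restrictRpushAdj e).homEquiv _ _
    (σ.hom ≫ (DerivedCategory.singleFunctor (Spec R).Modules 0).map w)
  obtain ⟨C, g, h, hT⟩ := distinguished_cocone_triangle μ
  have hTq : DCoh.IsQCohD T := by
    refine isQCohD_rpush e fun i => ?_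
    by_cases hi : i = 0
    · subst hi
      exact (QCoh.isQCoh_iff_iso ((DerivedCategory.singleFunctorCompHomologyFunctorIso
        (Spec R).Modules 0).app _)).2 (inferInstanceAs (Coh.IsQCoh (tilde I)))
    · rcases lt_or_gt_of_ne hi with h | h
      · exact KFlatLib.isQCoh_of_isZero (DerivedCategory.isZero_of_isGE S0 0 i h)
      · exact KFlatLib.isQCoh_of_isZero (DerivedCategory.isZero_of_isLE S0 0 i h)
  have hTV : IsZero ((DCoh.restrictD V.ι).obj T) := by
    haveI : DCoh.HasRpush (e ∣_ V) := hasRpush_scheme _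
    obtain ⟨bc⟩ := nonempty_rpush_restrictD_iso e V
    haveI := (rpush_additive_exact (e ∣_ V)).1
    refine IsZero.of_iso ?_ (bc.app S0)
    refine (DCoh.Rpush (e ∣_ V)).map_isZero ?_
    exact IsZero.of_iso ((DerivedCategory.singleFunctor _ 0).map_isZero
      (vanM_tilde_preimage hW V I l hl htor))
      (((Scheme.Modules.restrictFunctor (e ⁻¹ᵁ V).ι).mapDerivedCategorySingleFunctor 0).app _)
  have hMq : DCoh.IsQCohD (DCoh.inD Y M) := fun i => by
    by_cases hi : i = 0
    · subst hi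
      exact (QCoh.isQCoh_iff_iso ((DerivedCategory.singleFunctorCompHomologyFunctorIso
        Y.Modules 0).app _)).2 hM
    · rcases lt_or_gt_of_ne hi with h | h
      · exact KFlatLib.isQCoh_of_isZero (DerivedCategory.isZero_of_isGE (DCoh.inD Y M) 0 i h)
      · exact KFlatLib.isQCoh_of_isZero (DerivedCategory.isZero_of_isLE (DCoh.inD Y M) 0 i h)
  let Tr := (Triangle.mk μ g h).invRotate
  have hTr : Tr ∈ distTriang (DCoh.D Y) := inv_rot_of_distTriang _ hT
  let K := C⟦(-1 : ℤ)⟧
  haveI hTge : T.IsGE 0 := isGE_rpush e S0 0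
  haveI hK : K.IsGE 0 := by
    rw [DerivedCategory.isGE_iff]
    intro i hi
    exact (DerivedCategory.HomologySequence.exact₁ _ hTr (i - 1) i (by omega)).isZero_X₂
      ((DerivedCategory.isZero_of_isGE T 0 (i - 1) (by omega)).eq_of_src _ _)
      ((DerivedCategory.isZero_of_isGE (DCoh.inD Y M) 0 i hi).eq_of_tgt _ _)
  haveI hmono : Mono ((DerivedCategory.homologyFunctor Y.Modules 0).map Tr.mor₁) :=
    (DerivedCategory.HomologySequence.exact₁ _ hTr (-1) 0 (by omega)).mono_g
      ((DerivedCategory.isZero_of_isGE T 0 (-1) (by omega)).eq_of_src _ _)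
  refine ⟨K, T, Tr.mor₁, Tr.mor₂, Tr.mor₃, hTr, ?_, hK, ?_, fun i => vanM_hd_of_isZero ?_ i, ?_,
    fun U hU => ?_⟩
  · intro F hF φ
    let z := (shiftFunctorZero (DCoh.D Y) ℤ).app T
    obtain ⟨F', ι, h1, h2, h3, h4⟩ :=
      kill_local f hW I l htor V hl hF k 0 (φ ≫ z.inv)
    exact ⟨F', ι, h1, h2, h3, (cancel_mono z.inv).1 (by rw [zero_comp, Category.assoc]; exact h4)⟩
  · exact isQCohD_obj₂ (inv_rot_of_distTriang _ hTr) (isQCohD_shift hTq _) hMq
  · refine (Triangle.isZero₂_iff _ ((DCoh.restrictD V.ι).map_distinguished _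
      (inv_rot_of_distTriang _ hTr))).2 ⟨?_, ?_⟩
    · exact (((shiftFunctor _ (-1 : ℤ)).map_isZero hTV).of_iso
        (((DCoh.restrictD V.ι).commShiftIso (-1 : ℤ)).app T)).eq_of_src _ _
    · refine (isZero_restrictD_of_vanM fun i => ?_).eq_of_tgt _ _
      by_cases hi : i = 0
      · subst hi
        exact vanM_of_iso ((DerivedCategory.singleFunctorCompHomologyFunctorIso
          Y.Modules 0).app M).symm hMV
      · rcases lt_or_gt_of_ne hi with h | h
        · exact vanM_of_isZero (DerivedCategory.isZero_of_isGE (DCoh.inD Y M) 0 i h)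
        · exact vanM_of_isZero (DerivedCategory.isZero_of_isLE (DCoh.inD Y M) 0 i h)
  · refine vanM_of_range e hW.opensRange_fromSpec ?_
    let H₀ := DerivedCategory.homologyFunctor Y.Modules 0
    let r := Scheme.Modules.restrictFunctor e
    let m := mapDCHomologyIso r 0
    haveI h₁ : Mono ((DerivedCategory.homologyFunctor (Spec R).Modules 0).map
        ((DCoh.restrictD e).map μ)) := by
      have hc : (DCoh.restrictD e).map μ ≫ (restrictRpushAdj e).counit.app S0 =
          σ.hom ≫ (DerivedCategory.singleFunctor (Spec R).Modules 0).map w := by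
        exact ((restrictRpushAdj e).homEquiv_counit _ _ μ).symm.trans (Equiv.symm_apply_apply _ _)
      haveI : Mono ((DerivedCategory.homologyFunctor (Spec R).Modules 0).map
          ((DerivedCategory.singleFunctor (Spec R).Modules 0).map w)) := by
        let i := DerivedCategory.singleFunctorCompHomologyFunctorIso (Spec R).Modules 0
        exact ((MorphismProperty.monomorphisms (Spec R).Modules).arrow_mk_iso_iff
          (Arrow.isoMk (i.app _) (i.app _) (i.hom.naturality w).symm)).2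
            (inferInstanceAs (Mono w))
      have := congrArg (DerivedCategory.homologyFunctor (Spec R).Modules 0).map hc
      rw [Functor.map_comp, Functor.map_comp] at this
      haveI : Mono ((DerivedCategory.homologyFunctor (Spec R).Modules 0).map
          ((DCoh.restrictD e).map μ) ≫
            (DerivedCategory.homologyFunctor (Spec R).Modules 0).map
              ((restrictRpushAdj e).counit.app S0)) := by
        rw [this]; infer_instance
      exact mono_of_mono _ ((DerivedCategory.homologyFunctor (Spec R).Modules 0).map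
        ((restrictRpushAdj e).counit.app S0))
    haveI h₂ : Mono (r.map (H₀.map μ)) :=
      ((MorphismProperty.monomorphisms (Spec R).Modules).arrow_mk_iso_iff
        (Arrow.isoMk (m.app _) (m.app _) (m.hom.naturality μ).symm)).1 h₁
    haveI : PreservesFiniteLimits r := inferInstance
    rw [IsZero.iff_id_eq_zero, ← cancel_mono (r.map (H₀.map Tr.mor₁)), zero_comp, Category.id_comp,
      ← cancel_mono (r.map (H₀.map μ)), zero_comp, ← Functor.map_comp, ← Functor.map_comp]
    have h0 : Tr.mor₁ ≫ μ = 0 := comp_distTriang_mor_zero₁₂ _ hTr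
    rw [h0, Functor.map_zero, Functor.map_zero]
  · exact vanM_of_mono ((DerivedCategory.homologyFunctor Y.Modules 0).map Tr.mor₁)
      (vanM_of_iso ((DerivedCategory.singleFunctorCompHomologyFunctorIso Y.Modules 0).app M).symm hU)

variable (V) in
/-- Modules vanishing on `V` kill. -/
theorem kills_inD {N : ℕ} (hN : Bound f N) :
    ∀ (n : ℕ) (M : Y.Modules), Coh.IsQCoh M → VanM V M → ∀ k : ℤ, (N : ℤ) - k ≤ n →
      Kills f V k (DCoh.inD Y M) := by
  classical
  intro n
  induction n with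
  | zero => exact fun M _ _ k hk => kills_of_isGE hN 0 (by omega)
  | succ n ih =>
    intro M hM hMV k hk
    obtain ⟨s, hs, hcov⟩ := isCompact_iff_finite_and_eq_biUnion_affineOpens.mp
      (show IsCompact ((⊤ : Y.Opens) : Set Y) by simpa using isCompact_univ)
    suffices key : ∀ S : Finset Y.affineOpens, ∀ M : Y.Modules, Coh.IsQCoh M → VanM V M →
        (∀ W ∈ s, W ∉ S → VanM W.1 M) → Kills f V k (DCoh.inD Y M) from
      key hs.toFinset M hM hMV fun W hW hW' => absurd (hs.mem_toFinset.2 hW) hW'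
    intro S
    induction S using Finset.induction with
    | empty =>
      intro M hM _ hz
      refine kills_of_isZero ((DerivedCategory.singleFunctor _ 0).map_isZero ?_)
      refine isZero_of_vanM_cover (fun W : s => W.1.1) (fun y => ?_)
        fun W => hz W.1 W.2 (Finset.notMem_empty _)
      obtain ⟨W, hW, hy⟩ : ∃ W ∈ s, y ∈ W.1 := by
        have hy : y ∈ (⊤ : Y.Opens) := trivial
        rw [hcov] at hy
        simpa [Opens.mem_iSup] using hy
      exact ⟨⟨W, hW⟩, hy⟩
    | insert W S _ ihS =>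
      intro M hM hMV hz
      obtain ⟨K, T, a, b, c, hTr, hT, hK, hKq, hKV, hKW, hKU⟩ :=
        exists_step (f := f) V W.2 hM hMV k
      haveI := hK
      refine kills_ext _ hTr (kills_of_hd (T := K) hN 0 fun i h0 hi => kills_single ?_) hT
      by_cases hi0 : i = 0
      · subst hi0
        rw [add_zero]
        refine ihS _ (hKq 0) (hKV 0) fun W' hW' hW'S => ?_
        by_cases h : W' = W
        · exact h ▸ hKW
        · exact hKU _ (hz W' hW' (by simp [h, hW'S]))
      · exact ih _ (hKq i) (hKV i) (k + i) (by omega)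

/-- Bounded below objects vanishing on `V` kill. -/
theorem kills_of_vanM {Q : DCoh.D Y} (c : ℤ) [Q.IsGE c] (hQ : DCoh.IsQCohD Q)
    (hV : ∀ i, VanM V (DCoh.HD Q i)) (k : ℤ) : Kills f V k Q := by
  obtain ⟨N, hN⟩ := exists_bound f
  exact kills_of_hd hN c fun i _ _ => kills_single
    (kills_inD V hN ((N : ℤ) - (k + i)).toNat _ (hQ i) (hV i) _ (by omega))

end Groth.Agent.Dual59
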