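import Groth.Agent.Dual59.Scalar
import Groth.Agent.KFlatLib.Scheme.RpushQCoh
import Groth.Agent.KFlatLib.Scheme.RpushTriangle
import Groth.Agent.KFlatLib.Scheme.TildeD
import Mathlib.Algebra.Homology.DerivedCategory.KInjective

/-!
# Scalars and derived direct images; maps to injectives in one degree
-/

set_option linter.style.haveILetI false
set_option linter.unusedSectionVars false
set_option backward.isDefEq.respectTransparency false

universe u

open CategoryTheory CategoryTheory.Limits CategoryTheory.Pretriangulated AlgebraicGeometry Opposite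

attribute [local instance] HasDerivedCategory.standard

namespace Groth.Agent.Dual59

open KFlatLib

variable {X Y : Scheme.{u}}

/-- `Rf_*` commutes with shifts, naturally. -/
lemma nonempty_rpush_shift_natIso (f : X ⟶ Y) [DCoh.HasRpush f] (n : ℤ) :
    Nonempty (shiftFunctor (DCoh.D X) n ⋙ DCoh.Rpush f ≅
      DCoh.Rpush f ⋙ shiftFunctor (DCoh.D Y) n) := by
  haveI := TriCat.qh_isLeftAdjoint_of_exists_resolution (A := X.Modules) exists_kInjective_res
  let adjQ := Adjunction.ofIsLeftAdjoint (DerivedCategory.Qh (C := X.Modules))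
  let ρ := (DerivedCategory.Qh (C := X.Modules)).rightAdjoint
  let W := HomotopyCategory.quasiIso X.Modules (ComplexShape.up ℤ)
  haveI : (ρ ⋙ DCoh.pushKh f).IsRightDerivedFunctor
      (Functor.whiskerRight adjQ.unit (DCoh.pushKh f)) W :=
    TriCat.isRightDerivedFunctor_of_adjunction adjQ W (DCoh.pushKh f)
  let e : ρ ⋙ DCoh.pushKh f ≅ DCoh.Rpush f :=
    Functor.rightDerivedUnique _ _ (Functor.whiskerRight adjQ.unit (DCoh.pushKh f))
      ((DCoh.pushKh f).totalRightDerivedUnit DerivedCategory.Qh W) W
  letI := adjQ.rightAdjointCommShift ℤ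
  exact ⟨Functor.isoWhiskerLeft _ e.symm ≪≫ (ρ ⋙ DCoh.pushKh f).commShiftIso n ≪≫
    Functor.isoWhiskerRight e _⟩

/-- Multiplication on a complex, degreewise. -/
noncomputable def smulCx (r : Coh.Γtop X) (K : CochainComplex X.Modules ℤ) : K ⟶ K where
  f i := Formal.smulModΓ (K.X i) r
  comm' i j _ := smulModΓ_naturality (K.d i j) r

lemma smulCx_naturality (r : Coh.Γtop X) {K L : CochainComplex X.Modules ℤ} (φ : K ⟶ L) :
    smulCx r K ≫ φ = φ ≫ smulCx r L :=
  HomologicalComplex.hom_ext _ _ fun i => smulModΓ_naturality (φ.f i) r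

lemma homologyMap_smulCx (r : Coh.Γtop X) (K : CochainComplex X.Modules ℤ) (i : ℤ) :
    HomologicalComplex.homologyMap (smulCx r K) i = Formal.smulModΓ (K.homology i) r := by
  rw [← cancel_epi (K.homologyπ i), HomologicalComplex.homologyπ_naturality]
  have hcyc : HomologicalComplex.cyclesMap (smulCx r K) i = Formal.smulModΓ (K.cycles i) r := by
    rw [← cancel_mono (K.iCycles i), HomologicalComplex.cyclesMap_i]
    exact (smulModΓ_naturality (K.iCycles i) r).symm
  rw [hcyc]
  exact smulModΓ_naturality (K.homologyπ i) r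

lemma hd_Q_smulCx (r : Coh.Γtop X) (K : CochainComplex X.Modules ℤ) (i : ℤ) :
    (DerivedCategory.homologyFunctor X.Modules i).map (DerivedCategory.Q.map (smulCx r K)) =
      Formal.smulModΓ ((DerivedCategory.homologyFunctor X.Modules i).obj (DerivedCategory.Q.obj K)) r := by
  let e := (DerivedCategory.homologyFunctorFactors X.Modules i)
  rw [← cancel_mono (e.hom.app K)]
  refine (e.hom.naturality (smulCx r K)).trans ?_
  rw [smulModΓ_naturality]
  exact congrArg (e.hom.app K ≫ ·) (homologyMap_smulCx r K i)

/-- Cohomology of `Rf_*` is linear over the global functions of the base. -/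
theorem hd_rpush_smul (f : X ⟶ Y) [DCoh.HasRpush f] (r : Coh.Γtop Y) (F : X.Modules) (q : ℤ) :
    (DerivedCategory.homologyFunctor Y.Modules q).map ((DCoh.Rpush f).map
        ((DerivedCategory.singleFunctor X.Modules 0).map (Formal.smulModΓ F (f.appTop r)))) =
      Formal.smulModΓ (DCoh.HD ((DCoh.Rpush f).obj (DCoh.inD X F)) q) r := by
  let S := (CochainComplex.singleFunctor X.Modules 0).obj F
  obtain ⟨I, s, hI, hs⟩ := exists_kInjective_res S
  haveI := hI
  haveI := hs
  let eS := (DerivedCategory.singleFunctorIsoCompQ X.Modules 0)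
  haveI : IsIso (DerivedCategory.Q.map s) := (DerivedCategory.isIso_Q_map_iff_quasiIso _ _).2 hs
  let β := (DCoh.pushKh f).totalRightDerivedUnit DerivedCategory.Qh
    (HomotopyCategory.quasiIso X.Modules (ComplexShape.up ℤ))
  let qI := (HomotopyCategory.quotient X.Modules (ComplexShape.up ℤ)).obj I
  haveI := isIso_unit_of_kInjective f I
  let push := (Scheme.Modules.pushforward f).mapHomologicalComplex (ComplexShape.up ℤ)
  let H := DerivedCategory.homologyFunctor Y.Modules q
  -- identify with the pushforward of `I`
  let a : DCoh.inD X F ≅ DerivedCategory.Qh.obj qI :=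
    eS.app F ≪≫ asIso (DerivedCategory.Q.map s) ≪≫
      (DerivedCategory.quotientCompQhIso X.Modules).symm.app I
  let qh := (HomotopyCategory.quotient X.Modules (ComplexShape.up ℤ))
  have ha : (DerivedCategory.singleFunctor X.Modules 0).map (Formal.smulModΓ F (f.appTop r)) ≫ a.hom =
      a.hom ≫ DerivedCategory.Qh.map (qh.map (smulCx (f.appTop r) I)) := by
    have hs0 : (CochainComplex.singleFunctor X.Modules 0).map (Formal.smulModΓ F (f.appTop r)) ≫ s =
        s ≫ smulCx (f.appTop r) I := by
      rw [← smulCx_naturality]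
      congr 1
      refine HomologicalComplex.from_single_hom_ext ?_
      show ((HomologicalComplex.single X.Modules (ComplexShape.up ℤ) 0).map
        (Formal.smulModΓ F (f.appTop r))).f 0 = _
      rw [HomologicalComplex.single_map_f_self]
      show _ = Formal.smulModΓ _ _
      rw [← cancel_mono (HomologicalComplex.singleObjXSelf (ComplexShape.up ℤ) 0 F).hom,
        smulModΓ_naturality]
      simp
    simp only [a, Iso.trans_hom, Iso.app_hom, asIso_hom, Iso.symm_hom, Category.assoc]
    rw [eS.hom.naturality_assoc]
    congr 1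
    rw [Functor.comp_map, ← DerivedCategory.Q.map_comp_assoc, hs0, DerivedCategory.Q.map_comp_assoc]
    exact congrArg (DerivedCategory.Q.map s ≫ ·)
      ((DerivedCategory.quotientCompQhIso X.Modules).inv.naturality (smulCx (f.appTop r) I))
  have hpush : (DCoh.pushKh f).map (qh.map (smulCx (f.appTop r) I)) =
      DerivedCategory.Qh.map ((HomotopyCategory.quotient Y.Modules (ComplexShape.up ℤ)).map
        (smulCx r (push.obj I))) := by
    show DerivedCategory.Qh.map (((Scheme.Modules.pushforward f).mapHomotopyCategory
      (ComplexShape.up ℤ)).map (qh.map (smulCx (f.appTop r) I))) = _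
    refine congrArg (DerivedCategory.Qh (C := Y.Modules)).map ?_
    refine congrArg (HomotopyCategory.quotient Y.Modules (ComplexShape.up ℤ)).map ?_
    exact HomologicalComplex.hom_ext _ _ fun i => push_smulModΓ f r
  let c : (DCoh.Rpush f).obj (DCoh.inD X F) ≅ DerivedCategory.Q.obj (push.obj I) :=
    (DCoh.Rpush f).mapIso a ≪≫ (asIso (β.app qI)).symm ≪≫
      (DerivedCategory.quotientCompQhIso Y.Modules).app (push.obj I)
  have hc : (DCoh.Rpush f).map ((DerivedCategory.singleFunctor X.Modules 0).map
      (Formal.smulModΓ F (f.appTop r))) ≫ c.hom = c.hom ≫ DerivedCategory.Q.map (smulCx r (push.obj I)) := by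
    have hn := β.naturality (qh.map (smulCx (f.appTop r) I))
    rw [hpush] at hn
    simp only [Functor.comp_map] at hn
    simp only [c, Iso.trans_hom, Functor.mapIso_hom, Iso.symm_hom, asIso_inv, Iso.app_hom, Category.assoc]
    rw [← Functor.map_comp_assoc, ha, Functor.map_comp_assoc]
    congr 1
    rw [(IsIso.eq_inv_comp (β.app qI)).2 hn.symm]
    simp only [Category.assoc]
    erw [IsIso.hom_inv_id_assoc]
    exact congrArg (inv (β.app qI) ≫ ·)
      ((DerivedCategory.quotientCompQhIso Y.Modules).hom.naturality (smulCx r (push.obj I)))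
  rw [← cancel_mono (H.map c.hom), ← H.map_comp, hc, H.map_comp, hd_Q_smulCx, smulModΓ_naturality]

section Detect

variable {R : Type u} [Ring R]

/-- Maps into an injective module in one degree are detected on cohomology. -/
theorem eq_zero_of_homology {I : ModuleCat.{u} R} [Injective I] (n : ℤ)
    {M : DerivedCategory (ModuleCat.{u} R)}
    (g : M ⟶ (DerivedCategory.singleFunctor (ModuleCat.{u} R) n).obj I)
    (h : (DerivedCategory.homologyFunctor (ModuleCat.{u} R) n).map g = 0) : g = 0 := by
  obtain ⟨K, ⟨eK⟩⟩ : ∃ K, Nonempty (DerivedCategory.Q.obj K ≅ M) :=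
    ⟨_, ⟨DerivedCategory.Q.objObjPreimageIso M⟩⟩
  let S := (CochainComplex.singleFunctor (ModuleCat.{u} R) n).obj I
  let eS := (DerivedCategory.singleFunctorIsoCompQ (ModuleCat.{u} R) n).app I
  haveI : S.IsKInjective := by
    haveI : ∀ i, Injective (S.X i) := fun i => by
      by_cases hi : i = n
      · subst hi
        exact Injective.of_iso (HomologicalComplex.singleObjXSelf _ i I).symm inferInstance
      · exact IsZero.injective (HomologicalComplex.isZero_single_obj_X _ n I i hi)
    haveI : S.IsStrictlyGE n := (CochainComplex.isStrictlyGE_iff _ _).2 fun i hi =>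
      HomologicalComplex.isZero_single_obj_X _ n I i (by omega)
    exact CochainComplex.isKInjective_of_injective S n
  obtain ⟨φ, hφ⟩ := exists_Q_map (I := S) (eK.hom ≫ g ≫ eS.hom)
  have hH : HomologicalComplex.homologyMap φ n = 0 := by
    let e := DerivedCategory.homologyFunctorFactors (ModuleCat.{u} R) n
    rw [← cancel_epi (e.hom.app K), comp_zero]
    refine (e.hom.naturality φ).symm.trans ?_
    rw [Functor.comp_map, hφ, Functor.map_comp, Functor.map_comp, h, zero_comp, comp_zero, zero_comp]
  let σ := HomologicalComplex.singleObjXSelf (ComplexShape.up ℤ) n I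
  -- `φ` vanishes on cycles
  have hcyc : K.iCycles n ≫ φ.f n = 0 := by
    have h1 : HomologicalComplex.cyclesMap φ n ≫ S.homologyπ n = 0 := by
      rw [← HomologicalComplex.homologyπ_naturality, hH, comp_zero]
    haveI : IsIso (S.homologyπ n) := HomologicalComplex.isIso_homologyπ S (n - 1) n (by simp)
      ((HomologicalComplex.isZero_single_obj_X _ n I (n - 1) (by omega)).eq_of_src _ _)
    rw [← HomologicalComplex.cyclesMap_i, (cancel_mono (S.homologyπ n)).1 (h1.trans zero_comp.symm),
      zero_comp]
  -- extend through the differential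
  let T := ShortComplex.mk (K.iCycles n) (K.d n (n + 1)) (K.iCycles_d n (n + 1))
  have hT : T.Exact :=
    ShortComplex.exact_of_f_is_kernel _ (K.cyclesIsKernel n (n + 1) (by simp))
  haveI : Injective (S.X n) := Injective.of_iso σ.symm inferInstance
  let t : K.X (n + 1) ⟶ S.X n := hT.descToInjective (φ.f n) hcyc
  have ht : K.d n (n + 1) ≫ t = φ.f n := hT.comp_descToInjective _ _
  let hom : Homotopy φ 0 :=
    { hom := fun i j => if hij : i = n + 1 ∧ j = n then
        eqToHom (congrArg K.X hij.1) ≫ t ≫ eqToHom (congrArg S.X hij.2.symm) else 0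
      zero := fun i j hij => by
        rw [dif_neg]; rintro ⟨rfl, rfl⟩; exact hij (by simp)
      comm := fun i => by
        by_cases hi : i = n
        · subst hi
          rw [dNext_eq _ (show (ComplexShape.up ℤ).Rel i (i + 1) by simp),
            prevD_eq _ (show (ComplexShape.up ℤ).Rel (i - 1) i by simp)]
          rw [dif_pos ⟨rfl, rfl⟩, dif_neg (by omega)]
          simp [ht]
        · exact (HomologicalComplex.isZero_single_obj_X _ n I i hi).eq_of_tgt _ _ }
  have h0 : DerivedCategory.Q.map φ = 0 := by
    rw [← cancel_mono ((DerivedCategory.quotientCompQhIso _).inv.app S), zero_comp,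
      (DerivedCategory.quotientCompQhIso _).inv.naturality φ]
    rw [Functor.comp_map, (HomotopyCategory.eq_of_homotopy φ 0 hom), Functor.map_zero,
      Functor.map_zero, comp_zero]
  rw [hφ] at h0
  rw [← cancel_epi eK.hom, ← cancel_mono eS.hom, Category.assoc, h0, comp_zero, zero_comp]

end Detect

end Groth.Agent.Dual59
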