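import Groth.Agent.Dual59.RepGlue
import Groth.Agent.Dual59.RepBrown
import Groth.Agent.PerfD40.IsoScheme
import Groth.Agent.PerfD40.Support
import Groth.Agent.KFlatLib.Scheme.RpushTriangle
import Groth.Agent.KFlatLib.Scheme.RpushCoprodQCoh
import Groth.Agent.KFlatLib.Scheme.ExtZero
import Groth.Agent.KFlatLib.Scheme.TildeD
import Groth.Agent.KFlatLib.Scheme.ProjLocFree

/-!
# Objects local on an open of a scheme
-/

set_option linter.style.haveILetI false
set_option linter.unusedSectionVars false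
set_option backward.isDefEq.respectTransparency false

universe u w

open CategoryTheory CategoryTheory.Limits CategoryTheory.Pretriangulated AlgebraicGeometry

attribute [local instance] HasDerivedCategory.standard

namespace Groth.Agent.Dual59

open KFlatLib PerfD40 RepGlue

variable {X : Scheme.{u}}

/-- Morphism sets of `D(X)` are small. -/
lemma locallySmall_D (X : Scheme.{u}) : LocallySmall.{u} (DCoh.D X) := by
  refine ⟨fun E F => ?_⟩
  obtain ⟨I, f, hI, hf⟩ := exists_kInjective_res (DerivedCategory.Q.objPreimage F)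
  haveI := hI
  haveI := hf
  let eF : DerivedCategory.Q.obj I ≅ F :=
    (asIso (DerivedCategory.Q.map f)).symm ≪≫ DerivedCategory.Q.objObjPreimageIso F
  let eE := DerivedCategory.Q.objObjPreimageIso E
  refine small_of_surjective (f := fun g : DerivedCategory.Q.objPreimage E ⟶ I =>
    eE.inv ≫ DerivedCategory.Q.map g ≫ eF.hom) fun g => ?_
  obtain ⟨g', hg'⟩ := exists_Q_map (eE.hom ≫ g ≫ eF.inv)
  exact ⟨g', by simp [hg']⟩

/-- Cohomology vanishes on `U`. -/
def Van (U : X.Opens) (N : DCoh.D X) : Prop :=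
  ∀ i : ℤ, ∀ x ∈ U, x ∉ CohB1.support (DCoh.HD N i)

/-- Quasi-coherent objects local on `U`. -/
abbrev LocOn (U : X.Opens) : DCoh.D X → Prop := Loc DCoh.IsQCohD (Van U)

lemma van_iff (U : X.Opens) [PreservesFiniteLimits (Scheme.Modules.restrictFunctor U.ι)]
    (N : DCoh.D X) : Van U N ↔ IsZero ((DCoh.restrictD U.ι).obj N) := by
  refine ⟨fun h => ?_, fun h i x hx hs => support_subset_of_isZero_restrictD U N h i hs hx⟩
  exact isZero_restrictD_of_support U N (U : Set X)ᶜ (fun i x hs hx => h i x hx hs)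
    fun x hx hn => hn hx

lemma van_iff_of_range {Z : Scheme.{u}} (j : Z ⟶ X) [IsOpenImmersion j] (U : X.Opens)
    (hj : j.opensRange = U) (N : DCoh.D X) : Van U N ↔ IsZero ((DCoh.restrictD j).obj N) := by
  subst hj
  let e : Z ≅ (j.opensRange : Scheme.{u}) := j.isoOpensRange
  have he : e.hom ≫ j.opensRange.ι = j := Scheme.Hom.isoOpensRange_hom_ι j
  rw [van_iff]
  let k := (restrictDComp e.hom j.opensRange.ι j he).app N
  haveI := faithful_restrictD e
  refine ⟨fun h => ((DCoh.restrictD e.hom).map_isZero h).of_iso k.symm, fun h => ?_⟩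
  rw [IsZero.iff_id_eq_zero]
  exact (DCoh.restrictD e.hom).map_injective ((h.of_iso k).eq_of_src _ _)

lemma van_shift (U : X.Opens) : ∀ N, Van U N → ∀ n : ℤ, Van U (N⟦n⟧) := fun N h n =>
  (van_iff U _).2 (IsZero.of_iso ((shiftFunctor _ n).map_isZero ((van_iff U N).1 h))
    (((DCoh.restrictD U.ι).commShiftIso n).app N))

lemma van_ext₂ (U : X.Opens) : ∀ T ∈ distTriang (DCoh.D X), Van U T.obj₁ → Van U T.obj₃ →
    Van U T.obj₂ := fun T hT h₁ h₃ =>
  (van_iff U _).2 ((Triangle.isZero₂_iff _ ((DCoh.restrictD U.ι).map_distinguished T hT)).2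
    ⟨((van_iff U _).1 h₁).eq_of_src _ _, ((van_iff U _).1 h₃).eq_of_tgt _ _⟩)

lemma van_ext₃ (U : X.Opens) : ∀ T ∈ distTriang (DCoh.D X), Van U T.obj₁ → Van U T.obj₂ →
    Van U T.obj₃ := fun T hT h₁ h₂ =>
  (van_iff U _).2 ((Triangle.isZero₃_iff _ ((DCoh.restrictD U.ι).map_distinguished T hT)).2
    ⟨((van_iff U _).1 h₂).eq_of_src _ _, ((shiftFunctor _ (1 : ℤ)).map_isZero
      ((van_iff U _).1 h₁)).eq_of_tgt _ _⟩)

lemma isThick_qcohD : IsThick (DCoh.IsQCohD (X := X)) where
  shift E hE n := isQCohD_shift hE n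
  ext₂ T hT h₁ h₃ := isQCohD_obj₂ hT h₁ h₃

variable {Z : Scheme.{u}} (j : Z ⟶ X) [IsOpenImmersion j] [DCoh.HasRpush j]

lemma isIso_counit : IsIso (restrictRpushAdj j).counit := by
  obtain ⟨e⟩ := nonempty_rpush_restrictD_self j
  exact (restrictRpushAdj j).isIso_counit_of_iso e

lemma orth_rpush (F : DCoh.D Z) (N : DCoh.D X) (hN : Van j.opensRange N)
    (φ : N ⟶ (DCoh.Rpush j).obj F) : φ = 0 :=
  ((restrictRpushAdj j).homEquiv N F).symm.injective
    (((van_iff_of_range j _ rfl N).1 hN).eq_of_src _ _)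

lemma locOn_rpush [QuasiCompact j] [QuasiSeparated j] {F : DCoh.D Z} (hF : DCoh.IsQCohD F) :
    LocOn j.opensRange ((DCoh.Rpush j).obj F) :=
  ⟨isQCohD_rpush j hF, fun N hN φ => orth_rpush j F N hN φ⟩

lemma exists_unit_triangle (E : DCoh.D X) :
    ∃ (N : DCoh.D X) (p : (DCoh.Rpush j).obj ((DCoh.restrictD j).obj E) ⟶ N) (d : N ⟶ E⟦(1 : ℤ)⟧),
      Triangle.mk ((restrictRpushAdj j).unit.app E) p d ∈ distTriang (DCoh.D X) ∧
        Van j.opensRange N := by
  obtain ⟨N, p, d, hT⟩ := distinguished_cocone_triangle ((restrictRpushAdj j).unit.app E)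
  refine ⟨N, p, d, hT, (van_iff_of_range j _ rfl N).2 ?_⟩
  haveI := isIso_counit j
  refine (Triangle.isZero₃_iff_isIso₁ _ ((DCoh.restrictD j).map_distinguished _ hT)).2 ?_
  show IsIso ((DCoh.restrictD j).map ((restrictRpushAdj j).unit.app E))
  haveI : IsIso (𝟙 ((DCoh.restrictD j).obj E)) := (Iso.refl _).isIso_hom
  exact IsIso.of_isIso_fac_right ((restrictRpushAdj j).left_triangle_components E)

lemma hasRefl [QuasiCompact j] [QuasiSeparated j] :
    HasRefl DCoh.IsQCohD (Van j.opensRange) := fun E hE => by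
  obtain ⟨N, p, d, hT, hN⟩ := exists_unit_triangle j E
  exact ⟨_, N, _, p, d, hT, locOn_rpush j (isQCohD_restrictD j hE), hN⟩

/-- A local object is the direct image of its restriction. -/
lemma isIso_unit_of_locOn [QuasiCompact j] [QuasiSeparated j] {E : DCoh.D X}
    (hE : LocOn j.opensRange E) : IsIso ((restrictRpushAdj j).unit.app E) := by
  obtain ⟨N, p, d, hT, hN⟩ := exists_unit_triangle j E
  have hl : LocOn j.opensRange N := (loc_isThick isThick_qcohD (van_shift _)).ext₃ hT hE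
    (locOn_rpush j (isQCohD_restrictD j hE.mem))
  exact (Triangle.isZero₃_iff_isIso₁ _ hT).1 (hl.isZero hN)

omit [IsOpenImmersion j] [DCoh.HasRpush j] in
lemma hasRefl_opens (U : X.Opens) [QuasiCompact U.ι] [QuasiSeparated U.ι] :
    HasRefl DCoh.IsQCohD (Van U) := by
  haveI := hasRpush_scheme U.ι
  have h := hasRefl U.ι
  rwa [Scheme.Opens.opensRange_ι] at h

omit [IsOpenImmersion j] [DCoh.HasRpush j] in
/-- Base change of the vanishing locus. -/
lemma van_of_locOn {U V W : X.Opens} [QuasiCompact U.ι] [QuasiSeparated U.ι] (hW : U ⊓ V = W)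
    {E : DCoh.D X} (hE : LocOn U E) (hEW : Van W E) : Van V E := by
  haveI := hasRpush_scheme U.ι
  haveI := hasRpush_scheme (U.ι ∣_ V)
  haveI : IsIso ((restrictRpushAdj U.ι).unit.app E) :=
    isIso_unit_of_locOn U.ι (by rwa [Scheme.Opens.opensRange_ι])
  obtain ⟨e⟩ := nonempty_rpush_restrictD_iso U.ι V
  haveI : (DCoh.Rpush (U.ι ∣_ V)).Additive :=
    (restrictRpushAdj (U.ι ∣_ V)).right_adjoint_additive
  rw [van_iff]
  refine IsZero.of_iso ?_ ((DCoh.restrictD V.ι).mapIso (asIso ((restrictRpushAdj U.ι).unit.app E)) ≪≫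
    e.app _)
  refine (DCoh.Rpush (U.ι ∣_ V)).map_isZero ?_
  let P := U.ι ⁻¹ᵁ V
  obtain ⟨k⟩ := nonempty_restrictD_comp P.ι U.ι (P.ι ≫ U.ι) rfl E
  refine IsZero.of_iso ?_ k.symm
  refine (van_iff_of_range (P.ι ≫ U.ι) W ?_ E).1 hEW
  rw [Scheme.Hom.opensRange_comp, Scheme.Opens.opensRange_ι, ← hW]
  exact Scheme.Hom.image_preimage_eq_opensRange_inf .. |>.trans (by rw [Scheme.Opens.opensRange_ι])

end Groth.Agent.Dual59
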