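import Groth.Agent.Dual59.KillCore
import Groth.Agent.Dual59.KillLinear
import Groth.Agent.Dual59.RepGeom
import Groth.Agent.Dual59.RepMain
import Groth.Agent.PerfD40.CohRpush
import Groth.Agent.PerfD40.IsoScheme
import Groth.Agent.KFlatLib.Scheme.RpushRestrict
import Groth.Agent.QCoh.ProperOver

/-!
# Killing maps to direct images of torsion injectives on an affine open
-/

set_option linter.style.haveILetI false
set_option linter.unusedSectionVars false
set_option backward.isDefEq.respectTransparency false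
set_option backward.isDefEq.respectTransparency.types false

universe u

open CategoryTheory CategoryTheory.Limits CategoryTheory.Pretriangulated AlgebraicGeometry
  TopologicalSpace Opposite

attribute [local instance] HasDerivedCategory.standard

namespace Groth.Agent.Dual59

open KFlatLib PerfD40

section Affine

variable {R : CommRingCat.{u}}

/-- A map to `Ĩ` placed in degree `q` is detected on `H^q`. -/
theorem eq_zero_of_homology_tilde {I : ModuleCat.{u} R} [Injective I] (q : ℤ) {P : DCoh.D (Spec R)}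
    (hP : DCoh.IsQCohD P)
    (g : P ⟶ (DerivedCategory.singleFunctor (Spec R).Modules q).obj ((tilde.functor R).obj I))
    (h : (DerivedCategory.homologyFunctor (Spec R).Modules q).map g = 0) : g = 0 := by
  obtain ⟨M, ⟨eP⟩⟩ := exists_tildeD_iso hP
  let σ := ((tilde.functor R).mapDerivedCategorySingleFunctor q).app I
  obtain ⟨a, ha⟩ := (tildeD_map_bijective M
    ((DerivedCategory.singleFunctor (ModuleCat.{u} R) q).obj I)).2 (eP.hom ≫ g ≫ σ.inv)
  have hz : a = 0 := by
    refine eq_zero_of_homology q a ((tilde.functor R).map_injective ?_)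
    let m := mapDCHomologyIso (tilde.functor R) q
    have h1 : (DerivedCategory.homologyFunctor (Spec R).Modules q).map
        ((DCoh.tildeD R).map a) = 0 := by
      rw [ha, Functor.map_comp, Functor.map_comp, h, zero_comp, comp_zero]
    rw [Functor.map_zero, ← cancel_epi (m.hom.app M), comp_zero]
    refine (m.hom.naturality a).symm.trans ?_
    exact (congrArg (· ≫ _) h1).trans zero_comp
  rw [hz, Functor.map_zero] at ha
  rw [← cancel_epi eP.hom, ← cancel_mono σ.inv, Category.assoc, ← ha, comp_zero, zero_comp]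

/-- Global sections detect maps of quasi-coherent modules on an affine scheme. -/
theorem eq_zero_of_gamma {M N : (Spec R).Modules} (hM : Coh.IsQCoh M) (hN : Coh.IsQCoh N)
    (φ : M ⟶ N) (h : ∀ x, (moduleSpecΓFunctor (R := R)).map φ x = 0) : φ = 0 :=
  QCoh.hom_eq_zero_of_cover hM hN φ (fun _ : Unit => ⊤) (fun _ => isAffineOpen_top _)
    (fun _ => ⟨⟨⟩, trivial⟩) fun _ x => h x

/-- Global sections are exact on quasi-coherent modules on an affine scheme. -/
theorem exact_gamma (S : ShortComplex (Spec R).Modules) (hS : S.Exact) (h₁ : Coh.IsQCoh S.X₁)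
    (h₂ : Coh.IsQCoh S.X₂) (h₃ : Coh.IsQCoh S.X₃) :
    Function.Exact ((moduleSpecΓFunctor (R := R)).map S.f).hom
      ((moduleSpecΓFunctor (R := R)).map S.g).hom := by
  haveI : IsIso (Scheme.Modules.fromTildeΓNatTrans.app S.X₁) :=
    (isQuasicoherent_iff_isIso_fromTildeΓ _).1 h₁
  haveI : IsIso (Scheme.Modules.fromTildeΓNatTrans.app S.X₂) :=
    (isQuasicoherent_iff_isIso_fromTildeΓ _).1 h₂
  haveI : IsIso (Scheme.Modules.fromTildeΓNatTrans.app S.X₃) :=
    (isQuasicoherent_iff_isIso_fromTildeΓ _).1 h₃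
  haveI : (moduleSpecΓFunctor (R := R)).Additive :=
    (tilde.adjunction (R := R)).right_adjoint_additive
  let e : (S.map (moduleSpecΓFunctor (R := R))).map (tilde.functor R) ≅ S :=
    ShortComplex.isoMk (asIso (Scheme.Modules.fromTildeΓNatTrans.app _)) (asIso (Scheme.Modules.fromTildeΓNatTrans.app _))
      (asIso (Scheme.Modules.fromTildeΓNatTrans.app _)) (Scheme.Modules.fromTildeΓNatTrans.naturality _).symm
      (Scheme.Modules.fromTildeΓNatTrans.naturality _).symm
  exact LinearMap.exact_iff.2 ((ShortComplex.moduleCat_exact_iff_range_eq_ker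
    (S.map (moduleSpecΓFunctor (R := R)))).1
    ((ShortComplex.exact_map_iff_of_faithful _ (tilde.functor R)).1
      (ShortComplex.exact_of_iso e.symm hS))).symm

end Affine

variable {X Y : Scheme.{u}}

/-- A section of a module killed by restriction to each member of a cover vanishes. -/
theorem app_eq_zero_of_cover {M : X.Modules} {κ : Type*} (U : κ → X.Opens) (O : X.Opens)
    (hO : O ≤ ⨆ k, U k) (hM : ∀ k, IsZero ((Scheme.Modules.restrictFunctor (U k).ι).obj M))
    (x : Γ(M, O)) : x = 0 := by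
  let F : TopCat.Sheaf Ab.{u} X := ⟨M.presheaf, M.isSheaf⟩
  refine F.eq_of_locally_eq' (fun k => O ⊓ U k) O (fun k => homOfLE inf_le_left) ?_ _ _ fun k => ?_
  · intro y hy
    obtain ⟨k, hk⟩ := Opens.mem_iSup.1 (hO hy)
    exact Opens.mem_iSup.2 ⟨k, hy, hk⟩
  · have h := congrArg (fun q => q.app ((U k).ι ⁻¹ᵁ O)) ((hM k).eq_of_src (𝟙 _) 0)
    have he : (U k).ι ''ᵁ ((U k).ι ⁻¹ᵁ O) = O ⊓ U k := by
      rw [Scheme.Hom.image_preimage_eq_opensRange_inf, Scheme.Opens.opensRange_ι, inf_comm]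
    show M.presheaf.map (homOfLE inf_le_left).op x = M.presheaf.map _ 0
    rw [map_zero]
    have hx : ∀ y : Γ(M, (U k).ι ''ᵁ ((U k).ι ⁻¹ᵁ O)), y = 0 := fun y => congr($h y)
    rw [he] at hx
    exact hx _

/-- The ring of functions on an affine open acting on a scheme over it. -/
noncomputable def chiW (f : X ⟶ Y) (W : Y.Opens) : Γ(Y, W) →+* Coh.Γtop (↑(f ⁻¹ᵁ W) : Scheme.{u}) :=
  (W.topIso.inv ≫ (f ∣_ W).appTop).hom

lemma basicOpen_chiW (f : X ⟶ Y) (W : Y.Opens) (s : Γ(Y, W)) :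
    (↑(f ⁻¹ᵁ W) : Scheme.{u}).basicOpen (chiW f W s) = (f ⁻¹ᵁ W).ι ⁻¹ᵁ (f ⁻¹ᵁ Y.basicOpen s) := by
  have h : W.toScheme.basicOpen (W.topIso.inv s) = W.ι ⁻¹ᵁ Y.basicOpen s := by
    rw [Scheme.preimage_basicOpen, Scheme.Opens.ι_app]
    show _ = W.toScheme.basicOpen ((Y.presheaf.map _) s)
    rw [← W.toScheme.basicOpen_res_eq (W.topIso.inv s) (eqToHom (W.ι_preimage_self)).op]
    congr 1
    simp only [Scheme.Opens.topIso_inv]
    show ((Y.presheaf.map _) ≫ (Y.presheaf.map _)) s = _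
    rw [← Functor.map_comp]
    rfl
  calc (↑(f ⁻¹ᵁ W) : Scheme.{u}).basicOpen (chiW f W s)
      = (f ∣_ W) ⁻¹ᵁ W.toScheme.basicOpen (W.topIso.inv s) :=
        (Scheme.preimage_basicOpen (f ∣_ W) (W.topIso.inv s)).symm
    _ = ((f ∣_ W) ≫ W.ι) ⁻¹ᵁ Y.basicOpen s := by rw [h]; rfl
    _ = _ := by rw [morphismRestrict_ι]; rfl

lemma isCohD_inD [IsLocallyNoetherian X] {M : X.Modules} (hM : Coh.IsCoh M) : DCoh.IsCohD (DCoh.inD X M) := fun i => by
  by_cases hi : i = 0
  · subst hi
    exact KFlatLib.isCoh_of_iso ((DerivedCategory.singleFunctorCompHomologyFunctorIso X.Modules 0).app M).symm hM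
  · rcases lt_or_gt_of_ne hi with h | h
    · exact KFlatLib.isCoh_of_isZero (DerivedCategory.isZero_of_isGE (DCoh.inD X M) 0 i h)
    · exact KFlatLib.isCoh_of_isZero (DerivedCategory.isZero_of_isLE (DCoh.inD X M) 0 i h)

/-- Restriction turns multiplication by a function into multiplication by its restriction. -/
lemma restrict_smulModΓ (e : X ⟶ Y) [IsOpenImmersion e] (r : Coh.Γtop Y) (M : Y.Modules) :
    (Scheme.Modules.restrictFunctor e).map (Formal.smulModΓ M r) =
      Formal.smulModΓ ((Scheme.Modules.restrictFunctor e).obj M) (e.appTop r) :=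
  Scheme.Modules.hom_ext _ _ fun U => by
    ext m
    show Y.presheaf.map (homOfLE (le_top : e ''ᵁ U ≤ ⊤)).op r • (show Γ(M, e ''ᵁ U) from m) =
      (e.appIso U).inv (X.presheaf.map (homOfLE (le_top : U ≤ ⊤)).op (e.appTop r)) •
        (show Γ(M, e ''ᵁ U) from m)
    congr 1
    have h := ConcreteCategory.congr_hom (Scheme.Hom.appLE_appIso_inv e
      (show U ≤ e ⁻¹ᵁ ⊤ from le_top)) r
    exact h.symm

variable (f : X ⟶ Y) [IsProper f] [IsLocallyNoetherian Y] {W : Y.Opens} (hW : IsAffineOpen W)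

include f in
lemma isLocallyNoetherian_source : IsLocallyNoetherian X :=
  LocallyOfFiniteType.isLocallyNoetherian f

lemma isNoetherianRing_sections (hW : IsAffineOpen W) : IsNoetherianRing Γ(Y, W) :=
  IsLocallyNoetherian.component_noetherian ⟨W, hW⟩

/-- `Γ ∘ H^q ∘ Rg_*`, for `g` the base change of `f` to an affine open. -/
noncomputable def gammaHq [DCoh.HasRpush (f ∣_ W)] (q : ℤ) :
    (↑(f ⁻¹ᵁ W) : Scheme.{u}).Modules ⥤ ModuleCat.{u} Γ(Y, W) :=
  DerivedCategory.singleFunctor _ 0 ⋙ DCoh.Rpush (f ∣_ W) ⋙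
    DerivedCategory.homologyFunctor _ q ⋙ Scheme.Modules.restrictFunctor hW.isoSpec.inv ⋙
    moduleSpecΓFunctor

instance [DCoh.HasRpush (f ∣_ W)] (q : ℤ) : (gammaHq f hW q).Additive := by
  haveI := (rpush_additive_exact (f ∣_ W)).1
  haveI : (moduleSpecΓFunctor (R := Γ(Y, W))).Additive :=
    (tilde.adjunction (R := Γ(Y, W))).right_adjoint_additive
  haveI : (Scheme.Modules.restrictFunctor hW.isoSpec.inv).Additive :=
    (Scheme.Modules.restrictAdjunction hW.isoSpec.inv).left_adjoint_additive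
  unfold gammaHq
  infer_instance

lemma gammaHq_smul [DCoh.HasRpush (f ∣_ W)] (q : ℤ) (F : (↑(f ⁻¹ᵁ W) : Scheme.{u}).Modules)
    (a : Γ(Y, W)) (x : (gammaHq f hW q).obj F) :
    (gammaHq f hW q).map (Formal.smulModΓ F (chiW f W a)) x = a • x := by
  show (moduleSpecΓFunctor (R := Γ(Y, W))).map ((Scheme.Modules.restrictFunctor hW.isoSpec.inv).map
    ((DerivedCategory.homologyFunctor _ q).map ((DCoh.Rpush (f ∣_ W)).map
      ((DerivedCategory.singleFunctor _ 0).map
        (Formal.smulModΓ F ((f ∣_ W).appTop (W.topIso.inv a))))))) x = _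
  rw [hd_rpush_smul, restrict_smulModΓ]
  have h : hW.isoSpec.inv.appTop (W.topIso.inv a) = (Scheme.ΓSpecIso Γ(Y, W)).inv a := by
    rw [hW.isoSpec_inv_appTop]
    show (Scheme.ΓSpecIso Γ(Y, W)).inv (W.topIso.hom (W.topIso.inv a)) = _
    rw [← ConcreteCategory.comp_apply W.topIso.inv, Iso.inv_hom_id, ConcreteCategory.id_apply]
  rw [h]
  refine Eq.trans ?_ (Scheme.Modules.smul_Spec_def (U := (⊤ : (Spec Γ(Y, W)).Opens)) a
    (show Γ((Scheme.Modules.restrictFunctor hW.isoSpec.inv).obj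
      ((DerivedCategory.homologyFunctor _ q).obj ((DCoh.Rpush (f ∣_ W)).obj
        ((DerivedCategory.singleFunctor _ 0).obj F))), ⊤) from x)).symm
  exact smulModΓ_app _ _ _

section

variable [IsAffine W.toScheme] [DCoh.HasRpush (f ∣_ W)]

include hW in
lemma isCohD_gammaHq {F : (↑(f ⁻¹ᵁ W) : Scheme.{u}).Modules} (hF : Coh.IsCoh F) :
    DCoh.IsCohD ((DCoh.Rpush (f ∣_ W)).obj (DCoh.inD _ F)) := by
  haveI : IsProper (f ∣_ W) := inferInstance
  haveI : CompactSpace W := isCompact_iff_compactSpace.1 hW.isCompact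
  haveI : IsNoetherian W.toScheme := {}
  haveI := isLocallyNoetherian_source (f ∣_ W)
  refine (isCohD_rpush_bounded (f ∣_ W) (DCoh.inD _ F) 0 0 (isCohD_inD hF) fun i => ?_).1
  haveI : IsProper (𝟙 _ ≫ f ∣_ W) := by rw [Category.id_comp]; infer_instance
  have hc := isCohD_inD hF i
  exact QCoh.isProperOver_of_subset (𝟙 _) (QCoh.isClosed_support_of_isFT hc.1 hc.2)
    fun x _ => ⟨x, rfl⟩

lemma finite_gammaHq (q : ℤ) {F : (↑(f ⁻¹ᵁ W) : Scheme.{u}).Modules} (hF : Coh.IsCoh F) :
    Module.Finite Γ(Y, W) ((gammaHq f hW q).obj F) := by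
  let P := (Scheme.Modules.restrictFunctor hW.isoSpec.inv).obj
    (DCoh.HD ((DCoh.Rpush (f ∣_ W)).obj (DCoh.inD _ F)) q)
  haveI := isNoetherianRing_sections hW
  have hP : Coh.IsCoh P := KFlatLib.isCoh_restrict _ (isCohD_gammaHq f hW hF q)
  obtain ⟨T, hT⟩ := (QCoh.finite_sections hP (isAffineOpen_top (Spec Γ(Y, W)))).fg_top
  show Module.Finite Γ(Y, W) Γ(P, ⊤)
  refine ⟨⟨T, top_unique fun x hx' => ?_⟩⟩
  clear hx'
  have hx : x ∈ Submodule.span Γ(Spec Γ(Y, W), ⊤) (T : Set Γ(P, ⊤)) := hT ▸ trivial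
  induction hx using Submodule.span_induction with
  | mem y hy => exact Submodule.subset_span hy
  | zero => exact zero_mem _
  | add a b _ _ ha hb => exact add_mem ha hb
  | smul r b _ hb =>
    have h : r • b = (Scheme.ΓSpecIso Γ(Y, W)).hom r • b := by
      rw [Scheme.Modules.smul_Spec_def]
      congr 1
      rw [← ConcreteCategory.comp_apply (Scheme.ΓSpecIso Γ(Y, W)).hom, ← ConcreteCategory.comp_apply,
        Iso.hom_inv_id, Category.id_comp]
      exact (ConcreteCategory.congr_hom ((Spec Γ(Y, W)).presheaf.map_id _) r).symm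
    rw [h]
    exact Submodule.smul_mem _ _ hb

lemma exact_gammaHq (q : ℤ) (S : ShortComplex (↑(f ⁻¹ᵁ W) : Scheme.{u}).Modules) (hS : S.ShortExact)
    (h₁ : Coh.IsCoh S.X₁) (h₂ : Coh.IsCoh S.X₂) (h₃ : Coh.IsCoh S.X₃) :
    Function.Exact ((gammaHq f hW q).map S.f).hom ((gammaHq f hW q).map S.g).hom := by
  obtain ⟨c, hc⟩ := exists_rpush_triangle (f ∣_ W) _ hS.singleTriangle_distinguished
  have he := DerivedCategory.HomologySequence.exact₂ _ hc q
  let r := Scheme.Modules.restrictFunctor hW.isoSpec.inv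
  let D := DerivedCategory.singleFunctor (↑(f ⁻¹ᵁ W) : Scheme.{u}).Modules 0
  have hz : (DerivedCategory.homologyFunctor _ q).map ((DCoh.Rpush (f ∣_ W)).map (D.map S.f)) ≫
      (DerivedCategory.homologyFunctor _ q).map ((DCoh.Rpush (f ∣_ W)).map (D.map S.g)) = 0 := by
    have hfg : D.map S.f ≫ D.map S.g = 0 := by rw [← D.map_comp, S.zero, D.map_zero]
    haveI := (rpush_additive_exact (f ∣_ W)).1
    rw [← Functor.map_comp, ← Functor.map_comp, hfg, Functor.map_zero, Functor.map_zero]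
  have he' : (ShortComplex.mk _ _ hz).Exact := he
  haveI : PreservesFiniteLimits r := inferInstance
  haveI : PreservesFiniteColimits r := inferInstance
  haveI : r.PreservesHomology := inferInstance
  let T : ShortComplex (Spec Γ(Y, W)).Modules :=
    ShortComplex.mk (r.map ((DerivedCategory.homologyFunctor _ q).map ((DCoh.Rpush (f ∣_ W)).map ((DerivedCategory.singleFunctor _ 0).map S.f))))
      (r.map ((DerivedCategory.homologyFunctor _ q).map ((DCoh.Rpush (f ∣_ W)).map ((DerivedCategory.singleFunctor _ 0).map S.g)))) (by rw [← r.map_comp, hz, r.map_zero])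
  have hT : T.Exact := he'.map r
  exact exact_gamma T hT (QCoh.isQCoh_restrict _ (isCohD_gammaHq f hW h₁ q).1) (QCoh.isQCoh_restrict _ (isCohD_gammaHq f hW h₂ q).1) (QCoh.isQCoh_restrict _ (isCohD_gammaHq f hW h₃ q).1)

end

set_option maxHeartbeats 1600000 in
/-- A map from `Rf_*(F[k])` to the direct image of a torsion injective on an affine open kills a
coherent submodule which is all of `F` where the torsion is inverted. -/
theorem kill_local [DCoh.HasRpush f] [DCoh.HasRpush hW.fromSpec] (I : ModuleCat.{u} Γ(Y, W))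
    [Injective I] (l : List Γ(Y, W)) (htor : ∀ s ∈ l, ∀ x : I, ∃ m : ℕ, s ^ m • x = 0)
    (V : Y.Opens) (hV : W ⊓ V ≤ ⨆ s : {s // s ∈ l}, Y.basicOpen s.1) {F : X.Modules}
    (hF : Coh.IsCoh F) (k j : ℤ)
    (φ : (DCoh.Rpush f).obj ((DCoh.inD X F)⟦k⟧) ⟶ ((DCoh.Rpush hW.fromSpec).obj
      ((DerivedCategory.singleFunctor _ 0).obj ((tilde.functor Γ(Y, W)).obj I)))⟦j⟧) :
    ∃ (F' : X.Modules) (ι : F' ⟶ F), Coh.IsCoh F' ∧ Mono ι ∧
      IsIso ((Scheme.Modules.restrictFunctor (f ⁻¹ᵁ V).ι).map ι) ∧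
      (DCoh.Rpush f).map (((DerivedCategory.singleFunctor X.Modules 0).map ι)⟦k⟧') ≫ φ = 0 := by
  let R := Γ(Y, W)
  let Z : Scheme.{u} := (f ⁻¹ᵁ W : X.Opens)
  let g : Z ⟶ W := f ∣_ W
  let e' : Spec R ⟶ W := hW.isoSpec.inv
  haveI : IsAffine W.toScheme := hW
  haveI : IsLocallyNoetherian X := LocallyOfFiniteType.isLocallyNoetherian f
  haveI : IsNoetherian W.toScheme := {}
  haveI : IsProper g := inferInstanceAs (IsProper (f ∣_ W))
  haveI : IsLocallyNoetherian Z := LocallyOfFiniteType.isLocallyNoetherian g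
  haveI : CompactSpace Z := QuasiCompact.compactSpace_of_compactSpace g
  haveI : DCoh.HasRpush g := hasRpush_scheme g
  haveI : DCoh.HasRpush (f ∣_ W) := inferInstanceAs (DCoh.HasRpush g)
  let rS := DCoh.restrictD hW.fromSpec
  let j₀ := hW.fromSpec
  let S0 := (DerivedCategory.singleFunctor (Spec R).Modules 0).obj ((tilde.functor R).obj I)
  let q : ℤ := k - j
  -- the comparison
  obtain ⟨sf⟩ := nonempty_rpush_shift_natIso f k
  obtain ⟨sj⟩ := nonempty_rpush_shift_natIso hW.fromSpec j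
  obtain ⟨bc⟩ := nonempty_rpush_restrictD_iso f W
  let rZ := Scheme.Modules.restrictFunctor (f ⁻¹ᵁ W).ι
  let P : Z.Modules ⥤ DCoh.D (Spec R) :=
    DerivedCategory.singleFunctor Z.Modules 0 ⋙ DCoh.Rpush g ⋙ DCoh.restrictD e'
  let Θ : (DerivedCategory.singleFunctor X.Modules 0 ⋙ shiftFunctor (DCoh.D X) k ⋙
      DCoh.Rpush f ⋙ rS) ≅ rZ ⋙ P ⋙ shiftFunctor _ k :=
    Functor.isoWhiskerLeft (DerivedCategory.singleFunctor X.Modules 0)
      (Functor.isoWhiskerRight sf rS ≪≫ Functor.isoWhiskerLeft (DCoh.Rpush f) (rS.commShiftIso k) ≪≫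
        Functor.isoWhiskerRight (Functor.isoWhiskerLeft (DCoh.Rpush f)
          (restrictDComp e' W.ι hW.fromSpec hW.isoSpec_inv_ι).symm ≪≫
          Functor.isoWhiskerRight bc (DCoh.restrictD e')) (shiftFunctor _ k)) ≪≫
      Functor.isoWhiskerRight (rZ.mapDerivedCategorySingleFunctor 0)
        (DCoh.Rpush g ⋙ DCoh.restrictD e' ⋙ shiftFunctor _ k)
  let adj := restrictRpushAdj hW.fromSpec
  let ψ : rS.obj ((DCoh.Rpush f).obj ((DCoh.inD X F)⟦k⟧)) ⟶ S0⟦j⟧ :=
    (adj.homEquiv _ _).symm (φ ≫ sj.inv.app S0)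
  let sft : S0⟦j⟧ ≅
      ((DerivedCategory.singleFunctor (Spec R).Modules q).obj ((tilde.functor R).obj I))⟦k⟧ :=
    ((DerivedCategory.singleFunctors (Spec R).Modules).shiftIso j (-j) 0 (by omega)).app _ ≪≫
      (((DerivedCategory.singleFunctors (Spec R).Modules).shiftIso k (-j) q (by omega)).app _).symm
  obtain ⟨ψ₀, hψ₀⟩ := (shiftFunctor (DCoh.D (Spec R)) k).map_surjective
    (X := P.obj (rZ.obj F)) (Θ.inv.app F ≫ ψ ≫ sft.hom)
  let Hq := DerivedCategory.homologyFunctor (Spec R).Modules q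
  let sc := (DerivedCategory.singleFunctorCompHomologyFunctorIso (Spec R).Modules q).app
    ((tilde.functor R).obj I)
  let m := mapDCHomologyIso (Scheme.Modules.restrictFunctor e') q
  let eh : (Scheme.Modules.restrictFunctor e').obj
      (DCoh.HD ((DCoh.Rpush g).obj (DCoh.inD Z (rZ.obj F))) q) ⟶ (tilde.functor R).obj I :=
    m.inv.app _ ≫ Hq.map ψ₀ ≫ sc.hom
  let e : (gammaHq f hW q).obj (rZ.obj F) →ₗ[R] I :=
    ((moduleSpecΓFunctor (R := R)).map eh ≫ (tilde.toTildeΓNatIso (R := R)).inv.app I).hom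
  haveI := isNoetherianRing_sections hW
  have hFZ : Coh.IsCoh (rZ.obj F) := KFlatLib.isCoh_restrict _ hF
  obtain ⟨F₁, ι₁, hF₁, hι₁, hiso, hkill⟩ := exists_kill (chiW f W) (gammaHq f hW q)
    (exact_gammaHq f hW q) (fun _ h => finite_gammaHq f hW q h) (fun _ _ _ => gammaHq_smul f hW q _ _ _)
    (Module.injective_module_of_injective_object _ I) l htor (rZ.obj F) hFZ e
  -- extend to `X`
  let adjR := Scheme.Modules.restrictAdjunction (f ⁻¹ᵁ W).ι
  let Q := cokernel ι₁
  have hQq : Coh.IsQCoh Q := QCoh.isQCoh_cokernel hF₁.1 hFZ.1 _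
  let p : F ⟶ (Scheme.Modules.pushforward (f ⁻¹ᵁ W).ι).obj Q :=
    adjR.homEquiv F Q (cokernel.π ι₁)
  let G := kernel p
  have hG : Coh.IsCoh G := QCoh.isCoh_of_mono (kernel.ι p) hF
    (QCoh.isQCoh_kernel hF.1 (QCoh.isQCoh_pushforward _ hQq) p)
  have hπ : rZ.map (kernel.ι p) ≫ cokernel.π ι₁ = 0 := by
    apply (adjR.homEquiv G Q).injective
    rw [adjR.homEquiv_naturality_left]
    show kernel.ι p ≫ p = _
    rw [kernel.condition]
    simp [Adjunction.homEquiv_unit]
  haveI := hι₁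
  let lf : rZ.obj G ⟶ F₁ := Abelian.monoLift ι₁ (rZ.map (kernel.ι p)) hπ
  refine ⟨G, kernel.ι p, hG, inferInstance, ?_, ?_⟩
  · -- iso over `V`
    let rV := Scheme.Modules.restrictFunctor (f ⁻¹ᵁ V).ι
    have h0 : rV.map p = 0 := Scheme.Modules.hom_ext _ _ fun U => by
      ext x
      let O := (f ⁻¹ᵁ V).ι ''ᵁ U
      show (p.app O x : Γ(Q, (f ⁻¹ᵁ W).ι ⁻¹ᵁ O)) = 0
      refine app_eq_zero_of_cover (fun s : {s // s ∈ l} => Z.basicOpen (chiW f W s.1)) _ ?_
        (fun s => ?_) _
      · intro z hz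
        have hz' : f ((f ⁻¹ᵁ W).ι z) ∈ V := (f ⁻¹ᵁ V).ι_image_le U hz
        obtain ⟨s, hs⟩ := Opens.mem_iSup.1 (hV (show f ((f ⁻¹ᵁ W).ι z) ∈ W ⊓ V from ⟨z.2, hz'⟩))
        refine Opens.mem_iSup.2 ⟨s, ?_⟩
        rw [basicOpen_chiW]
        exact hs
      · let r := Scheme.Modules.restrictFunctor (Z.basicOpen (chiW f W s.1)).ι
        haveI := hiso s.1 s.2
        haveI : PreservesColimitsOfSize.{0, 0} r :=
          (Scheme.Modules.restrictAdjunction _).leftAdjoint_preservesColimits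
        exact (isZero_cokernel_of_epi (r.map ι₁)).of_iso (PreservesCokernel.iso r ι₁)
    haveI : IsIso (kernel.ι (rV.map p)) := by
      rw [show kernel.ι (rV.map p) = (kernelIsoOfEq h0).hom ≫ kernel.ι 0 by simp]
      infer_instance
    show IsIso (rV.map (kernel.ι p))
    rw [← kernelComparison_comp_ι p rV]
    infer_instance
  · -- the composite vanishes
    let ιZ := rZ.map (kernel.ι p)
    have hg : (Scheme.Modules.restrictFunctor e').map
        ((DerivedCategory.homologyFunctor _ q).map ((DCoh.Rpush g).map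
          ((DerivedCategory.singleFunctor Z.Modules 0).map ιZ))) ≫ eh = 0 := by
      refine eq_zero_of_gamma (QCoh.isQCoh_restrict _
        (isCohD_gammaHq f hW (KFlatLib.isCoh_restrict _ hG) q).1)
        (inferInstanceAs (Coh.IsQCoh (tilde I))) _ fun x => ?_
      apply ((tilde.toTildeΓNatIso (R := R)).app I).toLinearEquiv.symm.injective
      rw [map_zero]
      show e ((gammaHq f hW q).map (rZ.map (kernel.ι p)) x) = 0
      rw [← Abelian.monoLift_comp ι₁ (rZ.map (kernel.ι p)) hπ, Functor.map_comp,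
        ConcreteCategory.comp_apply]
      exact hkill _
    have h1 : P.map ιZ ≫ ψ₀ = 0 := by
      refine eq_zero_of_homology_tilde q (isQCohD_restrictD e'
        (isCohD_isQCohD (isCohD_gammaHq f hW (KFlatLib.isCoh_restrict _ hG)))) _ ?_
      rw [← cancel_mono sc.hom, zero_comp, Functor.map_comp, ← cancel_epi (m.inv.app _), comp_zero,
        ← Category.assoc (m.inv.app _), ← Category.assoc (m.inv.app _)]
      have hm := m.inv.naturality ((DCoh.Rpush g).map
        ((DerivedCategory.singleFunctor Z.Modules 0).map ιZ))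
      refine (congrArg (fun z => (z ≫ Hq.map ψ₀) ≫ sc.hom) hm.symm).trans ?_
      simp only [Category.assoc]
      exact hg
    have h2 : rS.map ((DCoh.Rpush f).map
        (((DerivedCategory.singleFunctor X.Modules 0).map (kernel.ι p))⟦k⟧')) ≫ ψ = 0 := by
      rw [← cancel_epi (Θ.inv.app G), ← cancel_mono sft.hom, comp_zero, zero_comp, Category.assoc,
        Category.assoc]
      have hn := Θ.inv.naturality (kernel.ι p)
      refine ((Category.assoc _ _ _).symm.trans (congrArg (· ≫ _) hn.symm)).trans ?_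
      rw [Category.assoc, ← hψ₀]
      show (shiftFunctor _ k).map (P.map ιZ) ≫ (shiftFunctor _ k).map ψ₀ = 0
      rw [← Functor.map_comp, h1, Functor.map_zero]
    rw [← cancel_mono (sj.inv.app S0), zero_comp, Category.assoc]
    apply (adj.homEquiv _ _).symm.injective
    rw [adj.homEquiv_naturality_left_symm]
    refine h2.trans ?_
    simp [Adjunction.homEquiv_counit]

end Groth.Agent.Dual59
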