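import Groth.Agent.Dual59.Pairing

/-!
# Local duality for finite modules over a Noetherian local ring with a normalized dualizing complex
-/

set_option linter.style.haveILetI false
set_option linter.unusedSectionVars false
set_option backward.isDefEq.respectTransparency false

universe u

open CategoryTheory CategoryTheory.Limits Pretriangulated IsLocalRing

attribute [local instance] HasDerivedCategory.standard

namespace Groth.Agent.Dual59

open Groth.Agent.KFlatLib Groth.Agent.LC

variable {A : Type u} [CommRing A] [IsLocalRing A] [IsNoetherianRing A]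

local notation "𝔪" => maximalIdeal A

variable {ω : Dual.D A} {E : Type u} [AddCommGroup E] [Module A E] (P : PairData ω E)

/-- Exact sequences stay exact on maps into an injective module, in any universe. -/
lemma exists_comp_of_ker_le (hE : Module.Injective A E) {Q : Type (u + 1)} [AddCommGroup Q] [Module A Q]
    {S : Type (u + 1)} [AddCommGroup S] [Module A S] (g : Q →ₗ[A] S) (r : Q →ₗ[A] E)
    (h : ∀ x, g x = 0 → r x = 0) : ∃ s : S →ₗ[A] E, ∀ x, s (g x) = r x := by
  obtain ⟨s, hs⟩ := Module.Baer.extension_property (Module.Baer.of_injective hE) (LinearMap.range g).subtype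
    Subtype.val_injective ((LinearMap.ker g).liftQ r (fun x hx => h x hx) ∘ₗ g.quotKerEquivRange.symm.toLinearMap)
  refine ⟨s, fun x => ?_⟩
  have := LinearMap.congr_fun hs (g.rangeRestrict x)
  rw [show g.rangeRestrict x = g.quotKerEquivRange (Submodule.Quotient.mk x) from rfl] at this
  simpa using this

variable (hω : Dual.IsDualizing A ω) (hN : Dual.IsNormalized A ω) (hE : Module.Injective A E)

/-- Local duality holds for `M`. -/
def Good (M : ModuleCat.{u} A) : Prop :=
  ∀ (i : ℕ) (j : ℤ) (h : j + i = 0), Function.Bijective (pairH P M i j h)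

include hω hN in
lemma subsingleton_shifted_of_pos (M : Type u) [AddCommGroup M] [Module A M] [Module.Finite A M] (j : ℤ)
    (hj : 0 < j) : Subsingleton (ShiftedHom (Dual.inD A M) ω j) :=
  subsingleton_hom_module_of_pos hω hN M j hj

include hω hN in
lemma pre_f_surjective {S : ShortComplex (ModuleCat.{u} A)} (hS : S.ShortExact) [Module.Finite A S.X₃]
    (φ : ShiftedHom (Dual.inD A S.X₁) ω (0 : ℤ)) : ∃ ψ, pre S.f.hom (ω⟦(0 : ℤ)⟧) ψ = φ := by
  haveI := subsingleton_shifted_of_pos hω hN S.X₃ (1 : ℤ) one_pos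
  exact exists_pre_of_preδ_eq_zero hS 0 1 (zero_add 1) φ (Subsingleton.elim _ _)

include hω hN in
theorem Good.of_ses {S : ShortComplex (ModuleCat.{u} A)} (hS : S.ShortExact)
    [Module.Finite A S.X₁] [Module.Finite A S.X₃] (hE : Module.Injective A E)
    (h₁ : Good P S.X₁) (h₃ : Good P S.X₃) : Good P S.X₂ := by
  intro i j h
  constructor
  · rw [injective_iff_map_eq_zero]
    intro z hz
    have hg : ((localCohomology 𝔪 i).map S.g).hom z = 0 := (h₃ i j h).1 (by
      rw [pairH_natural, hz, LinearMap.zero_comp, map_zero])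
    obtain ⟨w, rfl⟩ := (exact₂ 𝔪 i hS z).1 hg
    rw [pairH_natural] at hz
    rcases Nat.eq_zero_or_pos i with rfl | hi
    · obtain rfl : j = 0 := by simpa using h
      have : pairH P S.X₁ 0 0 h w = 0 := LinearMap.ext fun φ => by
        obtain ⟨ψ, rfl⟩ := pre_f_surjective hω hN hS φ
        exact LinearMap.congr_fun hz ψ
      rw [(h₁ 0 0 h).1 (this.trans (map_zero _).symm), map_zero]
    · obtain ⟨s, hs⟩ := exists_comp_of_ker_le hE (preδ hS ω j (j + 1) rfl) (pairH P S.X₁ i j h w) (fun φ hφ => by
        obtain ⟨ψ, rfl⟩ := exists_pre_of_preδ_eq_zero hS j (j + 1) rfl φ hφ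
        exact LinearMap.congr_fun hz ψ)
      obtain ⟨v, hv⟩ := (h₃ (i - 1) (j + 1) (by omega)).2 s
      have hw : w = δH 𝔪 (i - 1) hS i (by omega) v := (h₁ i j h).1 (LinearMap.ext fun φ => by
        rw [pairH_δH P hS (i - 1) i (by omega) j (j + 1) h (by omega) v, hv, LinearMap.comp_apply, hs])
      rw [hw]
      exact (exact₁ 𝔪 (i - 1) hS i (by omega)).apply_apply_eq_zero v
  · intro r
    obtain ⟨u, hu⟩ := (h₃ i j h).2 (r ∘ₗ pre S.g.hom (ω⟦j⟧))
    have hδ : δH 𝔪 i hS (i + 1) rfl u = 0 := (h₁ (i + 1) (j - 1) (by omega)).1 (LinearMap.ext fun φ => by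
      rw [pairH_δH P hS i (i + 1) rfl (j - 1) j (by omega) h, hu, map_zero, LinearMap.comp_apply,
        LinearMap.comp_apply, LinearMap.zero_apply]
      have : pre S.g.hom (ω⟦j⟧) (preδ hS ω (j - 1) j (by omega) φ) = 0 := by
        show inDMap S.g.hom ≫ ShiftedHom.comp _ _ _ = 0
        rw [ShiftedHom.comp]
        have h0 := comp_distTriang_mor_zero₂₃ _ hS.singleTriangle_distinguished
        erw [← Category.assoc, h0, zero_comp]
      rw [this, map_zero])
    obtain ⟨v, rfl⟩ := (exact₃ 𝔪 i hS (i + 1) rfl u).1 hδ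
    rw [pairH_natural] at hu
    obtain ⟨s, hs⟩ := exists_comp_of_ker_le hE (pre S.f.hom (ω⟦j⟧)) (r - pairH P S.X₂ i j h v) (fun φ hφ => by
      obtain ⟨ψ, rfl⟩ := exists_pre_eq_of_pre_eq_zero hS.moduleCat_injective_f hS.moduleCat_surjective_g
        ((ShortComplex.ShortExact.moduleCat_exact_iff_function_exact S).1 hS.exact) (ω⟦j⟧) φ hφ
      rw [LinearMap.sub_apply, sub_eq_zero]
      exact (LinearMap.congr_fun hu ψ).symm)
    obtain ⟨w, hw⟩ := (h₁ i j h).2 s
    refine ⟨v + ((localCohomology 𝔪 i).map S.f).hom w, LinearMap.ext fun φ => ?_⟩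
    rw [map_add, pairH_natural, hw, LinearMap.add_apply, LinearMap.comp_apply, hs, LinearMap.sub_apply]
    abel

lemma Good.of_iso {M N : ModuleCat.{u} A} (e : M ≅ N) (hM : Good P M) : Good P N := by
  intro i j h
  let L := ((localCohomology 𝔪 i).mapIso e).toLinearEquiv
  have key : ∀ z, pairH P N i j h (L z) = pairH P M i j h z ∘ₗ pre e.hom.hom (ω⟦j⟧) := fun z =>
    pairH_natural P e.hom i j h z
  have hbij : Function.Bijective (pre e.hom.hom (ω⟦j⟧)) :=
    Function.bijective_iff_has_inverse.2 ⟨pre e.inv.hom (ω⟦j⟧), fun φ => by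
      rw [← LinearMap.comp_apply, ← pre_comp, ← ModuleCat.hom_comp, e.inv_hom_id, ModuleCat.hom_id, pre_id,
        LinearMap.id_apply], fun φ => by
      rw [← LinearMap.comp_apply, ← pre_comp, ← ModuleCat.hom_comp, e.hom_inv_id, ModuleCat.hom_id, pre_id,
        LinearMap.id_apply]⟩
  constructor
  · rw [injective_iff_map_eq_zero]
    intro z hz
    obtain ⟨z, rfl⟩ := L.surjective z
    rw [key] at hz
    have : pairH P M i j h z = 0 := LinearMap.ext fun φ => by
      obtain ⟨φ, rfl⟩ := hbij.2 φ
      exact LinearMap.congr_fun hz φ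
    rw [(hM i j h).1 (this.trans (map_zero _).symm), map_zero]
  · intro r
    let q := LinearEquiv.ofBijective (pre e.hom.hom (ω⟦j⟧)) hbij
    obtain ⟨z, hz⟩ := (hM i j h).2 (r ∘ₗ q.symm.toLinearMap)
    refine ⟨L z, LinearMap.ext fun φ => ?_⟩
    rw [key, hz, LinearMap.comp_apply, LinearMap.comp_apply, LinearEquiv.coe_toLinearMap]
    exact congrArg r (q.symm_apply_apply φ)

include hω hN in
theorem good_of_subsingleton (M : ModuleCat.{u} A) [Subsingleton M] : Good P M := by
  intro i j h
  haveI : Subsingleton ((localCohomology 𝔪 i).obj M) := subsingleton_of_forall_eq 0 fun z => by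
    obtain ⟨n, x, rfl⟩ := exists_toH 𝔪 i z
    rw [← Abelian.Ext.comp_mk₀_id x, (ModuleCat.isZero_of_subsingleton M).eq_of_src (𝟙 M) 0, Abelian.Ext.mk₀_zero,
      Abelian.Ext.comp_zero, map_zero]
  haveI : Subsingleton (ShiftedHom (Dual.inD A M) ω j) := subsingleton_of_forall_eq 0 fun f =>
    ((DerivedCategory.singleFunctor (ModuleCat.{u} A) 0).map_isZero (ModuleCat.isZero_of_subsingleton M)).eq_of_src f 0
  exact ⟨fun a b _ => Subsingleton.elim a b, fun r => ⟨0, LinearMap.ext fun φ => by
    rw [Subsingleton.elim φ 0, map_zero, map_zero]⟩⟩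

include hω hN in
theorem good_residueField (hY : IsPointDual (ω⟦(0 : ℤ)⟧)) : Good P (ModuleCat.of A (ResidueField A)) := by
  intro i j h
  have htors := isPowerTorsion_residueField (R := A)
  haveI : IsSimpleModule A (ResidueField A) := isSimpleModule_iff_isCoatom.2 (maximalIdeal.isMaximal A).1
  rcases Nat.eq_zero_or_pos i with rfl | hi
  · obtain rfl : j = 0 := by simpa using h
    have hinj : Function.Injective (pairH P (ModuleCat.of A (ResidueField A)) 0 0 h) := by
      rw [injective_iff_map_eq_zero]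
      intro z hz
      obtain ⟨n, x, rfl⟩ := exists_toH 𝔪 0 z
      obtain ⟨f, rfl⟩ : ∃ f, Abelian.Ext.mk₀ f = x := ⟨_, Abelian.Ext.mk₀_homEquiv₀_apply x⟩
      by_cases hf : f = 0
      · rw [hf, Abelian.Ext.mk₀_zero, map_zero]
      exfalso
      have hsurj : Function.Surjective f.hom :=
        (LinearMap.surjective_or_eq_zero f.hom).resolve_right fun h0 => hf (ModuleCat.hom_ext h0)
      obtain ⟨e⟩ := hY.point
      have hinj' := hY.pre_injective hsurj (isFiniteLength_quot_pow n)
      have h1 : (e.symm 1 : Dual.inD A (ResidueField A) ⟶ ω⟦(0 : ℤ)⟧) ≠ 0 := by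
        rw [Ne, LinearEquiv.map_eq_zero_iff]; exact one_ne_zero
      refine h1 (hinj' ?_)
      rw [map_zero]
      refine hY.pointι_injective n ?_
      rw [map_zero]
      have := LinearMap.congr_fun hz (e.symm 1)
      rw [pairH_toH, LinearMap.zero_apply, LinearEquiv.map_eq_zero_iff, Abelian.Ext.mk₀_hom,
        ShiftedHom.mk₀_comp] at this
      exact this
    refine ⟨hinj, ?_⟩
    obtain ⟨e⟩ := hY.point
    let e' : (ShiftedHom (Dual.inD A (ResidueField A)) ω (0 : ℤ) →ₗ[A] E) ≃ₗ[A] (ResidueField A →ₗ[A] E) :=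
      LinearEquiv.congrLeft E A e
    let t := (hY.thetaEquiv (N := ResidueField A) (n := 1) fun a ha x =>
      smul_residueField_eq_zero (by rwa [pow_one] at ha) x).symm
    have hs : IsSimpleModule A (ShiftedHom (Dual.inD A (ResidueField A)) ω (0 : ℤ) →ₗ[A] E) :=
      IsSimpleModule.congr (e'.trans (((LinearEquiv.congrRight P.equiv).symm.trans t).trans e))
    rw [← LinearMap.range_eq_top]
    refine (eq_bot_or_eq_top _).resolve_left fun hbot => ?_
    rw [LinearMap.range_eq_bot] at hbot
    haveI : Subsingleton ((localCohomology 𝔪 0).obj (ModuleCat.of A (ResidueField A))) :=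
      subsingleton_of_forall_eq 0 fun z => hinj (by rw [hbot, LinearMap.zero_apply, LinearMap.zero_apply])
    have h1 := (H0Equiv 𝔪 (ModuleCat.of A (ResidueField A))).symm.injective.subsingleton
    refine not_subsingleton (ResidueField A) ?_
    have h2 : DRing.torsionSub 𝔪 (ResidueField A) = ⊤ := torsionSub_eq_top 𝔪 htors
    exact ⟨fun a b => congrArg Subtype.val (@Subsingleton.elim _ h1
      (⟨a, h2 ▸ Submodule.mem_top⟩ : DRing.torsionSub 𝔪 (ResidueField A)) ⟨b, h2 ▸ Submodule.mem_top⟩)⟩
  · haveI : Subsingleton ((localCohomology 𝔪 i).obj (ModuleCat.of A (ResidueField A))) := by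
      obtain ⟨i, rfl⟩ := Nat.exists_eq_add_one.2 hi
      exact subsingleton_of_torsion 𝔪 i (ModuleCat.of A (ResidueField A)) htors
    haveI : Subsingleton (ShiftedHom (Dual.inD A (ResidueField A)) ω j) := hN j (by omega)
    exact ⟨fun a b _ => Subsingleton.elim a b, fun r => ⟨0, LinearMap.ext fun φ => by
      rw [Subsingleton.elim φ 0, map_zero, map_zero]⟩⟩

include hω hN in
theorem good_mulSeq (M : Type u) [AddCommGroup M] [Module A M] [Module.Finite A M] (hE : Module.Injective A E)
    (hEt : LocCoh.IsPowerTorsion 𝔪 E) (x : A) (hx : x ∈ 𝔪) (hxM : IsSMulRegular M x)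
    (h₃ : Good P (ModuleCat.of A (M ⧸ LinearMap.range (DistribSMul.toLinearMap A M x)))) :
    Good P (ModuleCat.of A M) := by
  let S : ShortComplex (ModuleCat.{u} A) := ShortComplex.mk
    (ModuleCat.ofHom (DistribSMul.toLinearMap A M x)) (ModuleCat.ofHom (LinearMap.range (DistribSMul.toLinearMap A M x)).mkQ)
    (ModuleCat.hom_ext (LinearMap.range_mkQ_comp _))
  have hS : S.ShortExact :=
    { exact := (ShortComplex.ShortExact.moduleCat_exact_iff_function_exact S).2
        (LinearMap.exact_map_mkQ_range _)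
      mono_f := (ModuleCat.mono_iff_injective _).2 hxM
      epi_g := (ModuleCat.epi_iff_surjective _).2 (Submodule.mkQ_surjective _) }
  haveI : Module.Finite A S.X₃ := inferInstanceAs (Module.Finite A (M ⧸ LinearMap.range (DistribSMul.toLinearMap A M x)))
  haveI : Module.Finite A S.X₁ := inferInstanceAs (Module.Finite A M)
  haveI : Module.Finite A S.X₂ := inferInstanceAs (Module.Finite A M)
  obtain ⟨a, b, -, _, _⟩ := exists_bounds_of_isDualizing hω
  have hsm : ∀ (j : ℤ) (φ : ShiftedHom (Dual.inD A M) ω j), pre S.f.hom (ω⟦j⟧) φ = x • φ := fun j φ => by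
    rw [show S.f.hom = x • (LinearMap.id : M →ₗ[A] M) from LinearMap.ext fun y => rfl, pre_smul, pre_id]
    rfl
  have hfmap : ∀ i (z : (localCohomology 𝔪 i).obj (ModuleCat.of A M)),
      ((localCohomology 𝔪 i).map S.f).hom z = x • z := by
    intro i z
    obtain ⟨n, y, rfl⟩ := exists_toH 𝔪 i z
    rw [toH_natural, show S.f = x • 𝟙 (ModuleCat.of A M) from ModuleCat.hom_ext (LinearMap.ext fun y => rfl),
      Abelian.Ext.mk₀_smul, Abelian.Ext.comp_smul, Abelian.Ext.comp_mk₀_id, map_smul]
  intro i
  induction i using Nat.strong_induction_on with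
  | _ i ih =>
  intro j h
  haveI : Module.Finite A (ShiftedHom (Dual.inD A M) ω j) := finite_hom_module ω a hω.finite_cohomology M j
  constructor
  · have h0 : ∀ z, x • z = 0 → pairH P (ModuleCat.of A M) i j h z = 0 → z = 0 := by
      intro z hxz hz
      rcases Nat.eq_zero_or_pos i with rfl | hi
      · have hinj : Function.Injective ((localCohomology 𝔪 0).map S.f).hom := fun a b hab => by
          apply (H0Equiv 𝔪 S.X₁).injective
          apply Subtype.ext
          apply hxM
          have := congrArg (fun t => (H0Equiv 𝔪 S.X₂ t : DRing.torsionSub 𝔪 S.X₂).1) hab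
          simp only [H0Equiv_natural] at this
          exact this
        exact hinj (by rw [map_zero]; exact (hfmap 0 z).trans hxz)
      · obtain ⟨i, rfl⟩ := Nat.exists_eq_add_one.2 hi
        obtain ⟨v, rfl⟩ := (exact₁ 𝔪 i hS (i + 1) rfl z).1 ((hfmap _ z).trans hxz)
        have hδ : pairH P S.X₁ (i + 1) j h (δH 𝔪 i hS (i + 1) rfl v) = 0 := hz
        rw [pairH_δH P hS i (i + 1) rfl j (j + 1) h (by omega)] at hδ
        obtain ⟨s, hs⟩ := exists_comp_of_ker_le hE (pre S.g.hom (ω⟦j + 1⟧)) (pairH P S.X₃ i (j + 1) (by omega) v)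
          (fun φ hφ => by
            obtain ⟨ψ, rfl⟩ := exists_preδ_of_pre_eq_zero hS j (j + 1) rfl φ hφ
            exact LinearMap.congr_fun hδ ψ)
        obtain ⟨u, hu⟩ := (ih i (by omega) (j + 1) (by omega)).2 s
        have hv : v = ((localCohomology 𝔪 i).map S.g).hom u := (h₃ i (j + 1) (by omega)).1
          (LinearMap.ext fun φ => by
            erw [pairH_natural, hu]
            exact (hs φ).symm)
        rw [hv]
        exact (exact₃ 𝔪 i hS (i + 1) rfl).apply_apply_eq_zero u
    rw [injective_iff_map_eq_zero]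
    intro z hz
    obtain ⟨k, hk⟩ := isPowerTorsion_obj 𝔪 i (ModuleCat.of A M) z
    have hk' : x ^ k • z = 0 := hk _ (Ideal.pow_mem_pow hx k)
    clear hk
    induction k generalizing z with
    | zero => simpa using hk'
    | succ k ihk =>
      refine h0 z (ihk (x • z) (by rw [map_smul, hz, smul_zero]) ?_) hz
      rw [smul_smul, ← pow_succ]; exact hk'
  · have h0 : ∀ r, x • r = 0 → ∃ z, pairH P (ModuleCat.of A M) i j h z = r := by
      intro r hr
      have hrf : ∀ φ : ShiftedHom (Dual.inD A M) ω j, r (pre S.f.hom (ω⟦j⟧) φ) = 0 := fun φ => by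
        rw [hsm, map_smul]; exact LinearMap.congr_fun hr φ
      rcases Nat.eq_zero_or_pos i with rfl | hi
      · obtain rfl : j = 0 := by simpa using h
        refine ⟨0, LinearMap.ext fun φ => ?_⟩
        obtain ⟨ψ, rfl⟩ := pre_f_surjective hω hN hS φ
        rw [map_zero, LinearMap.zero_apply]
        exact (hrf ψ).symm
      · obtain ⟨i, rfl⟩ := Nat.exists_eq_add_one.2 hi
        obtain ⟨s, hs⟩ := exists_comp_of_ker_le hE (preδ hS ω j (j + 1) rfl) r (fun φ hφ => by
          obtain ⟨ψ, rfl⟩ := exists_pre_of_preδ_eq_zero hS j (j + 1) rfl φ hφ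
          exact hrf ψ)
        obtain ⟨v, hv⟩ := (h₃ i (j + 1) (by omega)).2 s
        refine ⟨δH 𝔪 i hS (i + 1) rfl v, LinearMap.ext fun φ => ?_⟩
        exact (LinearMap.congr_fun (pairH_δH P hS i (i + 1) rfl j (j + 1) h (by omega) v) φ).trans (by
          rw [LinearMap.comp_apply, hv]; exact hs φ)
    intro r
    obtain ⟨n, g, hg⟩ := Submodule.fg_iff_exists_fin_generating_family.1
      (Module.Finite.fg_top (R := A) (M := ShiftedHom (Dual.inD A M) ω j))
    choose k hk using fun t => hEt (r (g t))
    have hk' : x ^ (∑ t, k t) • r = 0 := LinearMap.ext_on_range hg fun t => by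
      rw [LinearMap.smul_apply, LinearMap.zero_apply]
      exact hk t _ (Ideal.pow_le_pow_right (Finset.single_le_sum (fun _ _ => Nat.zero_le _) (Finset.mem_univ t))
        (Ideal.pow_mem_pow hx _))
    generalize (∑ t, k t) = K at hk'
    clear hk hg
    induction K generalizing r with
    | zero => exact h0 r (by rw [show r = 0 by simpa using hk', smul_zero])
    | succ K ihK =>
      obtain ⟨l, hl⟩ := ihK (x • r) (by rw [smul_smul, ← pow_succ]; exact hk')
      have hgl : ((localCohomology 𝔪 i).map S.g).hom l = 0 := (h₃ i j h).1 (by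
        erw [pairH_natural, map_zero, hl]
        refine LinearMap.ext fun φ => ?_
        rw [LinearMap.zero_apply, LinearMap.comp_apply, LinearMap.smul_apply, ← map_smul, ← hsm,
          ← LinearMap.comp_apply (pre S.f.hom _) (pre S.g.hom _), pre_comp_zero, LinearMap.zero_apply, map_zero])
      obtain ⟨l', rfl⟩ := (exact₂ 𝔪 i hS l).1 hgl
      obtain ⟨z, hz⟩ := h0 (r - pairH P (ModuleCat.of A M) i j h l') (by
        rw [smul_sub, ← map_smul, ← hfmap, sub_eq_zero]
        exact hl.symm)
      exact ⟨z + l', by rw [map_add, hz, sub_add_cancel]⟩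

include hω hN in
/-- Local duality. -/
theorem good_of_finite (hY : IsPointDual (ω⟦(0 : ℤ)⟧)) (hE : Module.Injective A E)
    (hEt : LocCoh.IsPowerTorsion 𝔪 E) (M : Type u) [AddCommGroup M] [Module A M] [Module.Finite A M] :
    Good P (ModuleCat.of A M) := by
  have main : ∀ I : Ideal A, ∀ (N : Type u) [AddCommGroup N] [Module A N] [Module.Finite A N],
      (∀ Q ∈ Module.support A N, I ≤ Q.asIdeal) → Good P (ModuleCat.of A N) := by
    intro I
    induction I using (IsNoetherian.wf (R := A) (M := A) inferInstance).induction with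
    | _ I ih =>
    intro N _ _ _
    refine IsNoetherianRing.induction_on_isQuotientEquivQuotientPrime A (M := N) inferInstance
      (motive := fun N _ _ _ => (∀ Q ∈ Module.support A N, I ≤ Q.asIdeal) → Good P (ModuleCat.of A N)) ?_ ?_ ?_
    · intro N _ _ _ _ _
      exact good_of_subsingleton P hω hN _
    · intro N _ _ _ p e hNI
      have hIp : I ≤ p.1 := hNI p (by
        rw [e.support_eq, Module.support_eq_zeroLocus, Ideal.annihilator_quotient]
        exact le_refl p.1)
      refine Good.of_iso P e.toModuleIso.symm ?_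
      by_cases hp : p.1 = 𝔪
      · rw [hp]; exact good_residueField P hω hN hY
      · obtain ⟨x, hxm, hxp⟩ : ∃ x ∈ 𝔪, x ∉ p.1 := by
          by_contra! hc
          exact hp (le_antisymm (IsLocalRing.le_maximalIdeal p.2.ne_top) hc)
        have hreg : IsSMulRegular (A ⧸ p.1) x := by
          intro a b hab
          obtain ⟨a, rfl⟩ := Ideal.Quotient.mk_surjective a
          obtain ⟨b, rfl⟩ := Ideal.Quotient.mk_surjective b
          simp only [Algebra.smul_def, Ideal.Quotient.algebraMap_eq, ← map_mul, Ideal.Quotient.eq] at hab ⊢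
          rw [← mul_sub] at hab
          exact (p.2.mem_or_mem hab).resolve_left hxp
        refine good_mulSeq P hω hN _ hE hEt x hxm hreg ?_
        refine ih (p.1 ⊔ Ideal.span {x}) (lt_of_le_of_lt hIp (lt_of_le_of_ne le_sup_left fun heq => hxp
          (heq ▸ Ideal.mem_sup_right (Ideal.mem_span_singleton_self x)))) _ fun Q hQ => ?_
        have hann := Module.annihilator_le_of_mem_support hQ
        refine le_trans ?_ hann
        refine sup_le ?_ ((Ideal.span_singleton_le_iff_mem _).2 ?_)
        · intro a ha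
          rw [Module.mem_annihilator]
          intro y
          obtain ⟨y, rfl⟩ := Submodule.mkQ_surjective _ y
          obtain ⟨y, rfl⟩ := Ideal.Quotient.mk_surjective y
          rw [← map_smul, Algebra.smul_def, Ideal.Quotient.algebraMap_eq, ← map_mul,
            Ideal.Quotient.eq_zero_iff_mem.2 (Ideal.mul_mem_right _ _ ha), map_zero]
        · rw [Module.mem_annihilator]
          intro y
          obtain ⟨y, rfl⟩ := Submodule.mkQ_surjective _ y
          rw [← map_smul, Submodule.mkQ_apply, Submodule.Quotient.mk_eq_zero]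
          exact ⟨y, rfl⟩
    · intro N₁ _ _ _ N₂ _ _ _ N₃ _ _ _ f g hf hg hfg h₁ h₃ hN₂
      obtain ⟨w, hS⟩ := exists_ses_of_exact hf hg hfg
      exact Good.of_ses P hω hN hS hE (h₁ fun Q hQ => hN₂ Q (Module.support_subset_of_injective f hf hQ))
        (h₃ fun Q hQ => hN₂ Q (Module.support_subset_of_surjective g hg hQ))
  exact main ⊥ M fun _ _ => bot_le

end Groth.Agent.Dual59
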