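import Groth.Agent.Dual59.LocalDual
import Groth.Agent.Dual59.DualTensor
import Groth.Agent.KFlatLib.Ring.HasRHom

/-!
# Local duality: consequences
-/

set_option linter.style.haveILetI false
set_option linter.unusedSectionVars false
set_option backward.isDefEq.respectTransparency false

universe u

open CategoryTheory CategoryTheory.Limits Pretriangulated IsLocalRing Opposite

attribute [local instance] HasDerivedCategory.standard

namespace Groth.Agent.Dual59

open Groth.Agent.KFlatLib

variable {A : Type u} [CommRing A] [IsLocalRing A] [IsNoetherianRing A] {ω : Dual.D A}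
  (hω : Dual.IsDualizing A ω) (hN : Dual.IsNormalized A ω)
  {E : Type u} [AddCommGroup E] [Module A E] {f : ResidueField A →ₗ[A] E} (hf : InjHull.IsInjectiveHull f)

include hω hN in
theorem isPointDual : IsPointDual (ω⟦(0 : ℤ)⟧) := by
  haveI := KFlatLib.hasLTen A
  haveI : DTen.HasRHom A := KFlatLib.hasRHom
  exact isPointDual_of_normalized hω hN

include hω hN hf in
theorem exists_pairData : Nonempty (PairData ω E) :=
  (isPointDual hω hN).nonempty_pointColim_equiv hf |>.map PairData.mk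

/-- The `A`-linear identification of `Hom(X, ω⟦0⟧)` with `Hom(X, ω)`. -/
noncomputable def zeroHomEquiv (X : Dual.D A) (ω : Dual.D A) :
    (X ⟶ ω⟦(0 : ℤ)⟧) ≃ₗ[A] (X ⟶ ω) :=
  Linear.homCongr A (Iso.refl X) ((shiftFunctorZero (Dual.D A) ℤ).app ω)

include hω hN hf in
/-- Local duality. -/
theorem exists_localDuality (M : Type u) [AddCommGroup M] [Module A M] [Module.Finite A M] (i : ℕ) :
    Nonempty (LocCoh.H (maximalIdeal A) i M ≃ₗ[A]
      ((Dual.inD A M ⟶ ω⟦(-(i : ℤ))⟧) →ₗ[A] E)) := by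
  obtain ⟨P⟩ := exists_pairData hω hN hf
  exact ⟨LinearEquiv.ofBijective _ (good_of_finite P hω hN (isPointDual hω hN) hf.isInjective
    (LC.hull_isPowerTorsion hf) M i (-(i : ℤ)) (by omega))⟩

include hω hN hf in
/-- Duality on modules of finite length. -/
theorem exists_finLenDuality (N : Type u) [AddCommGroup N] [Module A N] (hNl : IsFiniteLength A N) :
    Nonempty ((Dual.inD A N ⟶ ω) ≃ₗ[A] (N →ₗ[A] E)) := by
  obtain ⟨P⟩ := exists_pairData hω hN hf
  obtain ⟨n, hn⟩ := exists_pow_killed hNl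
  obtain ⟨_, _⟩ := isFiniteLength_iff_isNoetherian_isArtinian.1 hNl
  exact ⟨(zeroHomEquiv _ ω).symm.trans (((isPointDual hω hN).thetaEquiv hn).trans
    (LinearEquiv.congrRight P.equiv))⟩

include hω hN in
theorem subsingleton_hom_finLen (N : Type u) [AddCommGroup N] [Module A N] (hNl : IsFiniteLength A N)
    (i : ℤ) (hi : i ≠ 0) : Subsingleton (Dual.inD A N ⟶ ω⟦i⟧) := by
  haveI := (isPointDual hω hN).vanish_finLen hNl i hi
  exact @Equiv.subsingleton _ _ ((Iso.refl _).homCongr ((shiftFunctorAdd' (Dual.D A) 0 i i (zero_add i)).app ω)) this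

include hω hN hf in
theorem exists_HDI_zero_equiv : Nonempty (Dual2.HDI A (maximalIdeal A) ω 0 ≃ₗ[A] E) :=
  (isPointDual hω hN).nonempty_pointColim_equiv hf

include hω hN in
theorem subsingleton_HDI (i : ℤ) (hi : i ≠ 0) :
    Subsingleton (Dual2.HDI A (maximalIdeal A) ω i) := by
  refine subsingleton_of_forall_eq 0 fun x => ?_
  obtain ⟨⟨⟨n⟩⟩, g, rfl⟩ := Concrete.colimit_exists_rep (pointDiagram (ω⟦i⟧)) x
  haveI : Subsingleton (Dual.inD A (A ⧸ maximalIdeal A ^ n) ⟶ ω⟦i⟧) :=
    subsingleton_hom_finLen hω hN _ (LC.isFiniteLength_quot_pow n) i hi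
  exact (congrArg _ (Subsingleton.elim (α := Dual.inD A (A ⧸ maximalIdeal A ^ n) ⟶ ω⟦i⟧) g 0)).trans (map_zero _)

include hω hN in
theorem finite_shifted (M : Type u) [AddCommGroup M] [Module A M] [Module.Finite A M] (j : ℤ) :
    Module.Finite A (Dual.inD A M ⟶ ω⟦j⟧) := by
  obtain ⟨a, b, -, _, _⟩ := exists_bounds_of_isDualizing hω
  exact finite_hom_module ω a hω.finite_cohomology M j

include hω hN hf in
/-- A copy in the base universe of a module of maps into the dualizing complex. -/
theorem exists_small_hom (M : Type u) [AddCommGroup M] [Module A M] [Module.Finite A M] (j : ℤ) :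
    ∃ (Q : Type u) (_ : AddCommGroup Q) (_ : Module A Q), Module.Finite A Q ∧
      Nonempty ((Dual.inD A M ⟶ ω⟦j⟧) ≃ₗ[A] Q) := by
  haveI := finite_shifted hω hN M j
  obtain ⟨k, p, hp⟩ := Module.Finite.exists_fin' A (Dual.inD A M ⟶ ω⟦j⟧)
  exact ⟨(Fin k → A) ⧸ LinearMap.ker p, inferInstance, inferInstance, inferInstance,
    ⟨(p.quotKerEquivOfSurjective hp).symm⟩⟩

include hω hN hf in
/-- The completion of Ext is the dual of local cohomology. -/
theorem exists_completion_duality (M : Type u) [AddCommGroup M] [Module A M] [Module.Finite A M] (i : ℕ) :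
    Nonempty (AdicCompletion (maximalIdeal A) (Dual.inD A M ⟶ ω⟦(-(i : ℤ))⟧) ≃ₗ[A]
      (LocCoh.H (maximalIdeal A) i M →ₗ[A] E)) := by
  obtain ⟨Q, _, _, _, ⟨q⟩⟩ := exists_small_hom hω hN hf M (-(i : ℤ))
  obtain ⟨d⟩ := exists_localDuality hω hN hf M i
  obtain ⟨c⟩ := nonempty_doubleDual_equiv hf Q
  exact ⟨((AdicCompletion.congr (maximalIdeal A) q).restrictScalars A).trans
    (c.trans (LinearEquiv.congrLeft E A (d.trans (LinearEquiv.congrLeft E A q))).symm)⟩

end Groth.Agent.Dual59
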