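import Groth.Agent.Dual59.SupportThm

/-!
# The right adjoint of `Rf_*` commutes with restriction to opens of the base
-/

set_option linter.style.haveILetI false
set_option linter.unusedSectionVars false
set_option backward.isDefEq.respectTransparency false
set_option backward.isDefEq.respectTransparency.types false

universe u

open CategoryTheory CategoryTheory.Limits CategoryTheory.Pretriangulated AlgebraicGeometry
  TopologicalSpace Opposite

attribute [local instance] HasDerivedCategory.standard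

namespace Groth.Agent.Dual59

open KFlatLib PerfD40

/-- An object orthogonal to the quasi-coherent objects vanishing on an open is a direct image. -/
lemma isIso_unit_of_orth {Z X : Scheme.{u}} (j : Z ⟶ X) [IsOpenImmersion j] [DCoh.HasRpush j]
    [QuasiCompact j] [QuasiSeparated j] {E : DCoh.D X} (hE : DCoh.IsQCohD E)
    (horth : ∀ M, DCoh.IsQCohD M → Van j.opensRange M → ∀ φ : M ⟶ E, φ = 0) :
    IsIso ((restrictRpushAdj j).unit.app E) := by
  obtain ⟨N, p, d, hT, hN⟩ := exists_unit_triangle j E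
  have hNq : DCoh.IsQCohD N := isQCohD_obj₂ (T := (Triangle.mk ((restrictRpushAdj j).unit.app E) p d).rotate)
    (rot_of_distTriang _ hT) (isQCohD_rpush j (isQCohD_restrictD j hE)) (isQCohD_shift hE 1)
  have hd : d = 0 := by
    apply (shiftFunctor (DCoh.D X) (-1 : ℤ)).map_injective
    rw [Functor.map_zero, ← cancel_mono ((shiftFunctorCompIsoId _ (1 : ℤ) (-1) (by simp)).app E).hom,
      zero_comp]
    exact horth _ (isQCohD_shift hNq _) (van_shift _ _ hN _) _
  obtain ⟨s, hs⟩ := Triangle.coyoneda_exact₃ _ hT (𝟙 N) (by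
    show 𝟙 N ≫ d = 0
    rw [hd, comp_zero])
  refine (Triangle.isZero₃_iff_isIso₁ _ hT).1 ((IsZero.iff_id_eq_zero N).2 (hs.trans ?_))
  rw [orth_rpush j _ N hN s]
  exact zero_comp

variable {X Y : Scheme.{u}} [IsNoetherian Y] (f : X ⟶ Y) [IsProper f] [DCoh.HasRpush f]

/-- `(B, e)` represents `K ↦ Hom(Rf_* -, T)` on quasi-coherent objects. -/
def IsShriek (T : DCoh.D Y) (B : DCoh.D X) (e : (DCoh.Rpush f).obj B ⟶ T) : Prop :=
  DCoh.IsQCohD B ∧ ∀ G, DCoh.IsQCohD G → Function.Bijective fun φ : G ⟶ B => (DCoh.Rpush f).map φ ≫ e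

variable (h : ∀ K : DCoh.D X, DCoh.IsQCohD K → DCoh.IsQCohD ((DCoh.Rpush f).obj K))
  (a : DCoh.DQCoh Y ⥤ DCoh.DQCoh X)
  (adj : (ObjectProperty.lift DCoh.IsQCohD (ObjectProperty.ι DCoh.IsQCohD ⋙ DCoh.Rpush f)
    (fun K => h K.obj K.property)) ⊣ a)

/-- The counit, in `D(Y)`. -/
noncomputable def shriekCounit (T : DCoh.DQCoh Y) : (DCoh.Rpush f).obj (a.obj T).obj ⟶ T.obj :=
  (adj.counit.app T).hom

lemma isShriek_counit (T : DCoh.DQCoh Y) :
    IsShriek f T.obj (a.obj T).obj (shriekCounit f h a adj T) := by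
  refine ⟨(a.obj T).property, fun G hG => ?_⟩
  let G' : DCoh.DQCoh X := ⟨G, hG⟩
  let L := ObjectProperty.lift DCoh.IsQCohD (ObjectProperty.ι DCoh.IsQCohD ⋙ DCoh.Rpush f)
    (fun K => h K.obj K.property)
  have hb : Function.Bijective ((adj.homEquiv G' T).symm : (G' ⟶ a.obj T) → (L.obj G' ⟶ T)) :=
    Equiv.bijective _
  have h1 : ∀ φ : G' ⟶ a.obj T,
      ((adj.homEquiv G' T).symm φ).hom = (DCoh.Rpush f).map φ.hom ≫ shriekCounit f h a adj T :=
    fun φ => by rw [adj.homEquiv_counit]; rfl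
  refine ⟨fun φ ψ hφψ => ?_, fun y => ?_⟩
  · exact congrArg (fun q : G' ⟶ a.obj T => q.hom)
      (hb.1 (a₁ := ObjectProperty.homMk φ) (a₂ := ObjectProperty.homMk ψ)
        (by ext; rw [h1, h1]; exact hφψ))
  · obtain ⟨φ, hφ⟩ := hb.2 (ObjectProperty.homMk y)
    exact ⟨φ.hom, (h1 φ).symm.trans (congrArg (fun q : L.obj G' ⟶ T => q.hom) hφ)⟩

lemma shriekCounit_naturality {S T : DCoh.DQCoh Y} (η : S ⟶ T) :
    (DCoh.Rpush f).map (a.map η).hom ≫ shriekCounit f h a adj T =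
      shriekCounit f h a adj S ≫ η.hom :=
  congrArg (fun q => q.hom) (adj.counit.naturality η)

include h adj in
lemma isGE_rightAdjoint (T : DCoh.DQCoh Y) (c : ℤ) [T.obj.IsGE c] :
    ∃ c', (a.obj T).obj.IsGE c' := by
  haveI : IsLocallyNoetherian X := LocallyOfFiniteType.isLocallyNoetherian f
  haveI : CompactSpace X := QuasiCompact.compactSpace_of_compactSpace f
  obtain ⟨N, hN⟩ := exists_rightAdjoint_bound f h a adj
  exact ⟨c - N, (DerivedCategory.isGE_iff _ _).2 fun j hj =>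
    hN T (c - 1) (fun j hj => DerivedCategory.isZero_of_isGE T.obj c j (by omega)) j (by omega)⟩

include h adj in
/-- The cone of `aK → aK₁` vanishes over `V` when the cone of `K → K₁` vanishes on `V`. -/
lemma vanM_cone {V : Y.Opens} {K K₁ : DCoh.DQCoh Y} (η : K ⟶ K₁) (c : ℤ) [K.obj.IsGE c]
    [K₁.obj.IsGE c] (C : DCoh.D Y) (g : K₁.obj ⟶ C) (d : C ⟶ K.obj⟦(1 : ℤ)⟧)
    (hT : Triangle.mk η.hom g d ∈ distTriang (DCoh.D Y)) (hV : ∀ i, VanM V (DCoh.HD C i))
    (N : DCoh.D X) (q : (a.obj K₁).obj ⟶ N) (δ : N ⟶ (a.obj K).obj⟦(1 : ℤ)⟧)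
    (hT' : Triangle.mk (a.map η).hom q δ ∈ distTriang (DCoh.D X)) :
    ∀ i, VanM (f ⁻¹ᵁ V) (DCoh.HD N i) := by
  haveI : IsLocallyNoetherian X := LocallyOfFiniteType.isLocallyNoetherian f
  haveI : CompactSpace X := QuasiCompact.compactSpace_of_compactSpace f
  haveI : IsNoetherian X := {}
  haveI hadd := (rpush_additive_exact f).1
  have hCq : DCoh.IsQCohD C :=
    isQCohD_obj₂ (T := (Triangle.mk η.hom g d).rotate) (rot_of_distTriang _ hT) K₁.property
      (isQCohD_shift K.property 1)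
  haveI hCge : C.IsGE (c - 1) := by
    rw [DerivedCategory.isGE_iff]
    intro i hi
    exact (DerivedCategory.HomologySequence.exact₃ _ hT i (i + 1) rfl).isZero_X₂
      ((DerivedCategory.isZero_of_isGE K₁.obj c i (by omega)).eq_of_src _ _)
      ((DerivedCategory.isZero_of_isGE K.obj c (i + 1) (by omega)).eq_of_tgt _ _)
  obtain ⟨c₀, h₀⟩ := isGE_rightAdjoint f h a adj K c
  obtain ⟨c₁, h₁⟩ := isGE_rightAdjoint f h a adj K₁ c
  haveI hNge : N.IsGE (min c₀ c₁ - 1) := by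
    rw [DerivedCategory.isGE_iff]
    intro i hi
    exact (DerivedCategory.HomologySequence.exact₃ _ hT' i (i + 1) rfl).isZero_X₂
      ((DerivedCategory.isZero_of_isGE (a.obj K₁).obj c₁ i (by omega)).eq_of_src _ _)
      ((DerivedCategory.isZero_of_isGE (a.obj K).obj c₀ (i + 1) (by omega)).eq_of_tgt _ _)
  refine vanM_of_killsX (min c₀ c₁ - 1)
    (isQCohD_obj₂ (T := (Triangle.mk (a.map η).hom q δ).rotate) (rot_of_distTriang _ hT')
      (a.obj K₁).property (isQCohD_shift (a.obj K).property 1)) ?_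
  intro k F hF ψ
  obtain ⟨-, huK⟩ := isShriek_counit f h a adj K
  obtain ⟨-, huK₁⟩ := isShriek_counit f h a adj K₁
  let ε := shriekCounit f h a adj K
  let ε₁ := shriekCounit f h a adj K₁
  -- first kill the boundary
  let D := fun F : X.Modules => (DCoh.inD X F)⟦k⟧
  obtain ⟨sf⟩ := nonempty_rpush_shift_natIso f (-1 : ℤ)
  obtain ⟨β, hβ⟩ : ∃ β : (D F)⟦(-1 : ℤ)⟧ ⟶ (a.obj K).obj,
      β = (ψ ≫ δ)⟦(-1 : ℤ)⟧' ≫ ((shiftFunctorCompIsoId _ (1 : ℤ) (-1) (by simp)).app _).hom :=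
    ⟨_, rfl⟩
  have hβw : β ≫ (a.map η).hom = 0 := by
    rw [hβ, Category.assoc, Iso.app_hom]
    refine (congrArg (_ ≫ ·) ((shiftFunctorCompIsoId _ (1 : ℤ) (-1) (by simp)).hom.naturality
      (a.map η).hom).symm).trans ?_
    rw [Functor.comp_map, ← Category.assoc, ← Functor.map_comp, Category.assoc]
    have h0 : δ ≫ (a.map η).hom⟦(1 : ℤ)⟧' = 0 := comp_distTriang_mor_zero₃₁ _ hT'
    rw [h0, comp_zero, Functor.map_zero, zero_comp]
  obtain ⟨γ, hγ⟩ := Triangle.coyoneda_exact₂ _ (inv_rot_of_distTriang _ hT)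
    ((DCoh.Rpush f).map β ≫ ε) (by
      show (_ ≫ _) ≫ η.hom = 0
      rw [Category.assoc, ← shriekCounit_naturality f h a adj η, ← Category.assoc, ← Functor.map_comp,
        hβw, Functor.map_zero, zero_comp])
  let a₁ := shiftFunctorAdd' (DCoh.D X) k (-1 : ℤ) (k - 1) (by omega)
  haveI : (C⟦(-1 : ℤ)⟧).IsGE (c - 1 + 1) := (tS Y).isGE_shift C (c - 1) (-1) (c - 1 + 1) (by omega)
  obtain ⟨F₁, ι₁, hF₁, hm₁, hi₁, hz₁⟩ := kills_of_vanM (f := f) (V := V) (c - 1 + 1)
    (isQCohD_shift hCq (-1))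
    (fun i => vanM_of_iso ((((DerivedCategory.homologyFunctor Y.Modules 0).shiftIso (-1) i (-1 + i)
      rfl).app C).symm) (hV (-1 + i))) (k - 1) F hF
    ((DCoh.Rpush f).map (a₁.hom.app (DCoh.inD X F)) ≫ γ)
  let σ₁ := ((DerivedCategory.singleFunctor X.Modules 0).map ι₁)
  have hβ₁ : (σ₁⟦k⟧')⟦(-1 : ℤ)⟧' ≫ β = 0 := by
    refine (huK _ (isQCohD_shift (isQCohD_shift (isCohD_isQCohD (isCohD_inD hF₁)) k) (-1))).1 ?_
    show (DCoh.Rpush f).map (_ ≫ β) ≫ ε = (DCoh.Rpush f).map 0 ≫ ε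
    rw [Functor.map_zero, zero_comp, Functor.map_comp, Category.assoc, hγ]
    suffices h0 : (DCoh.Rpush f).map ((σ₁⟦k⟧')⟦(-1 : ℤ)⟧') ≫ γ = 0 by
      rw [reassoc_of% h0, zero_comp]
    rw [← cancel_epi ((DCoh.Rpush f).map (a₁.hom.app (DCoh.inD X F₁))), comp_zero,
      ← Functor.map_comp_assoc]
    have hn := a₁.hom.naturality σ₁
    rw [Functor.comp_map] at hn
    rw [← hn, Functor.map_comp, Category.assoc]
    exact hz₁
  have hδ₁ : (σ₁⟦k⟧' ≫ ψ) ≫ δ = 0 := by
    apply (shiftFunctor (DCoh.D X) (-1 : ℤ)).map_injective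
    rw [Category.assoc, Functor.map_comp, Functor.map_zero,
      ← cancel_mono ((shiftFunctorCompIsoId _ (1 : ℤ) (-1) (by simp)).app (a.obj K).obj).hom,
      Category.assoc, zero_comp, ← hβ]
    exact hβ₁
  obtain ⟨ψ₁, hψ₁⟩ := Triangle.coyoneda_exact₃ _ hT' (σ₁⟦k⟧' ≫ ψ) hδ₁
  -- then kill the image in `C`
  obtain ⟨F₂, ι₂, hF₂, hm₂, hi₂, hz₂⟩ := kills_of_vanM (f := f) (V := V) (c - 1) hCq hV k F₁ hF₁
    ((DCoh.Rpush f).map ψ₁ ≫ ε₁ ≫ g)
  let σ₂ := ((DerivedCategory.singleFunctor X.Modules 0).map ι₂)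
  obtain ⟨x, hx⟩ := Triangle.coyoneda_exact₂ _ hT
    ((DCoh.Rpush f).map (σ₂⟦k⟧') ≫ (DCoh.Rpush f).map ψ₁ ≫ ε₁) (by
      rw [Category.assoc, Category.assoc]; exact hz₂)
  obtain ⟨φ, hφ⟩ := (huK _ (isQCohD_shift (isCohD_isQCohD (isCohD_inD hF₂)) k)).2 x
  have hfac : σ₂⟦k⟧' ≫ ψ₁ = φ ≫ (a.map η).hom := by
    refine (huK₁ _ (isQCohD_shift (isCohD_isQCohD (isCohD_inD hF₂)) k)).1 ?_
    show (DCoh.Rpush f).map _ ≫ ε₁ = (DCoh.Rpush f).map _ ≫ ε₁
    rw [Functor.map_comp, Functor.map_comp, Category.assoc, Category.assoc,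
      shriekCounit_naturality, hx, ← hφ, Category.assoc]
    rfl
  refine ⟨F₂, ι₂ ≫ ι₁, hF₂, mono_comp _ _, ?_, ?_⟩
  · rw [Functor.map_comp]; infer_instance
  · rw [Functor.map_comp, Functor.map_comp, Category.assoc, hψ₁]
    refine (Category.assoc _ _ _).symm.trans ?_
    rw [show σ₂⟦k⟧' ≫ ψ₁ = φ ≫ (a.map η).hom from hfac, Category.assoc]
    exact (congrArg (φ ≫ ·) (comp_distTriang_mor_zero₁₂ _ hT')).trans comp_zero

/-- Postcomposition with an isomorphism, as a bijection. -/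
lemma bijective_comp_iso {C : Type*} [Category C] {A B B' : C} (e : B ≅ B') :
    Function.Bijective fun φ : A ⟶ B => φ ≫ e.hom :=
  ⟨fun _ _ h => (cancel_mono e.hom).1 h, fun y => ⟨y ≫ e.inv, by simp⟩⟩

lemma bijective_iso_comp {C : Type*} [Category C] {A A' B : C} (e : A ≅ A') :
    Function.Bijective fun φ : A' ⟶ B => e.hom ≫ φ :=
  ⟨fun _ _ h => (cancel_epi e.hom).1 h, fun y => ⟨e.inv ≫ y, by simp⟩⟩

include h adj in
/-- The right adjoint of `Rf_*` commutes with restriction to an open of the base: `(aK)|_{f⁻¹V}`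
is the upper shriek of `K|_V` for `f ∣_ V`. -/
theorem isShriek_restrict (V : Y.Opens) [DCoh.HasRpush (f ∣_ V)]
    [PreservesFiniteLimits (Scheme.Modules.restrictFunctor V.ι)]
    [PreservesFiniteLimits (Scheme.Modules.restrictFunctor (f ⁻¹ᵁ V).ι)]
    (K : DCoh.DQCoh Y) (c : ℤ) [K.obj.IsGE c] :
    ∃ e, IsShriek (f ∣_ V) ((DCoh.restrictD V.ι).obj K.obj)
      ((DCoh.restrictD (f ⁻¹ᵁ V).ι).obj (a.obj K).obj) e := by
  haveI : IsLocallyNoetherian X := LocallyOfFiniteType.isLocallyNoetherian f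
  haveI : CompactSpace X := QuasiCompact.compactSpace_of_compactSpace f
  haveI : IsNoetherian X := {}
  let U := f ⁻¹ᵁ V
  have qc : ∀ {Z : Scheme.{u}} [IsNoetherian Z] (O : Z.Opens), QuasiCompact O.ι := fun O => by
    haveI : CompactSpace (O : Scheme.{u}) :=
      isCompact_iff_compactSpace.1 (NoetherianSpace.isCompact _)
    exact QuasiCompact.of_comp O.ι (terminal.from _)
  haveI := qc V
  haveI := qc U
  haveI : DCoh.HasRpush V.ι := hasRpush_scheme _
  haveI : DCoh.HasRpush U.ι := hasRpush_scheme _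
  let rV := DCoh.restrictD V.ι
  let rU := DCoh.restrictD U.ι
  let jV := restrictRpushAdj V.ι
  let jU := restrictRpushAdj U.ι
  haveI := isIso_counit V.ι
  haveI := isIso_counit U.ι
  haveI := (rpush_additive_exact f).1
  haveI := (rpush_additive_exact (f ∣_ V)).1
  haveI : PreservesFiniteLimits (Scheme.Modules.restrictFunctor U.ι) :=
    inferInstanceAs (PreservesFiniteLimits (Scheme.Modules.restrictFunctor (f ⁻¹ᵁ V).ι))
  -- the local replacement of `K`
  let K₁ : DCoh.DQCoh Y := ⟨(DCoh.Rpush V.ι).obj (rV.obj K.obj),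
    isQCohD_rpush V.ι (isQCohD_restrictD V.ι K.property)⟩
  let η : K ⟶ K₁ := ObjectProperty.homMk (jV.unit.app K.obj)
  haveI : IsIso (rV.map η.hom) := by
    haveI : IsIso (𝟙 (rV.obj K.obj)) := (Iso.refl _).isIso_hom
    exact IsIso.of_isIso_fac_right (jV.left_triangle_components K.obj)
  haveI : (rV.obj K.obj).IsGE c := by
    rw [DerivedCategory.isGE_iff]
    intro i hi
    exact ((Scheme.Modules.restrictFunctor V.ι).map_isZero
      (DerivedCategory.isZero_of_isGE K.obj c i hi)).of_iso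
      ((mapDCHomologyIso (Scheme.Modules.restrictFunctor V.ι) i).app K.obj)
  haveI : K₁.obj.IsGE c := isGE_rpush V.ι (rV.obj K.obj) c
  obtain ⟨C, g, d, hT⟩ := distinguished_cocone_triangle η.hom
  have hCV : ∀ i, VanM V (DCoh.HD C i) := fun i => vanM_hd_of_isZero
    ((Triangle.isZero₃_iff_isIso₁ _ (rV.map_distinguished _ hT)).2
      (inferInstanceAs (IsIso (rV.map η.hom)))) i
  let L := (a.obj K).obj
  let L₁ := (a.obj K₁).obj
  let w : L ⟶ L₁ := (a.map η).hom
  obtain ⟨N, q, δ, hT'⟩ := distinguished_cocone_triangle w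
  have hN := vanM_cone f h a adj η c C g d hT hCV N q δ hT'
  haveI hw : IsIso (rU.map w) :=
    (Triangle.isZero₃_iff_isIso₁ _ (rU.map_distinguished _ hT')).1 (isZero_restrictD_of_vanM hN)
  let ε := shriekCounit f h a adj K
  let ε₁ := shriekCounit f h a adj K₁
  obtain ⟨bc⟩ := nonempty_rpush_restrictD_iso f V
  -- `aK₁` is local on `U`
  haveI : IsIso (jU.unit.app L₁) := by
    refine isIso_unit_of_orth U.ι (a.obj K₁).property fun M hMq hM φ => ?_
    refine ((isShriek_counit f h a adj K₁).2 M hMq).1 ?_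
    show (DCoh.Rpush f).map φ ≫ ε₁ = (DCoh.Rpush f).map 0 ≫ ε₁
    rw [Functor.map_zero, zero_comp]
    apply (jV.homEquiv ((DCoh.Rpush f).obj M) (rV.obj K.obj)).symm.injective
    refine IsZero.eq_of_src ?_ _ _
    exact ((DCoh.Rpush (f ∣_ V)).map_isZero ((van_iff_of_range U.ι _ rfl M).1 hM)).of_iso (bc.app M)
  refine ⟨bc.inv.app L ≫ rV.map ε, isQCohD_restrictD U.ι (a.obj K).property, fun G' hG' => ?_⟩
  let G := (DCoh.Rpush U.ι).obj G'
  have hG : DCoh.IsQCohD G := isQCohD_rpush U.ι hG'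
  -- the two descriptions
  have hT1 : Function.Bijective fun ψ : G ⟶ L₁ =>
      bc.inv.app G ≫ rV.map ((DCoh.Rpush f).map ψ ≫ ε₁) ≫ jV.counit.app (rV.obj K.obj) := by
    have hb := ((bijective_iso_comp (bc.symm.app G) (B := rV.obj K.obj)).comp
      (jV.homEquiv ((DCoh.Rpush f).obj G) (rV.obj K.obj)).symm.bijective).comp
        ((isShriek_counit f h a adj K₁).2 G hG)
    refine (congrArg Function.Bijective (funext fun ψ => ?_)).mp hb
    show bc.inv.app G ≫ (jV.homEquiv _ _).symm ((DCoh.Rpush f).map ψ ≫ ε₁) = _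
    rw [jV.homEquiv_counit]
  have hT2 : Function.Bijective fun ψ : G ⟶ L₁ => rU.map ψ ≫ inv (rU.map w) := by
    have h2 : Function.Bijective fun ψ : G ⟶ L₁ => rU.map ψ := by
      have hb := (jU.homEquiv G (rU.obj L₁)).symm.bijective.comp
        (bijective_comp_iso (A := G) (asIso (jU.unit.app L₁)))
      refine (congrArg Function.Bijective (funext fun ψ => ?_)).mp hb
      show (jU.homEquiv _ _).symm (ψ ≫ jU.unit.app L₁) = rU.map ψ
      rw [jU.homEquiv_counit, Functor.map_comp, Category.assoc]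
      erw [jU.left_triangle_components, Category.comp_id]
    exact (bijective_comp_iso (asIso (rU.map w)).symm).comp h2
  let T := fun φ : rU.obj G ⟶ rU.obj L => (DCoh.Rpush (f ∣_ V)).map φ ≫ bc.inv.app L ≫ rV.map ε
  have hT3 : ∀ ψ : G ⟶ L₁, T (rU.map ψ ≫ inv (rU.map w)) =
      bc.inv.app G ≫ rV.map ((DCoh.Rpush f).map ψ ≫ ε₁) ≫ jV.counit.app (rV.obj K.obj) := by
    intro ψ
    have hw' : (DCoh.Rpush (f ∣_ V)).map (inv (rU.map w)) ≫ bc.inv.app L ≫ rV.map ε =
        bc.inv.app L₁ ≫ rV.map ε₁ ≫ jV.counit.app (rV.obj K.obj) := by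
      rw [Functor.map_inv, IsIso.inv_comp_eq, ← Category.assoc ((DCoh.Rpush (f ∣_ V)).map _)]
      refine ((congrArg (· ≫ _) (bc.inv.naturality w)).trans ?_).symm
      rw [Category.assoc]
      congr 1
      show rV.map ((DCoh.Rpush f).map w) ≫ rV.map ε₁ ≫ _ = rV.map ε
      rw [← Functor.map_comp_assoc, shriekCounit_naturality, Functor.map_comp, Category.assoc]
      exact (congrArg (rV.map ε ≫ ·) (jV.left_triangle_components K.obj)).trans (Category.comp_id _)
    show (DCoh.Rpush (f ∣_ V)).map (_ ≫ _) ≫ _ = _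
    rw [Functor.map_comp, Category.assoc, hw']
    have hn : (DCoh.Rpush (f ∣_ V)).map (rU.map ψ) ≫ bc.inv.app L₁ =
        bc.inv.app G ≫ rV.map ((DCoh.Rpush f).map ψ) := bc.inv.naturality ψ
    rw [reassoc_of% hn, Functor.map_comp, Category.assoc]
  have hT4 : Function.Bijective T := by
    refine (Function.Bijective.of_comp_iff T hT2).1 ?_
    exact (congrArg Function.Bijective (funext hT3)).mpr hT1
  have hb := ((bijective_iso_comp ((DCoh.Rpush (f ∣_ V)).mapIso
    (asIso (jU.counit.app G')).symm) (B := rV.obj K.obj)).comp hT4).comp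
      (bijective_iso_comp (asIso (jU.counit.app G')) (B := rU.obj L))
  refine (congrArg Function.Bijective (funext fun φ => ?_)).mp hb
  show (DCoh.Rpush (f ∣_ V)).map (inv (jU.counit.app G')) ≫
    (DCoh.Rpush (f ∣_ V)).map (jU.counit.app G' ≫ φ) ≫ _ ≫ _ = _
  rw [← Functor.map_comp_assoc, IsIso.inv_hom_id_assoc]

end Groth.Agent.Dual59
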