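import Groth.Agent.Dual59.Point
import Groth.Agent.LC.CohDerived
import Groth.Agent.LC.CohTorsion
import Mathlib.Algebra.Homology.DerivedCategory.Ext.Linear
import Mathlib.Algebra.Homology.DerivedCategory.Ext.ExtClass

/-!
# The local duality pairing `H^i_m(M) ⟶ Hom(Hom(M, ω[-i]), E)`
-/

set_option linter.style.haveILetI false
set_option linter.unusedSectionVars false
set_option backward.isDefEq.respectTransparency false

universe u

open CategoryTheory CategoryTheory.Limits Pretriangulated Opposite IsLocalRing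

attribute [local instance] HasDerivedCategory.standard

namespace Groth.Agent.Dual59

open Groth.Agent.KFlatLib Groth.Agent.LC

variable {A : Type u} [CommRing A] [IsLocalRing A]

local notation "𝔪" => maximalIdeal A

variable {ω : Dual.D A} {E : Type u} [AddCommGroup E] [Module A E]

/-- The data of a pairing: an identification of the colimit with `E`. -/
structure PairData (ω : Dual.D A) (E : Type u) [AddCommGroup E] [Module A E] where
  /-- The identification. -/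
  equiv : pointColim (ω⟦(0 : ℤ)⟧) ≃ₗ[A] E

variable (P : PairData ω E)

/-- The pairing at level `n`. -/
noncomputable def lvlPair (M : ModuleCat.{u} A) (i : ℕ) (j : ℤ) (h : j + i = 0) (n : ℕ) :
    Abelian.Ext (qObj 𝔪 n) M i →ₗ[A]
      (ShiftedHom (Dual.inD A M) ω j →ₗ[A] E) where
  toFun x :=
    { toFun := fun ψ => P.equiv (pointι (ω⟦(0 : ℤ)⟧) n (x.hom.comp ψ h))
      map_add' := fun ψ ψ' => by rw [ShiftedHom.comp_add, map_add, map_add]
      map_smul' := fun r ψ => by rw [ShiftedHom.comp_smul, map_smul, map_smul]; rfl }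
  map_add' x y := LinearMap.ext fun ψ => by
    show P.equiv (pointι _ n ((x + y).hom.comp ψ h)) = P.equiv (pointι _ n (x.hom.comp ψ h)) +
      P.equiv (pointι _ n (y.hom.comp ψ h))
    rw [Abelian.Ext.add_hom, ShiftedHom.add_comp, map_add, map_add]
  map_smul' r x := LinearMap.ext fun ψ => by
    show P.equiv (pointι _ n ((r • x).hom.comp ψ h)) = r • P.equiv (pointι _ n (x.hom.comp ψ h))
    rw [Abelian.Ext.smul_hom, ShiftedHom.smul_comp, map_smul, map_smul]

lemma lvlPair_apply (M : ModuleCat.{u} A) (i : ℕ) (j : ℤ) (h : j + i = 0) (n : ℕ)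
    (x : Abelian.Ext (qObj 𝔪 n) M i) (ψ : ShiftedHom (Dual.inD A M) ω j) :
    lvlPair P M i j h n x ψ = P.equiv (pointι (ω⟦(0 : ℤ)⟧) n (x.hom.comp ψ h)) := rfl

lemma exists_pairH (M : ModuleCat.{u} A) (i : ℕ) (j : ℤ) (h : j + i = 0) :
    ∃ Φ : (localCohomology 𝔪 i).obj M →ₗ[A] (ShiftedHom (Dual.inD A M) ω j →ₗ[A] E),
      ∀ n x, Φ (toH 𝔪 i M n x) = lvlPair P M i j h n x := by
  refine exists_descH 𝔪 i (fun n => lvlPair P M i j h n) fun n m hnm x => LinearMap.ext fun ψ => ?_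
  rw [lvlPair_apply, lvlPair_apply]
  congr 1
  rw [← pointι_pre (ω⟦(0 : ℤ)⟧) hnm, res_apply, Abelian.Ext.comp_hom, Abelian.Ext.mk₀_hom]
  congr 1
  rw [ShiftedHom.mk₀_comp, pre_apply, ShiftedHom.comp, ShiftedHom.comp, Category.assoc]
  rfl

/-- The pairing. -/
noncomputable def pairH (M : ModuleCat.{u} A) (i : ℕ) (j : ℤ) (h : j + i = 0) :
    (localCohomology 𝔪 i).obj M →ₗ[A] (ShiftedHom (Dual.inD A M) ω j →ₗ[A] E) :=
  (exists_pairH P M i j h).choose

lemma pairH_toH (M : ModuleCat.{u} A) (i : ℕ) (j : ℤ) (h : j + i = 0) (n : ℕ)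
    (x : Abelian.Ext (qObj 𝔪 n) M i) (ψ : ShiftedHom (Dual.inD A M) ω j) :
    pairH P M i j h (toH 𝔪 i M n x) ψ = P.equiv (pointι (ω⟦(0 : ℤ)⟧) n (x.hom.comp ψ h)) := by
  rw [show pairH P M i j h (toH 𝔪 i M n x) = lvlPair P M i j h n x from
    (exists_pairH P M i j h).choose_spec n x, lvlPair_apply]

lemma pairH_natural {M N : ModuleCat.{u} A} (g : M ⟶ N) (i : ℕ) (j : ℤ) (h : j + i = 0)
    (z : (localCohomology 𝔪 i).obj M) :
    pairH P N i j h (((localCohomology 𝔪 i).map g).hom z) = pairH P M i j h z ∘ₗ pre g.hom (ω⟦j⟧) := by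
  obtain ⟨n, x, rfl⟩ := exists_toH 𝔪 i z
  refine LinearMap.ext fun ψ => ?_
  rw [toH_natural, LinearMap.comp_apply, pairH_toH, pairH_toH, Abelian.Ext.comp_hom, Abelian.Ext.mk₀_hom]
  congr 2
  rw [ShiftedHom.comp_mk₀, pre_apply, ShiftedHom.comp, ShiftedHom.comp, Category.assoc, Functor.map_comp,
    Category.assoc]
  rfl

variable {S : ShortComplex (ModuleCat.{u} A)} (hS : S.ShortExact)

/-- Precomposition with the connecting map. -/
noncomputable def preδ (ω : Dual.D A) (j j' : ℤ) (h : j + 1 = j') :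
    ShiftedHom (Dual.inD A S.X₁) ω j →ₗ[A] ShiftedHom (Dual.inD A S.X₃) ω j' where
  toFun ψ := ShiftedHom.comp (hS.singleδ : ShiftedHom (Dual.inD A S.X₃) (Dual.inD A S.X₁) (1 : ℤ)) ψ h
  map_add' ψ ψ' := ShiftedHom.comp_add _ _ _ _
  map_smul' r ψ := ShiftedHom.comp_smul _ _ _ _

lemma pairH_δH (i k : ℕ) (hik : i + 1 = k) (j j' : ℤ) (hj : j + k = 0) (hj' : j' + i = 0)
    (z : (localCohomology 𝔪 i).obj S.X₃) :
    pairH P S.X₁ k j hj (δH 𝔪 i hS k hik z) =
      pairH P S.X₃ i j' hj' z ∘ₗ preδ hS ω j j' (by omega) := by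
  obtain ⟨n, x, rfl⟩ := exists_toH 𝔪 i z
  refine LinearMap.ext fun ψ => ?_
  rw [δH_toH, LinearMap.comp_apply, pairH_toH, pairH_toH, Abelian.Ext.comp_hom, ShortComplex.ShortExact.extClass_hom]
  congr 2
  exact ShiftedHom.comp_assoc _ _ _ _ _ (by omega)

include hS in
lemma exists_preδ_of_pre_eq_zero (j j' : ℤ) (h : j + 1 = j') (φ : Dual.inD A S.X₃ ⟶ ω⟦j'⟧)
    (hφ : pre S.g.hom (ω⟦j'⟧) φ = 0) : ∃ ψ, preδ hS ω j j' h ψ = φ := by
  obtain ⟨χ, hχ⟩ := Triangle.yoneda_exact₃ _ hS.singleTriangle_distinguished φ hφ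
  obtain ⟨ψ, hψ⟩ := (shiftFunctor (Dual.D A) (1 : ℤ)).map_surjective
    (χ ≫ (shiftFunctorAdd' (Dual.D A) j 1 j' h).hom.app ω)
  refine ⟨ψ, ?_⟩
  show ShiftedHom.comp _ ψ h = φ
  rw [ShiftedHom.comp, hψ, Category.assoc, Iso.hom_inv_id_app, Category.comp_id]
  exact hχ.symm

include hS in
lemma exists_pre_of_preδ_eq_zero (j j' : ℤ) (h : j + 1 = j') (φ : Dual.inD A S.X₁ ⟶ ω⟦j⟧)
    (hφ : preδ hS ω j j' h φ = 0) : ∃ ψ, pre S.f.hom (ω⟦j⟧) ψ = φ := by
  let F := shiftFunctor (Dual.D A) (1 : ℤ)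
  have h0 : hS.singleTriangle.mor₃ ≫ F.map φ = 0 :=
    (cancel_mono ((shiftFunctorAdd' (Dual.D A) j 1 j' h).inv.app ω)).1
      (by rw [Category.assoc, zero_comp]; exact hφ)
  obtain ⟨ψ, hψ⟩ := Triangle.yoneda_exact₂ _ (rot_of_distTriang _ (rot_of_distTriang _ hS.singleTriangle_distinguished))
    (F.map φ) h0
  obtain ⟨ψ', rfl⟩ := F.map_surjective ψ
  refine ⟨-ψ', F.map_injective ?_⟩
  rw [pre_apply, F.map_comp, F.map_neg, Preadditive.comp_neg]
  exact ((Preadditive.neg_comp _ _).symm.trans hψ.symm)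

lemma pre_comp_zero (Y : Dual.D A) : pre S.f.hom Y ∘ₗ pre S.g.hom Y = 0 := by
  rw [← pre_comp, show S.g.hom ∘ₗ S.f.hom = 0 from congrArg ModuleCat.Hom.hom S.zero, pre_zero]

end Groth.Agent.Dual59
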