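import Groth.Agent.Dual59.PointColim
import Groth.Agent.KFlatLib.Ring.DualizingLocalExt
import Groth.Agent.KFlatLib.Ring.DualizingDepth

/-!
# A normalized dualizing complex has a single Ext at the residue field
-/

set_option linter.style.haveILetI false
set_option linter.unusedSectionVars false
set_option backward.isDefEq.respectTransparency false

universe u

open CategoryTheory CategoryTheory.Limits IsLocalRing

attribute [local instance] HasDerivedCategory.standard

namespace Groth.Agent.Dual59

open Groth.Agent.KFlatLib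

variable {A : Type u} [CommRing A] [IsLocalRing A]

lemma exists_pow_killed {M : Type u} [AddCommGroup M] [Module A M] (hM : IsFiniteLength A M) :
    ∃ n : ℕ, ∀ a ∈ maximalIdeal A ^ n, ∀ x : M, a • x = 0 := by
  induction hM with
  | of_subsingleton => exact ⟨0, fun a _ x => Subsingleton.elim _ _⟩
  | @of_simple_quotient M _ _ L _ _ ih =>
    obtain ⟨n, hn⟩ := ih
    obtain ⟨e⟩ := nonempty_quot_equiv_residueField (N := M) (L := L)
    refine ⟨n + 1, fun a ha x => ?_⟩
    rw [pow_succ] at ha
    refine Submodule.mul_induction_on ha (fun b hb c hc => ?_) (fun b c hb hc => by rw [add_smul, hb, hc, add_zero])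
    have hcx : c • x ∈ L := by
      rw [← Submodule.Quotient.mk_eq_zero, Submodule.Quotient.mk_smul]
      exact e.injective (by rw [map_smul, map_zero, LC.smul_residueField_eq_zero hc])
    rw [mul_smul]
    exact congrArg Subtype.val (hn b hb ⟨c • x, hcx⟩)

variable [IsNoetherianRing A]

theorem isPointDual_of_normalized {ω : Dual.D A} (hω : Dual.IsDualizing A ω) (hN : Dual.IsNormalized A ω)
    [DTen.HasLTen A] [DTen.HasRHom A] :
    IsPointDual (ω⟦(0 : ℤ)⟧) := by
  obtain ⟨n, hn, ⟨e⟩⟩ := exists_unique_ext_point (m := maximalIdeal A) hω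
  have hn0 : n = 0 := by
    by_contra h
    haveI : Subsingleton (Dual.inD A (A ⧸ maximalIdeal A) ⟶ ω⟦n⟧) := hN n h
    exact not_subsingleton (A ⧸ maximalIdeal A) e.symm.injective.subsingleton
  subst hn0
  refine ⟨fun i hi => ?_, ⟨e⟩⟩
  haveI := hN i hi
  exact ((Iso.refl _).homCongr ((shiftFunctorAdd' (Dual.D A) 0 i i (zero_add i)).app ω).symm).subsingleton

end Groth.Agent.Dual59
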