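import Groth.Agent.Dual59.FinLength
import Groth.Agent.Dual59.Hull
import Groth.Prelude.Def_DualLC
import Mathlib.CategoryTheory.Limits.ConcreteCategory.Basic

/-!
# The colimit of `Hom(A/m^n, Y)` for a complex with a single Ext at the residue field

For every module `N` killed by a power of `m` and of finite type, maps `N ⟶ Y` in `D(A)` are the
linear maps from `N` to this colimit, naturally; the colimit is an injective hull of the residue
field.
-/

set_option linter.style.haveILetI false
set_option linter.unusedSectionVars false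
set_option backward.isDefEq.respectTransparency false

universe u

open CategoryTheory CategoryTheory.Limits Opposite IsLocalRing

attribute [local instance] HasDerivedCategory.standard

namespace Groth.Agent.Dual59

open Groth.Agent.KFlatLib

variable {A : Type u} [CommRing A] [IsLocalRing A]

instance : PreservesColimitsOfShape ℕᵒᵖᵒᵖ (forget (ModuleCat.{u + 1} A)) :=
  haveI : PreservesFilteredColimitsOfSize.{0, 0} (forget AddCommGrpCat.{u + 1}) :=
    preservesFilteredColimitsOfSize_shrink _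
  haveI : PreservesColimitsOfShape ℕᵒᵖᵒᵖ (forget AddCommGrpCat.{u + 1}) :=
    PreservesFilteredColimitsOfSize.preserves_filtered_colimits _
  inferInstanceAs (PreservesColimitsOfShape ℕᵒᵖᵒᵖ
    (forget₂ (ModuleCat.{u + 1} A) AddCommGrpCat.{u + 1} ⋙ forget AddCommGrpCat.{u + 1}))

/-- The system `Hom(A/m^n, Y)`. -/
noncomputable abbrev pointDiagram (Y : Dual.D A) : ℕᵒᵖᵒᵖ ⥤ ModuleCat.{u + 1} A :=
  (localCohomology.ringModIdeals (localCohomology.idealPowersDiagram (maximalIdeal A)) ⋙
    DerivedCategory.singleFunctor (ModuleCat.{u} A) 0).op ⋙ (linearYoneda A (Dual.D A)).obj Y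

/-- Its colimit. -/
noncomputable abbrev pointColim (Y : Dual.D A) : ModuleCat.{u + 1} A := colimit (pointDiagram Y)

/-- The structure maps. -/
noncomputable def pointι (Y : Dual.D A) (n : ℕ) :
    (Dual.inD A (A ⧸ maximalIdeal A ^ n) ⟶ Y) →ₗ[A] pointColim Y :=
  (colimit.ι (pointDiagram Y) (op (op n))).hom

/-- The projection `A/m^l ⟶ A/m^n`. -/
noncomputable abbrev powProj {n l : ℕ} (h : n ≤ l) :
    (A ⧸ maximalIdeal A ^ l) →ₗ[A] (A ⧸ maximalIdeal A ^ n) :=
  Submodule.mapQ _ _ LinearMap.id (Ideal.pow_le_pow_right h)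

lemma pointι_pre (Y : Dual.D A) {n l : ℕ} (h : n ≤ l) (g : Dual.inD A (A ⧸ maximalIdeal A ^ n) ⟶ Y) :
    pointι Y l (pre (powProj h) Y g) = pointι Y n g := by
  have := colimit.w (pointDiagram Y) ((homOfLE h).op.op : op (op n) ⟶ op (op l))
  exact LinearMap.congr_fun (congrArg ModuleCat.Hom.hom this) g

lemma exists_pointι (Y : Dual.D A) (x : pointColim Y) : ∃ n g, pointι Y n g = x := by
  obtain ⟨⟨⟨n⟩⟩, g, hg⟩ := Concrete.colimit_exists_rep (pointDiagram Y) x
  exact ⟨n, g, hg⟩

lemma exists_pointι_le (Y : Dual.D A) (x : pointColim Y) (n₀ : ℕ) :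
    ∃ n, n₀ ≤ n ∧ ∀ l, n ≤ l → ∃ g, pointι Y l g = x := by
  obtain ⟨n, g, hg⟩ := exists_pointι Y x
  exact ⟨max n n₀, le_max_right _ _, fun l hl => ⟨pre (powProj ((le_max_left _ _).trans hl)) Y g, by
    rw [pointι_pre, hg]⟩⟩

variable {Y : Dual.D A} [IsNoetherianRing A]

lemma powProj_surjective {n l : ℕ} (h : n ≤ l) : Function.Surjective (powProj (A := A) h) := fun y => by
  obtain ⟨y, rfl⟩ := Submodule.mkQ_surjective _ y
  exact ⟨Submodule.Quotient.mk y, rfl⟩

lemma exists_pre_eq_zero_of_pointι (Y : Dual.D A) (n : ℕ)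
    (g : (pointDiagram Y).obj (op (op n))) (hg : (colimit.ι (pointDiagram Y) (op (op n))).hom g = 0) :
    ∃ (k : ℕᵒᵖᵒᵖ) (f : (op (op n) : ℕᵒᵖᵒᵖ) ⟶ k), ((pointDiagram Y).map f) g = 0 := by
  obtain ⟨k, f₁, f₂, h⟩ := Concrete.colimit_exists_of_rep_eq (pointDiagram Y) g
    (0 : (pointDiagram Y).obj (op (op n))) (hg.trans (map_zero _).symm)
  exact ⟨k, f₁, h.trans (map_zero _)⟩

lemma pre_powProj_of_map (Y : Dual.D A) {n l : ℕ} (hl : n ≤ l) (g : Dual.inD A (A ⧸ maximalIdeal A ^ n) ⟶ Y)
    (h : ((pointDiagram Y).map ((homOfLE hl).op.op : op (op n) ⟶ op (op l))) g = 0) :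
    pre (powProj hl) Y g = 0 := h

lemma IsPointDual.pointι_injective (hY : IsPointDual Y) (n : ℕ) : Function.Injective (pointι Y n) := by
  rw [injective_iff_map_eq_zero]
  intro g hg
  obtain ⟨⟨⟨l⟩⟩, f, h⟩ := exists_pre_eq_zero_of_pointι Y n g hg
  have hl : n ≤ l := f.unop.unop.down.down
  rw [Subsingleton.elim f ((homOfLE hl).op.op)] at h
  have h' := pre_powProj_of_map Y hl g h
  have hinj := hY.pre_injective (powProj_surjective hl) (LC.isFiniteLength_quot_pow l)
  exact (injective_iff_map_eq_zero _).1 hinj g h'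

/-- The map `A/m^n ⟶ N` at an element, for `N` killed by `m^n`. -/
noncomputable def spanAt {N : Type u} [AddCommGroup N] [Module A N] {n : ℕ}
    (hN : ∀ a ∈ maximalIdeal A ^ n, ∀ x : N, a • x = 0) :
    N →ₗ[A] ((A ⧸ maximalIdeal A ^ n) →ₗ[A] N) where
  toFun x := (maximalIdeal A ^ n).liftQ (LinearMap.toSpanSingleton A N x) fun a ha => hN a ha x
  map_add' x y := Submodule.linearMap_qext _ (LinearMap.ext_ring (smul_add (1 : A) x y))
  map_smul' r x := Submodule.linearMap_qext _ (LinearMap.ext_ring (smul_comm (1 : A) r x))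

lemma spanAt_mk {N : Type u} [AddCommGroup N] [Module A N] {n : ℕ}
    (hN : ∀ a ∈ maximalIdeal A ^ n, ∀ x : N, a • x = 0) (x : N) (a : A) :
    spanAt hN x (Submodule.Quotient.mk a) = a • x := rfl

variable {N : Type u} [AddCommGroup N] [Module A N] {N' : Type u} [AddCommGroup N'] [Module A N'] {n : ℕ}

/-- Maps out of a module killed by `m^n` give linear maps to the colimit. -/
noncomputable def theta (Y : Dual.D A) (hN : ∀ a ∈ maximalIdeal A ^ n, ∀ x : N, a • x = 0) :
    (Dual.inD A N ⟶ Y) →ₗ[A] (N →ₗ[A] pointColim Y) where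
  toFun g :=
    { toFun := fun x => pointι Y n (pre (spanAt hN x) Y g)
      map_add' := fun x y => by rw [map_add, pre_add, LinearMap.add_apply, map_add]
      map_smul' := fun r x => by rw [map_smul, pre_smul, LinearMap.smul_apply, map_smul]; rfl }
  map_add' g h := LinearMap.ext fun x => by
    simp only [LinearMap.coe_mk, AddHom.coe_mk, LinearMap.add_apply, map_add]
  map_smul' r g := LinearMap.ext fun x => by
    simp only [LinearMap.coe_mk, AddHom.coe_mk, LinearMap.smul_apply, map_smul, RingHom.id_apply]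

lemma theta_apply (Y : Dual.D A) (hN : ∀ a ∈ maximalIdeal A ^ n, ∀ x : N, a • x = 0)
    (g : Dual.inD A N ⟶ Y) (x : N) : theta Y hN g x = pointι Y n (pre (spanAt hN x) Y g) := rfl

lemma theta_natural (Y : Dual.D A) (hN : ∀ a ∈ maximalIdeal A ^ n, ∀ x : N, a • x = 0)
    (hN' : ∀ a ∈ maximalIdeal A ^ n, ∀ x : N', a • x = 0) (f : N →ₗ[A] N') (g : Dual.inD A N' ⟶ Y) :
    theta Y hN (pre f Y g) = (theta Y hN' g) ∘ₗ f := by
  refine LinearMap.ext fun x => ?_
  rw [LinearMap.comp_apply, theta_apply, theta_apply, ← LinearMap.comp_apply (pre _ Y) (pre f Y), ← pre_comp]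
  congr 3
  exact Submodule.linearMap_qext _ (LinearMap.ext_ring (map_smul f (1 : A) x))

lemma theta_of_le (Y : Dual.D A) {l : ℕ} (h : n ≤ l)
    (hN : ∀ a ∈ maximalIdeal A ^ n, ∀ x : N, a • x = 0)
    (hN' : ∀ a ∈ maximalIdeal A ^ l, ∀ x : N, a • x = 0) : theta Y hN' = theta Y hN := by
  refine LinearMap.ext fun g => LinearMap.ext fun x => ?_
  rw [theta_apply, theta_apply, ← pointι_pre Y h, ← LinearMap.comp_apply (pre _ Y) (pre _ Y), ← pre_comp]
  congr 3
  exact Submodule.linearMap_qext _ (LinearMap.ext_ring rfl)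

omit [IsLocalRing A] [IsNoetherianRing A] in
lemma exists_gens (N : Type u) [AddCommGroup N] [Module A N] [Module.Finite A N] :
    ∃ (k : ℕ) (x : Fin k → N), Submodule.span A (Set.range x) = ⊤ := by
  obtain ⟨k, x, hx⟩ := Submodule.fg_iff_exists_fin_generating_family.1 (Module.Finite.fg_top (R := A) (M := N))
  exact ⟨k, x, hx⟩

variable [Module.Finite A N] (hN : ∀ a ∈ maximalIdeal A ^ n, ∀ x : N, a • x = 0)

/-- The surjection `(A/m^n)^k ⟶ N` on generators. -/
noncomputable def genMap {k : ℕ} (x : Fin k → N) :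
    (Fin k → A ⧸ maximalIdeal A ^ n) →ₗ[A] N :=
  ∑ i, spanAt hN (x i) ∘ₗ LinearMap.proj i

lemma genMap_single {k : ℕ} (x : Fin k → N) (i : Fin k) :
    genMap hN x ∘ₗ LinearMap.single A (fun _ => A ⧸ maximalIdeal A ^ n) i = spanAt hN (x i) := by
  refine LinearMap.ext fun y => ?_
  rw [LinearMap.comp_apply, genMap, LinearMap.sum_apply, Finset.sum_eq_single i
    (fun j _ hj => by rw [LinearMap.comp_apply, LinearMap.proj_apply, LinearMap.single_apply,
      Pi.single_eq_of_ne hj, map_zero]) (by simp)]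
  simp

lemma genMap_surjective {k : ℕ} (x : Fin k → N) (hx : Submodule.span A (Set.range x) = ⊤) :
    Function.Surjective (genMap hN x) := by
  rw [← LinearMap.range_eq_top, eq_top_iff, ← hx, Submodule.span_le]
  rintro _ ⟨i, rfl⟩
  exact ⟨Pi.single i (Submodule.Quotient.mk 1), by
    have := LinearMap.congr_fun (genMap_single hN x i) (Submodule.Quotient.mk 1)
    rw [spanAt_mk, one_smul] at this
    exact this⟩

omit [Module.Finite A N] in
lemma isFiniteLength_pi (k : ℕ) : IsFiniteLength A (Fin k → A ⧸ maximalIdeal A ^ n) := by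
  obtain ⟨_, _⟩ := isFiniteLength_iff_isNoetherian_isArtinian.1 (LC.isFiniteLength_quot_pow (R := A) n)
  exact isFiniteLength_iff_isNoetherian_isArtinian.2 ⟨inferInstance, inferInstance⟩

include hN in
lemma isFiniteLength_killed : IsFiniteLength A N := by
  obtain ⟨k, x, hx⟩ := exists_gens (A := A) N
  exact (isFiniteLength_pi k).of_surjective (genMap_surjective hN x hx)

theorem IsPointDual.theta_injective (hY : IsPointDual Y) : Function.Injective (theta Y hN) := by
  rw [injective_iff_map_eq_zero]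
  intro g hg
  obtain ⟨k, x, hx⟩ := exists_gens (A := A) N
  refine hY.pre_injective (genMap_surjective hN x hx) (isFiniteLength_pi k) ?_
  rw [map_zero]
  refine pre_eq_zero_of_span _ Y g fun i => hY.pointι_injective n ?_
  rw [genMap_single, map_zero]
  exact LinearMap.congr_fun hg (x i)

theorem IsPointDual.theta_surjective (hY : IsPointDual Y) : Function.Surjective (theta Y hN) := by
  intro h
  obtain ⟨k, x, hx⟩ := exists_gens (A := A) N
  choose l hnl hl using fun i => exists_pointι_le Y (h (x i)) n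
  obtain ⟨L, hnL, hL⟩ : ∃ L, n ≤ L ∧ ∀ i, ∃ g, pointι Y L g = h (x i) :=
    ⟨n + ∑ i, l i, Nat.le_add_right _ _, fun i => hl i _ ((Finset.single_le_sum (fun j _ => Nat.zero_le (l j))
      (Finset.mem_univ i)).trans (Nat.le_add_left _ _))⟩
  choose g hg using hL
  have hN' : ∀ a ∈ maximalIdeal A ^ L, ∀ y : N, a • y = 0 := fun a ha =>
    hN a (Ideal.pow_le_pow_right hnL ha)
  let p := genMap hN' x
  have hP : ∀ a ∈ maximalIdeal A ^ L, ∀ y : (Fin k → A ⧸ maximalIdeal A ^ L), a • y = 0 := fun a ha y =>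
    funext fun i => by
      obtain ⟨z, hz⟩ := Submodule.mkQ_surjective _ (y i)
      rw [Pi.smul_apply, ← hz, ← map_smul, Pi.zero_apply, Submodule.mkQ_apply,
        Submodule.Quotient.mk_eq_zero]
      exact Ideal.mul_mem_right _ _ ha
  let G : Dual.inD A (Fin k → A ⧸ maximalIdeal A ^ L) ⟶ Y :=
    ∑ i, pre (LinearMap.proj i) Y (g i)
  have hG : theta Y hP G = h ∘ₗ p := by
    refine LinearMap.pi_ext' fun i => Submodule.linearMap_qext _ (LinearMap.ext_ring ?_)
    simp only [LinearMap.comp_apply, Submodule.mkQ_apply]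
    rw [theta_apply, ← LinearMap.comp_apply p, genMap_single, spanAt_mk, one_smul, ← hg i]
    congr 1
    rw [map_sum]
    have key : ∀ j, (LinearMap.proj j : (Fin k → A ⧸ maximalIdeal A ^ L) →ₗ[A] _) ∘ₗ
        spanAt hP (LinearMap.single A (fun _ => A ⧸ maximalIdeal A ^ L) i (Submodule.Quotient.mk 1)) =
        if j = i then LinearMap.id else 0 := by
      intro j
      refine Submodule.linearMap_qext _ (LinearMap.ext_ring ?_)
      simp only [LinearMap.comp_apply, Submodule.mkQ_apply, spanAt_mk, one_smul, LinearMap.proj_apply,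
        LinearMap.single_apply]
      rcases eq_or_ne j i with rfl | hj
      · simp
      · simp [hj, Pi.single_eq_of_ne hj]
    rw [Finset.sum_eq_single i]
    · rw [← LinearMap.comp_apply (pre _ Y) (pre _ Y), ← pre_comp, key, if_pos rfl, pre_id,
        LinearMap.id_apply]
    · intro j _ hj
      rw [← LinearMap.comp_apply (pre _ Y) (pre _ Y), ← pre_comp, key, if_neg hj, pre_zero,
        LinearMap.zero_apply]
    · simp
  have hp := genMap_surjective hN' x hx
  have hker : IsFiniteLength A (LinearMap.ker p) :=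
    (isFiniteLength_pi k).of_injective (f := (LinearMap.ker p).subtype) Subtype.val_injective
  obtain ⟨_, _⟩ := isFiniteLength_iff_isNoetherian_isArtinian.1 hker
  have hK : ∀ a ∈ maximalIdeal A ^ L, ∀ y : LinearMap.ker p, a • y = 0 := fun a ha y =>
    Subtype.ext (hP a ha y)
  have hres : pre (LinearMap.ker p).subtype Y G = 0 := by
    refine hY.theta_injective hK ?_
    rw [theta_natural Y hK hP, hG, map_zero, LinearMap.comp_assoc, p.comp_ker_subtype, LinearMap.comp_zero]
  obtain ⟨ψ, hψ⟩ := exists_pre_eq_of_pre_eq_zero Subtype.val_injective hp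
    (LinearMap.exact_subtype_ker_map p) Y G hres
  refine ⟨ψ, ?_⟩
  rw [← theta_of_le Y hnL hN hN']
  refine (LinearMap.cancel_right hp).1 ?_
  rw [← theta_natural Y hP hN' p, hψ, hG]

/-- `Hom(N, Y) = Hom(N, colim Hom(A/m^n, Y))`. -/
noncomputable def IsPointDual.thetaEquiv (hY : IsPointDual Y) :
    (Dual.inD A N ⟶ Y) ≃ₗ[A] (N →ₗ[A] pointColim Y) :=
  LinearEquiv.ofBijective (theta Y hN) ⟨hY.theta_injective hN, hY.theta_surjective hN⟩

omit hN

theorem isPowerTorsion_pointColim (Y : Dual.D A) :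
    LocCoh.IsPowerTorsion (maximalIdeal A) (pointColim Y) := by
  intro x
  obtain ⟨n, g, rfl⟩ := exists_pointι Y x
  exact ⟨n, fun a ha => by
    rw [← map_smul, smul_hom_inD_eq_zero (fun y => ?_) g, map_zero]
    obtain ⟨y, rfl⟩ := Submodule.mkQ_surjective _ y
    rw [← map_smul, Submodule.mkQ_apply, Submodule.Quotient.mk_eq_zero]
    exact Ideal.mul_mem_right _ _ ha⟩

/-- The colimit is an injective hull of the residue field. -/
theorem IsPointDual.nonempty_pointColim_equiv (hY : IsPointDual Y) {E : Type u} [AddCommGroup E]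
    [Module A E] {f : ResidueField A →ₗ[A] E} (hf : InjHull.IsInjectiveHull f) :
    Nonempty (pointColim Y ≃ₗ[A] E) := by
  refine nonempty_equiv_hull_of_length hf _ (isPowerTorsion_pointColim Y) ?_ fun n => ?_
  · obtain ⟨e⟩ := hY.point
    exact ⟨(hY.thetaEquiv (n := 1) fun a ha x => LC.smul_residueField_eq_zero
      (by rwa [pow_one] at ha) x).symm.trans e⟩
  · have hN : ∀ a ∈ maximalIdeal A ^ n, ∀ x : A ⧸ maximalIdeal A ^ n, a • x = 0 := fun a ha y => by
      obtain ⟨y, rfl⟩ := Submodule.mkQ_surjective _ y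
      rw [← map_smul, Submodule.mkQ_apply, Submodule.Quotient.mk_eq_zero]
      exact Ideal.mul_mem_right _ _ ha
    rw [← (hY.thetaEquiv hN).length_eq, hY.length_hom (LC.isFiniteLength_quot_pow n)]

end Groth.Agent.Dual59
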