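import Mathlib.CategoryTheory.Triangulated.Pretriangulated
import Mathlib.Algebra.Category.Grp.Preadditive
import Mathlib.CategoryTheory.Triangulated.Yoneda
import Mathlib.CategoryTheory.Preadditive.AdditiveFunctor

/-!
# Gluing representing objects of cohomological functors

`C` is pretriangulated, `Q` a class of objects, and for an "open" we are given a class `K` of objects
(vanishing there). The local objects are those of `Q` right orthogonal to `K`. A cohomological functor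
representable on the local objects of `U`, of `V` and of `W = U ∩ V` is representable on those of
`S = U ∪ V`.
-/

set_option linter.style.haveILetI false
set_option linter.unusedSectionVars false
set_option backward.isDefEq.respectTransparency false

universe w v u

open CategoryTheory CategoryTheory.Category CategoryTheory.Limits CategoryTheory.Pretriangulated Opposite

namespace Groth.Agent.Dual59.RepGlue

variable {C : Type u} [Category.{v} C] [Preadditive C] [HasZeroObject C] [HasShift C ℤ]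
  [∀ n : ℤ, (shiftFunctor C n).Additive] [Pretriangulated C]

/-- Objects of `Q` with no maps from objects of `K`. -/
structure Loc (Q K : C → Prop) (E : C) : Prop where
  mem : Q E
  orth : ∀ N, K N → ∀ φ : N ⟶ E, φ = 0

/-- A class closed under isomorphisms, shifts and cones. -/
structure IsThick (Q : C → Prop) : Prop where
  shift : ∀ E, Q E → ∀ n : ℤ, Q (E⟦n⟧)
  ext₂ : ∀ T ∈ distTriang C, Q T.obj₁ → Q T.obj₃ → Q T.obj₂

lemma IsThick.ext₃ {Q : C → Prop} (hQ : IsThick Q) {T : Triangle C} (hT : T ∈ distTriang C)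
    (h₁ : Q T.obj₁) (h₂ : Q T.obj₂) : Q T.obj₃ :=
  hQ.ext₂ _ (rot_of_distTriang _ hT) h₂ (hQ.shift _ h₁ 1)

lemma loc_isThick {Q K : C → Prop} (hQ : IsThick Q) (hK : ∀ N, K N → ∀ n : ℤ, K (N⟦n⟧)) :
    IsThick (Loc Q K) where
  shift E hE n := by
    refine ⟨hQ.shift E hE.mem n, fun N hN φ => ?_⟩
    apply (shiftFunctor C (-n)).map_injective
    have := hE.orth _ (hK N hN (-n)) (φ⟦-n⟧' ≫ (shiftFunctorCompIsoId C n (-n) (by omega)).hom.app E)
    rw [← cancel_mono ((shiftFunctorCompIsoId C n (-n) (by omega)).hom.app E), this,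
      Functor.map_zero, zero_comp]
  ext₂ T hT h₁ h₃ := by
    refine ⟨hQ.ext₂ T hT h₁.mem h₃.mem, fun N hN φ => ?_⟩
    obtain ⟨ψ, rfl⟩ := Triangle.coyoneda_exact₂ T hT φ (h₃.orth N hN _)
    rw [h₁.orth N hN ψ, zero_comp]

lemma Loc.mono {Q K K' : C → Prop} (h : ∀ N, K' N → K N) {E : C} (hE : Loc Q K E) : Loc Q K' E :=
  ⟨hE.mem, fun N hN φ => hE.orth N (h N hN) φ⟩

lemma Loc.isZero {Q K : C → Prop} {E : C} (hE : Loc Q K E) (h : K E) : IsZero E :=
  (IsZero.iff_id_eq_zero E).2 (hE.orth E h (𝟙 E))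

/-- Reflections onto the local objects. -/
def HasRefl (Q K : C → Prop) : Prop :=
  ∀ E, Q E → ∃ (G N : C) (η : E ⟶ G) (p : G ⟶ N) (d : N ⟶ E⟦(1 : ℤ)⟧),
    Triangle.mk η p d ∈ distTriang C ∧ Loc Q K G ∧ K N

/-- Precomposition with a map with cone in `K` is bijective into right orthogonal objects. -/
lemma bijective_precomp {Q K : C → Prop} (hK : ∀ N, K N → ∀ n : ℤ, K (N⟦n⟧)) {T : Triangle C}
    (hT : T ∈ distTriang C) (hN : K T.obj₃) {B : C} (hB : Loc Q K B) :
    Function.Bijective fun a : T.obj₂ ⟶ B => T.mor₁ ≫ a := by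
  refine ⟨fun a b hab => ?_, fun a => ?_⟩
  · obtain ⟨c, hc⟩ := Triangle.yoneda_exact₂ T hT (a - b) (by simp only at hab; rw [Preadditive.comp_sub, hab, sub_self])
    rw [← sub_eq_zero, hc, hB.orth _ hN c, comp_zero]
  · obtain ⟨c, hc⟩ := Triangle.yoneda_exact₂ _ (inv_rot_of_distTriang _ hT) a
      (hB.orth _ (hK _ hN (-1)) _)
    exact ⟨c, hc.symm⟩

variable (H : Cᵒᵖ ⥤ AddCommGrpCat.{w})

/-- `u` is universal among elements on objects of `L`. -/
def IsUniv (L : C → Prop) (B : C) (u : H.obj (op B)) : Prop :=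
  L B ∧ ∀ G, L G → Function.Bijective fun a : G ⟶ B => H.map a.op u

/-- Exactness of `H` at the middle term. -/
def IsCohom : Prop :=
  ∀ T ∈ distTriang C, ∀ x : H.obj (op T.obj₂), H.map T.mor₁.op x = 0 →
    ∃ y, H.map T.mor₂.op y = x

lemma map_comp_apply {X Y Z : C} (f : X ⟶ Y) (g : Y ⟶ Z) (x : H.obj (op Z)) :
    H.map (f ≫ g).op x = H.map f.op (H.map g.op x) := by
  rw [op_comp, Functor.map_comp]; rfl

variable [H.Additive]

lemma map_zero_apply {X Y : C} (x : H.obj (op Y)) : H.map (0 : X ⟶ Y).op x = 0 := by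
  rw [op_zero, Functor.map_zero]; rfl

lemma map_add_apply {X Y : C} (f g : X ⟶ Y) (x : H.obj (op Y)) :
    H.map (f + g).op x = H.map f.op x + H.map g.op x := by
  rw [op_add, Functor.map_add]; rfl

variable {H}

/-- The transformation attached to an element. -/
abbrev ev {R : C} (r : H.obj (op R)) (E : C) : (E ⟶ R) → H.obj (op E) := fun a => H.map a.op r

lemma ev_sub_eq_zero {E R : C} {r : H.obj (op R)} {a b : E ⟶ R} (h : ev r E a = ev r E b) :
    H.map (a - b).op r = 0 := by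
  have h1 := map_add_apply H (a - b) b r
  rw [sub_add_cancel] at h1
  exact (add_eq_right (b := H.map b.op r)).1 (h1.symm.trans h)

/-- Five lemma for the transformation attached to an element. -/
lemma bijective_ev_obj₁ (hH : IsCohom H) {R : C} (r : H.obj (op R)) {T : Triangle C}
    (hT : T ∈ distTriang C) (h₂ : Function.Bijective (ev r T.obj₂))
    (h₃ : Function.Bijective (ev r T.obj₃))
    (h₃' : Function.Bijective (ev r (T.obj₃⟦(-1 : ℤ)⟧)))
    (h₂' : Function.Bijective (ev r (T.obj₂⟦(-1 : ℤ)⟧))) :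
    Function.Bijective (ev r T.obj₁) := by
  have hI := inv_rot_of_distTriang _ hT
  constructor
  · intro a b hab
    rw [← sub_eq_zero]
    have h0 : ev r _ (a - b) = 0 := ev_sub_eq_zero hab
    generalize a - b = χ at h0 ⊢
    obtain ⟨ω, hω⟩ : ∃ ω : T.obj₂ ⟶ R, χ = T.mor₁ ≫ ω := by
      refine Triangle.yoneda_exact₂ _ hI χ (h₃'.1 ?_)
      show H.map (_ ≫ χ).op r = H.map (0 : _ ⟶ R).op r
      rw [map_comp_apply, show H.map χ.op r = 0 from h0, map_zero, map_zero_apply]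
    obtain ⟨y, hy⟩ := hH T hT (ev r _ ω) (by
      show H.map T.mor₁.op (H.map ω.op r) = 0
      rw [← map_comp_apply, ← hω]; exact h0)
    obtain ⟨κ, rfl⟩ := h₃.2 y
    have : ω = T.mor₂ ≫ κ := h₂.1 (hy.symm.trans (map_comp_apply H _ _ _).symm)
    rw [hω, this, comp_distTriang_mor_zero₁₂_assoc _ hT, zero_comp]
  · intro x
    obtain ⟨ψ, hψ⟩ := h₃'.2 (H.map T.invRotate.mor₁.op x)
    obtain ⟨χ, hχ⟩ : ∃ χ : T.obj₁ ⟶ R, ψ = T.invRotate.mor₁ ≫ χ := by
      have hI2 := inv_rot_of_distTriang _ hI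
      refine Triangle.yoneda_exact₂ _ hI2 ψ (h₂'.1 ?_)
      show H.map (_ ≫ ψ).op r = H.map (0 : _ ⟶ R).op r
      rw [map_comp_apply, show H.map ψ.op r = _ from hψ, map_zero_apply]
      exact (map_comp_apply H T.invRotate.invRotate.mor₁ T.invRotate.mor₁ x).symm.trans
        (by
          rw [show T.invRotate.invRotate.mor₁ ≫ T.invRotate.mor₁ = 0 from
            comp_distTriang_mor_zero₁₂ _ hI2]
          exact map_zero_apply H x)
    obtain ⟨y, hy⟩ := hH _ hI (x - ev r _ χ) (by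
      rw [map_sub, sub_eq_zero, ← hψ, hχ]
      exact map_comp_apply H _ _ _)
    obtain ⟨ω, rfl⟩ := h₂.2 y
    refine ⟨χ + T.mor₁ ≫ ω, ?_⟩
    show H.map (χ + T.mor₁ ≫ ω).op r = x
    rw [map_add_apply, map_comp_apply]
    exact eq_add_of_sub_eq' hy.symm |>.symm

/-- The transformation of the cocone is bijective on one side. -/
lemma bijective_ev_side {L : C → Prop} (hsh : ∀ F, L F → L (F⟦(-1 : ℤ)⟧)) {A P R B B' : C}
    {f : A ⟶ P} {g : P ⟶ R} {δ : R ⟶ A⟦(1 : ℤ)⟧} (hT : Triangle.mk f g δ ∈ distTriang C)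
    (i : B ⟶ P) (q : P ⟶ B') (hiq : ∀ {F : C} (c : F ⟶ P), c ≫ q = 0 → ∃ a : F ⟶ B, c = a ≫ i)
    (hkey : ∀ F, L F → Function.Bijective fun a : F ⟶ A => a ≫ f ≫ q)
    (uB : H.obj (op B)) (huB : ∀ F, L F → Function.Bijective fun a : F ⟶ B => H.map a.op uB)
    (r : H.obj (op R)) (hr : H.map (i ≫ g).op r = uB) {F : C} (hF : L F) :
    Function.Bijective (ev r F) := by
  have hi : ∀ a : F ⟶ B, H.map (a ≫ i ≫ g).op r = H.map a.op uB := fun a => by
    rw [map_comp_apply, hr]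
  refine ⟨fun φ φ' hφ => ?_, fun x => ?_⟩
  · rw [← sub_eq_zero]
    have h0 : H.map (φ - φ').op r = 0 := ev_sub_eq_zero hφ
    generalize φ - φ' = χ at h0 ⊢
    have hδ : χ ≫ δ = 0 := by
      have h : (χ ≫ δ) ≫ (f ≫ q)⟦(1 : ℤ)⟧' = 0 := by
        have h31 : δ ≫ f⟦(1 : ℤ)⟧' = 0 := comp_distTriang_mor_zero₃₁ _ hT
        rw [Functor.map_comp, assoc, reassoc_of% h31, zero_comp, comp_zero]
      let adj := (shiftEquiv C (1 : ℤ)).symm.toAdjunction
      refine (adj.homEquiv F A).symm.injective ((hkey _ (hsh F hF)).1 ?_)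
      show _ ≫ (f ≫ q) = _ ≫ (f ≫ q)
      erw [← Adjunction.homEquiv_naturality_right_symm, h,
        ← Adjunction.homEquiv_naturality_right_symm, zero_comp]
    obtain ⟨c, hc⟩ : ∃ c : F ⟶ P, χ = c ≫ g := Triangle.coyoneda_exact₃ _ hT χ hδ
    obtain ⟨a', ha'⟩ := (hkey F hF).2 (c ≫ q)
    simp only at ha'
    obtain ⟨a, ha⟩ := hiq (c - a' ≫ f) (by rw [Preadditive.sub_comp, assoc, ha', sub_self])
    have hχ : χ = a ≫ i ≫ g := by
      have hfg : f ≫ g = 0 := comp_distTriang_mor_zero₁₂ _ hT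
      rw [← assoc, ← ha, hc, Preadditive.sub_comp, assoc a' f, hfg, comp_zero, sub_zero]
    have : a = 0 := (huB F hF).1 (by
      show H.map a.op uB = H.map (0 : F ⟶ B).op uB
      rw [← hi, ← hχ, h0, map_zero_apply])
    rw [hχ, this, zero_comp]
  · obtain ⟨a, rfl⟩ := (huB F hF).2 x
    exact ⟨a ≫ i ≫ g, hi a⟩

/-- Maps into the two universal objects agree on local objects. -/
lemma key' {Q KV KW KU : C → Prop} (hKV : ∀ N, KV N → ∀ n : ℤ, KV (N⟦n⟧))
    (hKW : ∀ N, KW N → ∀ n : ℤ, KW (N⟦n⟧)) (hQ : IsThick Q)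
    (hKU : ∀ N, KU N → ∀ n : ℤ, KU (N⟦n⟧)) (hUW : ∀ N, KU N → KW N) (rW : HasRefl Q KW)
    (hbcU : ∀ E, Loc Q KU E → KW E → KV E) (hVW : ∀ N, KV N → KW N) {A BV : C}
    (hAV : Loc Q KV A) (hA : Loc Q KW A) {uV : H.obj (op BV)} {uW : H.obj (op A)}
    (huV : ∀ G, Loc Q KV G → Function.Bijective fun a : G ⟶ BV => H.map a.op uV)
    (huW : ∀ G, Loc Q KW G → Function.Bijective fun a : G ⟶ A => H.map a.op uW)
    (hBV : Loc Q KV BV) {fV : A ⟶ BV} (hfV : H.map fV.op uV = uW)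
    (F : C) (hF : Loc Q KU F) : Function.Bijective fun a : F ⟶ A => a ≫ fV := by
  obtain ⟨G, N, η, p, d, hT, hG, hN⟩ := rW F hF.mem
  have hNV : KV N := hbcU N ((loc_isThick hQ hKU).ext₃ hT hF (hG.mono hUW)) hN
  have e1 := bijective_precomp hKV hT hNV hAV
  have e2 := bijective_precomp hKV hT hNV hBV
  have hb : Function.Bijective fun a : G ⟶ A => a ≫ fV := by
    rw [← Function.Bijective.of_comp_iff' (huV G (hG.mono hVW))]
    convert huW G hG using 1
    funext a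
    simp only [Function.comp_apply, map_comp_apply, hfV]
  have heq : (fun a : F ⟶ A => a ≫ fV) ∘ (fun a : G ⟶ A => η ≫ a) =
      (fun b : G ⟶ BV => η ≫ b) ∘ (fun a : G ⟶ A => a ≫ fV) := by
    funext a; simp
  exact (Function.Bijective.of_comp_iff _ e1).1 (heq ▸ e2.comp hb)

/-- Gluing universal elements. -/
theorem exists_univ_glue (hH : IsCohom H) {Q : C → Prop} (hQ : IsThick Q) {KU KV KW KS : C → Prop}
    (hKU : ∀ N, KU N → ∀ n : ℤ, KU (N⟦n⟧)) (hKV : ∀ N, KV N → ∀ n : ℤ, KV (N⟦n⟧))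
    (hKW : ∀ N, KW N → ∀ n : ℤ, KW (N⟦n⟧)) (hKS : ∀ N, KS N → ∀ n : ℤ, KS (N⟦n⟧))
    (hUW : ∀ N, KU N → KW N) (hVW : ∀ N, KV N → KW N)
    (hSU : ∀ N, KS N → KU N) (hSV : ∀ N, KS N → KV N) (hUV : ∀ N, KU N → KV N → KS N)
    (hW2 : ∀ T ∈ distTriang C, KW T.obj₁ → KW T.obj₃ → KW T.obj₂)
    (hU2 : ∀ T ∈ distTriang C, KU T.obj₁ → KU T.obj₂ → KU T.obj₃)
    (rU : HasRefl Q KU) (rV : HasRefl Q KV) (rW : HasRefl Q KW)
    (hbcU : ∀ E, Loc Q KU E → KW E → KV E) (hbcV : ∀ E, Loc Q KV E → KW E → KU E)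
    (gU : ∃ B u, IsUniv H (Loc Q KU) B u) (gV : ∃ B u, IsUniv H (Loc Q KV) B u)
    (gW : ∃ B u, IsUniv H (Loc Q KW) B u) :
    ∃ B u, IsUniv H (Loc Q KS) B u := by
  obtain ⟨BU, uU, hBU, huU⟩ := gU
  obtain ⟨BV, uV, hBV, huV⟩ := gV
  obtain ⟨A, uW, hA, huW⟩ := gW
  have hAU : Loc Q KU A := hA.mono hUW
  have hAV : Loc Q KV A := hA.mono hVW
  obtain ⟨fU, hfU⟩ := (huU A hAU).2 uW
  obtain ⟨fV, hfV⟩ := (huV A hAV).2 uW
  simp only at hfU hfV
  have tU := loc_isThick hQ hKU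
  have tV := loc_isThick hQ hKV
  have tS := loc_isThick hQ hKS
  have key : ∀ F, Loc Q KU F → Function.Bijective fun a : F ⟶ A => a ≫ fV :=
    key' hKV hKW hQ hKU hUW rW hbcU hVW hAV hA huV huW hBV hfV
  let f : A ⟶ BU ⊞ BV := biprod.lift fU (-fV)
  obtain ⟨R, g, δ, hT⟩ := distinguished_cocone_triangle f
  have hP : Loc Q KS (BU ⊞ BV) := tS.ext₂ _
    (binaryBiproductTriangle_distinguished BU BV) (hBU.mono hSU) (hBV.mono hSV)
  have hR : Loc Q KS R := tS.ext₃ hT (hAU.mono hSU) hP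
  obtain ⟨r, hr⟩ := hH _ hT
    (H.map (biprod.fst : BU ⊞ BV ⟶ BU).op uU + H.map (biprod.snd : BU ⊞ BV ⟶ BV).op uV) (by
      show H.map f.op _ = 0
      simp only [map_add, ← map_comp_apply, f, biprod.lift_fst, biprod.lift_snd]
      rw [hfU, op_neg, Functor.map_neg]
      exact (congrArg (uW + ·) (congrArg Neg.neg hfV)).trans (add_neg_cancel uW))
  change H.map g.op r = _ at hr
  have bU : ∀ F, Loc Q KU F → Function.Bijective (ev r F) := fun F hF => by
    refine bijective_ev_side (fun G hG => tU.shift G hG (-1)) hT biprod.inl biprod.snd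
      (fun c hc => ⟨c ≫ biprod.fst, by apply biprod.hom_ext <;> simp [hc]⟩) (fun G hG => ?_) uU huU r ?_ hF
    · simp only [f, biprod.lift_snd, Preadditive.comp_neg]
      exact (Equiv.neg _).bijective.comp (key G hG)
    · rw [map_comp_apply, hr, map_add, ← map_comp_apply, ← map_comp_apply, biprod.inl_fst,
        biprod.inl_snd, map_zero_apply, add_zero, op_id, CategoryTheory.Functor.map_id]
      rfl
  have keyV : ∀ F, Loc Q KV F → Function.Bijective fun a : F ⟶ A => a ≫ fU :=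
    key' hKU hKW hQ hKV hVW rW hbcV hUW hAU hA huU huW hBU hfU
  have bV : ∀ F, Loc Q KV F → Function.Bijective (ev r F) := fun F hF => by
    refine bijective_ev_side (fun G hG => tV.shift G hG (-1)) hT biprod.inr biprod.fst
      (fun c hc => ⟨c ≫ biprod.snd, by apply biprod.hom_ext <;> simp [hc]⟩) (fun G hG => ?_) uV huV r ?_ hF
    · simp only [f, biprod.lift_fst]
      exact keyV G hG
    · rw [map_comp_apply, hr, map_add, ← map_comp_apply, ← map_comp_apply, biprod.inr_fst,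
        biprod.inr_snd, map_zero_apply, zero_add, op_id, CategoryTheory.Functor.map_id]
      rfl
  refine ⟨R, r, hR, fun E hE => ?_⟩
  obtain ⟨G, N, η, p, d, hTE, hG, hN⟩ := rU E hE.mem
  have hNS : Loc Q KS N := tS.ext₃ hTE hE (hG.mono hSU)
  -- the cone is local for `V`
  have hNV : Loc Q KV N := by
    obtain ⟨G', M, η', p', d', hTN, hG', hM⟩ := rV N hNS.mem
    have hGW : KW G' := hW2 _ hTN (hUW _ hN) (hVW _ hM)
    have hMU : KU M := hU2 _ hTN hN (hbcV G' hG' hGW)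
    have hMS : Loc Q KS M := tS.ext₃ hTN hNS (hG'.mono hSV)
    haveI : IsIso η' := (Triangle.isZero₃_iff_isIso₁ _ hTN).1 (hMS.isZero (hUV M hMU hM))
    refine ⟨hNS.mem, fun P hP φ => ?_⟩
    rw [← cancel_mono η', hG'.orth P hP (φ ≫ η'), zero_comp]
  exact bijective_ev_obj₁ hH r hTE (bU G hG) (bV N hNV) (bV _ (tV.shift N hNV (-1)))
    (bU _ (tU.shift G hG (-1)))

end Groth.Agent.Dual59.RepGlue
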