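import Groth.Prelude.Def_Formal
import Mathlib.AlgebraicGeometry.Modules.Sheaf

/-!
# Multiplication by global functions on modules
-/

set_option linter.style.haveILetI false
set_option backward.isDefEq.respectTransparency false
set_option backward.isDefEq.respectTransparency.types false

universe u

open CategoryTheory CategoryTheory.Limits AlgebraicGeometry TopologicalSpace Opposite

namespace Groth.Agent.Dual59

variable {X : Scheme.{u}} {M : X.Modules}

theorem smulModΓ_app (r : Coh.Γtop X) (U : X.Opens) (m : Γ(M, U)) :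
    (Formal.smulModΓ M r).app U m = X.presheaf.map (homOfLE (le_top : U ≤ ⊤)).op r • m := rfl

theorem smulModΓ_one : Formal.smulModΓ M 1 = 𝟙 M :=
  Scheme.Modules.hom_ext _ _ fun U => by
    ext m
    show X.presheaf.map (homOfLE (le_top : U ≤ ⊤)).op (1 : Γ(X, ⊤)) • (show Γ(M, U) from m) = m
    rw [map_one, one_smul]

theorem smulModΓ_mul (r s : Coh.Γtop X) :
    Formal.smulModΓ M (r * s) = Formal.smulModΓ M s ≫ Formal.smulModΓ M r :=
  Scheme.Modules.hom_ext _ _ fun U => by
    ext m
    show X.presheaf.map (homOfLE (le_top : U ≤ ⊤)).op (r * s : Γ(X, ⊤)) • (show Γ(M, U) from m) =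
      X.presheaf.map (homOfLE (le_top : U ≤ ⊤)).op r •
        X.presheaf.map (homOfLE (le_top : U ≤ ⊤)).op s • (show Γ(M, U) from m)
    rw [map_mul, mul_smul]

theorem smulModΓ_naturality {G : X.Modules} (φ : G ⟶ M) (r : Coh.Γtop X) :
    Formal.smulModΓ G r ≫ φ = φ ≫ Formal.smulModΓ M r :=
  Scheme.Modules.hom_ext _ _ fun U => by
    ext m
    exact Scheme.Modules.Hom.app_smul φ _ m

theorem push_smulModΓ {Y : Scheme.{u}} (f : X ⟶ Y) (s : Coh.Γtop Y) :
    (Scheme.Modules.pushforward f).map (Formal.smulModΓ M (f.appTop s)) =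
      Formal.smulModΓ ((Scheme.Modules.pushforward f).obj M) s :=
  Scheme.Modules.hom_ext _ _ fun U => by
    ext m
    show X.presheaf.map (homOfLE (le_top : f ⁻¹ᵁ U ≤ ⊤)).op (f.appTop s) • (show Γ(M, f ⁻¹ᵁ U) from m) =
      f.app U (Y.presheaf.map (homOfLE (le_top : U ≤ ⊤)).op s) • (show Γ(M, f ⁻¹ᵁ U) from m)
    congr 1
    exact (ConcreteCategory.congr_hom (f.naturality (homOfLE (le_top : U ≤ ⊤)).op) s).symm

/-- Multiplication by a global function as an endomorphism of the identity functor. -/
noncomputable def smulη (r : Coh.Γtop X) : 𝟭 X.Modules ⟶ 𝟭 X.Modules where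
  app M := Formal.smulModΓ M r
  naturality _ _ φ := (smulModΓ_naturality φ r).symm

end Groth.Agent.Dual59
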