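import Groth.Agent.Dual59.DualizingLocus
import Groth.Agent.PerfD40.Support
import Groth.Agent.Dual3Lib.DualSch
import Groth.Agent.Dual3Lib.GorScheme
import Groth.Agent.LC.LiaisonLocal

/-!
# Dualizing complexes on schemes and their stalks
-/

set_option linter.style.haveILetI false
set_option linter.unusedSectionVars false
set_option backward.isDefEq.respectTransparency false

universe u

open CategoryTheory CategoryTheory.Limits AlgebraicGeometry

attribute [local instance] HasDerivedCategory.standard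

namespace Groth.Agent.Dual59

open Groth.Agent.KFlatLib

variable {X : Scheme.{u}}

lemma nontrivial_stalk_iff_of_iso {Y : Scheme.{u}} {M N : Y.Modules} (e : M ≅ N) (y : Y) :
    Nontrivial (M.presheaf.stalk y) ↔ Nontrivial (N.presheaf.stalk y) :=
  let f := ((DerSch.stalkFunctor Y y).mapIso e).toLinearEquiv.toEquiv
  ⟨fun h => @Equiv.nontrivial _ _ f.symm h, fun h => @Equiv.nontrivial _ _ f h⟩

lemma nontrivial_stalk_restrict_iff {U : Scheme.{u}} (j : U ⟶ X) [IsOpenImmersion j]
    (M : X.Modules) (u : U) :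
    Nontrivial (((Scheme.Modules.restrictFunctor j).obj M).presheaf.stalk u) ↔
      Nontrivial (M.presheaf.stalk (j u)) :=
  let f := ((Scheme.Modules.restrictStalkNatIso j u).app M).addCommGroupIsoToAddEquiv.toEquiv
  ⟨fun h => @Equiv.nontrivial _ _ f.symm h, fun h => @Equiv.nontrivial _ _ f h⟩

lemma nontrivial_stalk_tilde_iff {R : CommRingCat.{u}} (M : ModuleCat.{u} R) (p : PrimeSpectrum R) :
    Nontrivial ((tilde M).presheaf.stalk p) ↔ Nontrivial (LocalizedModule p.asIdeal.primeCompl M) :=
  let e := IsLocalizedModule.linearEquiv p.asIdeal.primeCompl (tilde.toStalk M p).hom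
    (LocalizedModule.mkLinearMap p.asIdeal.primeCompl M)
  ⟨fun h => @Equiv.nontrivial _ _ e.symm.toEquiv h, fun h => @Equiv.nontrivial _ _ e.toEquiv h⟩

variable [∀ (U : Scheme.{u}) (j : U ⟶ X) [IsOpenImmersion j],
    PreservesFiniteLimits (Scheme.Modules.restrictFunctor j)]
  [∀ (R : CommRingCat.{u}), PreservesFiniteLimits (tilde.functor R)]

/-- Stalks of cohomology sheaves in a chart. -/
lemma nontrivial_stalk_hd_iff {A : Type u} [CommRing A] (j : Spec (CommRingCat.of A) ⟶ X)
    [IsOpenImmersion j] {K : DCoh.D X} {w : Dual.D A}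
    (e : (DCoh.restrictD j).obj K ≅ (DCoh.tildeD (CommRingCat.of A)).obj w) (p : PrimeSpectrum A)
    (i : ℤ) : Nontrivial ((DCoh.HD K i).presheaf.stalk (j p)) ↔
      Nontrivial (LocalizedModule p.asIdeal.primeCompl (Dual.HD A w i)) := by
  haveI : (tilde.functor (CommRingCat.of A)).Additive := tilde_additive _
  haveI : PreservesFiniteColimits (tilde.functor (CommRingCat.of A)) := QCoh.tilde_preservesFiniteColimits
  refine (nontrivial_stalk_restrict_iff j (DCoh.HD K i) p).symm.trans ?_
  refine (nontrivial_stalk_iff_of_iso (PerfD40.hdRestrictIso j K i) p).symm.trans ?_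
  refine (nontrivial_stalk_iff_of_iso ((DerivedCategory.homologyFunctor _ i).mapIso e) p).trans ?_
  refine (nontrivial_stalk_iff_of_iso ((mapDCHomologyIso (tilde.functor (CommRingCat.of A)) i).app w) p).trans ?_
  exact nontrivial_stalk_tilde_iff (R := CommRingCat.of A) _ p

/-- Cohen–Macaulay points of a scheme with a dualizing complex. -/
theorem isCM_stalk_iff {K : DCoh.D X} {A : Type u} [CommRing A]
    (j : Spec (CommRingCat.of A) ⟶ X) [IsOpenImmersion j] {w : Dual.D A} (hw : Dual.IsDualizing A w)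
    (e : (DCoh.restrictD j).obj K ≅ (DCoh.tildeD (CommRingCat.of A)).obj w) (p : PrimeSpectrum A) :
    LocCoh.IsCohenMacaulayLocalRing (X.presheaf.stalk (j p)) ↔
      ∃! i : ℤ, Nontrivial ((DCoh.HD K i).presheaf.stalk (j p)) := by
  haveI := hw.isNoetherianRing
  obtain ⟨es⟩ := Dual3Lib.nonempty_stalk_equiv j p
  haveI : IsNoetherianRing (X.presheaf.stalk (j p)) := isNoetherianRing_of_ringEquiv _ es.symm
  have h1 : LocCoh.IsCohenMacaulayLocalRing (X.presheaf.stalk (j p)) ↔
      LocCoh.IsCohenMacaulayLocalRing (Localization.AtPrime p.asIdeal) :=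
    ⟨fun h => @LC.Liaison.isCMLocal_of_ringEquiv _ _ h _ _ _ _ es,
      fun h => @LC.Liaison.isCMLocal_of_ringEquiv _ _ h _ _ _ _ es.symm⟩
  rw [h1, isCM_ring_iff hw p]
  simp only [fun i => nontrivial_stalk_hd_iff j e p i]
  refine ⟨fun h => ?_, fun h i i' hi hi' => h.unique hi hi'⟩
  obtain ⟨n, hn, -, -, -⟩ := exists_extDegree hw
  obtain ⟨k, -, -, hk⟩ := exists_top_degree hw hn A p (support_self p)
  obtain ⟨el⟩ := exists_homRingLEquiv w (n p - k)
  have : Nontrivial (LocalizedModule p.asIdeal.primeCompl (Dual.HD A w (n p - k))) := by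
    rw [← Module.mem_support_iff, ← el.support_eq, Module.mem_support_iff]
    exact hk
  exact ⟨_, this, fun i hi => h i _ hi this⟩

end Groth.Agent.Dual59
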