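import Groth.Agent.KFlatLib.Scheme.DQCohLimit
import Groth.Prelude.Def_KLin
import Groth.Prelude.Def_DCoh2

/-!
# Evaluating morphisms out of `j_! O_V`
-/

set_option linter.style.haveILetI false
set_option linter.unusedSectionVars false
set_option backward.isDefEq.respectTransparency false
set_option backward.isDefEq.respectTransparency.types false

universe u

open CategoryTheory CategoryTheory.Limits AlgebraicGeometry TopologicalSpace Opposite

attribute [local instance] HasDerivedCategory.standard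

namespace Groth.Agent.Dual59

open KFlatLib

variable {X : Scheme.{u}} (V : X.Opens)

/-- The canonical section of `j_! O_V` over `V`. -/
noncomputable def gen : Γ(secObj V, V) :=
  (secObj V).presheaf.map (homOfLE V.ι_image_top.ge).op (secEquiv V (secObj V) (𝟙 _))

/-- Evaluation at the canonical section. -/
noncomputable def ev {M : X.Modules} (φ : secObj V ⟶ M) : Γ(M, V) := φ.app V (gen V)

lemma ev_comp {M N : X.Modules} (φ : secObj V ⟶ M) (g : M ⟶ N) : ev V (φ ≫ g) = g.app V (ev V φ) :=
  rfl

lemma ev_eq {M : X.Modules} (φ : secObj V ⟶ M) :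
    ev V φ = M.presheaf.map (homOfLE V.ι_image_top.ge).op (secEquiv V M φ) := by
  have h := secEquiv_naturality V (𝟙 (secObj V)) φ
  rw [Category.id_comp] at h
  rw [h]
  exact ConcreteCategory.congr_hom (φ.mapPresheaf.naturality (homOfLE V.ι_image_top.ge).op)
    (secEquiv V (secObj V) (𝟙 _))

lemma ev_bijective (M : X.Modules) : Function.Bijective (ev V : (secObj V ⟶ M) → Γ(M, V)) := by
  have h : Function.Bijective (M.presheaf.map (homOfLE V.ι_image_top.ge).op) := by
    haveI : IsIso (homOfLE V.ι_image_top.ge) := ⟨homOfLE V.ι_image_top.le, rfl, rfl⟩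
    exact ConcreteCategory.bijective_of_isIso _
  exact (congrArg Function.Bijective (funext (ev_eq V))).mpr (h.comp (secEquiv V M).bijective)

/-- The morphism with given value at the canonical section. -/
noncomputable def ofSec {M : X.Modules} (x : Γ(M, V)) : secObj V ⟶ M :=
  ((ev_bijective V M).2 x).choose

@[simp] lemma ev_ofSec {M : X.Modules} (x : Γ(M, V)) : ev V (ofSec V x) = x :=
  ((ev_bijective V M).2 x).choose_spec

lemma secObj_hom_ext {M : X.Modules} {φ ψ : secObj V ⟶ M} (h : ev V φ = ev V ψ) : φ = ψ :=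
  (ev_bijective V M).1 h

/-- Restriction, as a map of the corepresenting objects. -/
noncomputable def resMap {W V : X.Opens} (h : W ≤ V) : secObj W ⟶ secObj V :=
  ofSec W ((secObj V).presheaf.map (homOfLE h).op (gen V))

lemma ev_resMap_comp {W V : X.Opens} (h : W ≤ V) {M : X.Modules} (φ : secObj V ⟶ M) :
    ev W (resMap h ≫ φ) = M.presheaf.map (homOfLE h).op (ev V φ) := by
  rw [ev_comp, resMap, ev_ofSec]
  exact ConcreteCategory.congr_hom (φ.mapPresheaf.naturality (homOfLE h).op) (gen V)

/-- Multiplication by a function on `V`. -/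
noncomputable def mulMap (c : Γ(X, V)) : secObj V ⟶ secObj V := ofSec V (c • gen V)

lemma ev_mulMap_comp (c : Γ(X, V)) {M : X.Modules} (φ : secObj V ⟶ M) :
    ev V (mulMap V c ≫ φ) = c • ev V φ := by
  rw [ev_comp, mulMap, ev_ofSec, Scheme.Modules.Hom.app_smul]
  rfl

/-- `Hom(j_! O_V, L) → Γ(V, H⁰ L)`. -/
noncomputable def Psi {L : DCoh.D X} (φ : DCoh.inD X (secObj V) ⟶ L) : Γ(DCoh.HD L 0, V) :=
  ev V (psi V L φ)

lemma Psi_bijective (hV : IsAffineOpen V) {L : DCoh.D X} (hL : DCoh.IsQCohD L) :
    Function.Bijective (Psi V : (DCoh.inD X (secObj V) ⟶ L) → Γ(DCoh.HD L 0, V)) :=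
  (ev_bijective V _).comp (bijH0_of_isQCohD hL hV)

lemma Psi_add {L : DCoh.D X} (φ φ' : DCoh.inD X (secObj V) ⟶ L) :
    Psi V (φ + φ') = Psi V φ + Psi V φ' := by
  show ev V (psi V L (φ + φ')) = _
  rw [psi_add]
  rfl

lemma psi_single_comp {W : X.Opens} (a : secObj W ⟶ secObj V) {L : DCoh.D X}
    (φ : DCoh.inD X (secObj V) ⟶ L) :
    psi W L ((DerivedCategory.singleFunctor X.Modules 0).map a ≫ φ) = a ≫ psi V L φ := by
  show _ ≫ _ = a ≫ _ ≫ _
  rw [Functor.map_comp, ← Category.assoc, ← Category.assoc]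
  congr 1
  exact ((DerivedCategory.singleFunctorCompHomologyFunctorIso X.Modules 0).inv.naturality a).symm

lemma Psi_resMap {W V : X.Opens} (h : W ≤ V) {L : DCoh.D X} (φ : DCoh.inD X (secObj V) ⟶ L) :
    Psi W ((DerivedCategory.singleFunctor X.Modules 0).map (resMap h) ≫ φ) =
      (DCoh.HD L 0).presheaf.map (homOfLE h).op (Psi V φ) := by
  show ev W (psi W L _) = _
  rw [psi_single_comp, ev_resMap_comp]
  rfl

lemma Psi_mulMap (c : Γ(X, V)) {L : DCoh.D X} (φ : DCoh.inD X (secObj V) ⟶ L) :
    Psi V ((DerivedCategory.singleFunctor X.Modules 0).map (mulMap V c) ≫ φ) = c • Psi V φ := by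
  show ev V (psi V L _) = _
  rw [psi_single_comp, ev_mulMap_comp]
  rfl

section Linear

variable (B : Type u) [CommRing B] [X.Over (Spec (CommRingCat.of B))]

/-- The ring map to the functions on an open. -/
noncomputable def toSec : B →+* Γ(X, V) :=
  (X.presheaf.map (homOfLE (le_top : V ≤ ⊤)).op).hom.comp
    (Coh.toGlobal (X ↘ Spec (CommRingCat.of B)))

lemma smul_id_secObj (b : B) : b • 𝟙 (secObj V) = mulMap V (toSec V B b) := by
  refine secObj_hom_ext V ?_
  rw [← Category.comp_id (mulMap V _), ev_mulMap_comp]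
  rw [KLin.smul_id]
  exact KLin.smulModΓ_app_apply _ _ V (gen V)

lemma Psi_smul (b : B) {L : DCoh.D X} (φ : DCoh.inD X (secObj V) ⟶ L) :
    Psi V (b • φ) = toSec V B b • Psi V φ := by
  have h : b • φ = (DerivedCategory.singleFunctor X.Modules 0).map (b • 𝟙 (secObj V)) ≫ φ := by
    rw [Functor.map_smul, CategoryTheory.Functor.map_id, Linear.smul_comp, Category.id_comp]
  rw [h, smul_id_secObj, Psi_mulMap]

end Linear

end Groth.Agent.Dual59
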