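import Groth.Agent.Dual59.KillGen
import Groth.Agent.KFlatLib.Scheme.RightAdjBound
import Groth.Agent.DEqLib.Sib.DiagKernel
import Groth.Agent.QCoh.ExtendFT

/-!
# The right adjoint of `Rf_*` for proper `f` respects supports
-/

set_option linter.style.haveILetI false
set_option linter.unusedSectionVars false
set_option backward.isDefEq.respectTransparency false
set_option backward.isDefEq.respectTransparency.types false

universe u

open CategoryTheory CategoryTheory.Limits CategoryTheory.Pretriangulated AlgebraicGeometry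
  TopologicalSpace Opposite

attribute [local instance] HasDerivedCategory.standard

namespace Groth.Agent.Dual59

open KFlatLib PerfD40

variable {X Y : Scheme.{u}}

/-- Every map `F[k] ⟶ L` kills a coherent submodule of `F` equal to `F` over `U`. -/
def KillsX (U : X.Opens) (L : DCoh.D X) : Prop :=
  ∀ (k : ℤ) (F : X.Modules), Coh.IsCoh F → ∀ ψ : (DCoh.inD X F)⟦k⟧ ⟶ L,
    ∃ (F' : X.Modules) (ι : F' ⟶ F), Coh.IsCoh F' ∧ Mono ι ∧
      IsIso ((Scheme.Modules.restrictFunctor U.ι).map ι) ∧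
      ((DerivedCategory.singleFunctor X.Modules 0).map ι)⟦k⟧' ≫ ψ = 0

lemma killsX_ext {U : X.Opens} (T : Triangle (DCoh.D X)) (hT : T ∈ distTriang (DCoh.D X))
    (h₁ : KillsX U T.obj₁) (h₃ : KillsX U T.obj₃) : KillsX U T.obj₂ := fun k F hF φ => by
  obtain ⟨F₁, ι₁, hF₁, hm₁, hi₁, hz₁⟩ := h₃ k F hF (φ ≫ T.mor₂)
  obtain ⟨φ₁, hφ₁⟩ := T.coyoneda_exact₂ hT
    (((DerivedCategory.singleFunctor X.Modules 0).map ι₁)⟦k⟧' ≫ φ)
    (by rw [Category.assoc]; exact hz₁)
  obtain ⟨F₂, ι₂, hF₂, hm₂, hi₂, hz₂⟩ := h₁ k F₁ hF₁ φ₁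
  refine ⟨F₂, ι₂ ≫ ι₁, hF₂, mono_comp _ _, ?_, ?_⟩
  · rw [Functor.map_comp]; infer_instance
  · rw [Functor.map_comp, Functor.map_comp, Category.assoc, hφ₁, reassoc_of% hz₂, zero_comp]

/-- Bounded below objects vanishing on `U` satisfy `KillsX U`. -/
lemma killsX_of_vanM [IsNoetherian X] {U : X.Opens} {L : DCoh.D X} (c : ℤ) [L.IsGE c]
    (hL : DCoh.IsQCohD L) (hV : ∀ i, VanM U (DCoh.HD L i)) : KillsX U L := fun k F hF ψ => by
  haveI : DCoh.HasRpush (𝟙 X) := hasRpush_scheme _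
  obtain ⟨e⟩ := DEqLib.Sib.DiagKernel.nonempty_rpush_id (X := X)
  obtain ⟨F', ι, h1, h2, h3, h4⟩ :=
    kills_of_vanM (f := 𝟙 X) (V := U) c hL hV k F hF (e.hom.app _ ≫ ψ)
  refine ⟨F', ι, h1, h2, h3, ?_⟩
  rw [← cancel_epi (e.hom.app ((DCoh.inD X F')⟦k⟧)), comp_zero]
  exact (NatTrans.naturality_assoc e.hom _ _).symm.trans h4

/-- A map from a module to the lowest cohomology is a map of complexes. -/
lemma exists_map_to_lowest {L : DCoh.D X} (i : ℤ) [L.IsGE i] {N : X.Modules}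
    (u : N ⟶ DCoh.HD L i) :
    ∃ ψ : (DCoh.inD X N)⟦-i⟧ ⟶ L, ∀ {N' : X.Modules} (ι : N' ⟶ N),
      ((DerivedCategory.singleFunctor X.Modules 0).map ι)⟦-i⟧' ≫ ψ = 0 → ι ≫ u = 0 := by
  let H := DerivedCategory.homologyFunctor X.Modules i
  let sc := DerivedCategory.singleFunctorCompHomologyFunctorIso X.Modules i
  let t := ((tS X).truncLT (i + 1)).obj L
  let τ : t ⟶ L := ((tS X).truncLTι (i + 1)).app L
  haveI : t.IsLE i := by
    have := isLE_truncLT L (i + 1)
    simpa using this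
  haveI : t.IsGE i := by
    rw [DerivedCategory.isGE_iff]
    intro j hj
    haveI := isIso_hd_truncLTι L (i + 1) j (by omega)
    exact (DerivedCategory.isZero_of_isGE L i j hj).of_iso
      (asIso ((DerivedCategory.homologyFunctor X.Modules j).map τ))
  obtain ⟨M, ⟨e⟩⟩ := DerivedCategory.exists_iso_singleFunctor_obj_of_isGE_of_isLE t i
  haveI := isIso_hd_truncLTι L (i + 1) i (by omega)
  let v : N ⟶ M := u ≫ inv (H.map τ) ≫ H.map e.hom ≫ sc.hom.app M
  let σ := ((DerivedCategory.singleFunctors X.Modules).shiftIso (-i) i 0 (by omega))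
  refine ⟨σ.hom.app N ≫ (DerivedCategory.singleFunctor X.Modules i).map v ≫ e.inv ≫ τ,
    fun {N'} ι hι => ?_⟩
  have h1 : (DerivedCategory.singleFunctor X.Modules i).map (ι ≫ v) ≫ e.inv ≫ τ = 0 := by
    rw [← cancel_epi (σ.hom.app N'), comp_zero, Functor.map_comp, Category.assoc]
    refine ((Category.assoc _ _ _).symm.trans ?_).trans hι
    exact (congrArg (· ≫ _) (σ.hom.naturality ι).symm).trans (Category.assoc _ _ _)
  have h2 : H.map ((DerivedCategory.singleFunctor X.Modules i).map (ι ≫ v)) ≫ H.map e.inv ≫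
      H.map τ = 0 := by
    rw [← Functor.map_comp, ← Functor.map_comp, h1, Functor.map_zero]
  have h3 : H.map ((DerivedCategory.singleFunctor X.Modules i).map (ι ≫ v)) = 0 := by
    rw [← cancel_mono (H.map e.inv ≫ H.map τ), h2, zero_comp]
  have h4 : ι ≫ v = 0 := by
    rw [← cancel_epi (sc.hom.app N'), comp_zero]
    exact (sc.hom.naturality (ι ≫ v)).symm.trans ((congrArg (· ≫ _) h3).trans zero_comp)
  rw [← cancel_mono (inv (H.map τ) ≫ H.map e.hom ≫ sc.hom.app M), zero_comp, Category.assoc]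
  exact h4

/-- An object killing maps from coherent modules away from the complement of `U` has cohomology
vanishing on `U`. -/
theorem vanM_of_killsX [IsNoetherian X] {U : X.Opens} {L : DCoh.D X} (c : ℤ) [L.IsGE c]
    (hL : DCoh.IsQCohD L) (hK : KillsX U L) : ∀ i, VanM U (DCoh.HD L i) := by
  suffices h : ∀ n : ℕ, ∀ i, i < c + n → VanM U (DCoh.HD L i) from
    fun i => h ((i - c).toNat + 1) i (by omega)
  intro n
  induction n with
  | zero => exact fun i hi => vanM_of_isZero (DerivedCategory.isZero_of_isGE L c i (by omega))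
  | succ n ih =>
    intro i hi
    by_cases hlt : i < c + n
    · exact ih i hlt
    -- the truncation above `i`
    let L' := ((tS X).truncGE i).obj L
    let P := ((tS X).truncLT i).obj L
    haveI : L'.IsGE i := isGE_truncGE L i
    have hT := rot_of_distTriang _ ((tS X).triangleLTGE_distinguished i L)
    have hPi : ∀ j, j < i → IsIso ((DerivedCategory.homologyFunctor X.Modules j).map
        (((tS X).truncLTι i).app L)) := fun j hj => isIso_hd_truncLTι L i j hj
    haveI hPge : P.IsGE c := by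
      rw [DerivedCategory.isGE_iff]
      intro j hj
      haveI := hPi j (by omega)
      exact (DerivedCategory.isZero_of_isGE L c j hj).of_iso
        (asIso ((DerivedCategory.homologyFunctor X.Modules j).map (((tS X).truncLTι i).app L)))
    have hPV : ∀ j, VanM U (DCoh.HD P j) := fun j => by
      by_cases hj : j < i
      · haveI := hPi j hj
        exact vanM_of_iso (asIso ((DerivedCategory.homologyFunctor X.Modules j).map
          (((tS X).truncLTι i).app L))).symm (ih j (by omega))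
      · exact vanM_of_isZero (isZero_hd_truncLT L i j (by omega))
    haveI : (P⟦(1 : ℤ)⟧).IsGE (c - 1) := (tS X).isGE_shift P c 1 (c - 1) (by omega)
    have hP1 : KillsX U (P⟦(1 : ℤ)⟧) := killsX_of_vanM (c - 1)
      (isQCohD_shift (isQCohD_truncLT hL i) 1) fun j =>
        vanM_of_iso ((((DerivedCategory.homologyFunctor X.Modules 0).shiftIso 1 j (1 + j) rfl).app
          P).symm) (hPV (1 + j))
    have hL' : KillsX U L' := killsX_ext _ hT hK hP1
    -- sections of the lowest cohomology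
    haveI := isIso_hd_truncGEπ L i i le_rfl
    refine vanM_of_iso (asIso ((DerivedCategory.homologyFunctor X.Modules i).map
      (((tS X).truncGEπ i).app L))).symm (vanM_of_sections fun O hO m => ?_)
    let G := DCoh.HD L' i
    have hG : Coh.IsQCoh G := isQCohD_truncGE hL i i
    -- all sections over affines in `U` vanish
    have key : ∀ A : X.affineOpens, A.1 ≤ U → ∀ s : Γ(G, A.1), s = 0 := fun A hA s => by
      obtain ⟨N, hN, hsN⟩ := QCoh.exists_ftOn_contains hG A.2
        (QCoh.extStep_qcqs A.2.isCompact) {s} (Set.finite_singleton s)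
      obtain ⟨t, ht⟩ := N.exists_app_eq (hsN rfl)
      have hNc : Coh.IsCoh N.toModules := ⟨QCoh.isQCoh_of_ftOn hG hN, QCoh.isFT_of_ftOn hG hN⟩
      obtain ⟨ψ, hψ⟩ := exists_map_to_lowest i N.ι
      obtain ⟨N', ι, -, -, hiso, hz⟩ := hL' (-i) N.toModules hNc ψ
      haveI := hiso
      have hι : (Scheme.Modules.restrictFunctor U.ι).map N.ι = 0 := by
        rw [← cancel_epi ((Scheme.Modules.restrictFunctor U.ι).map ι), comp_zero, ← Functor.map_comp,
          hψ ι hz, Functor.map_zero]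
      have hA' : U.ι ''ᵁ (U.ι ⁻¹ᵁ A.1) = A.1 := by
        rw [Scheme.Hom.image_preimage_eq_opensRange_inf, Scheme.Opens.opensRange_ι, inf_eq_right.2 hA]
      have h0 : ∀ x : Γ(N.toModules, U.ι ''ᵁ (U.ι ⁻¹ᵁ A.1)), N.ι.app _ x = 0 := fun x =>
        congr($(congrArg (fun q : (Scheme.Modules.restrictFunctor U.ι).obj N.toModules ⟶
          (Scheme.Modules.restrictFunctor U.ι).obj G => q.app (U.ι ⁻¹ᵁ A.1)) hι) x)
      rw [hA'] at h0
      rw [← ht]
      exact h0 t
    refine app_eq_zero_of_cover (fun A : {A : X.affineOpens // A.1 ≤ O} => A.1.1) O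
      (fun y hy => ?_) (fun A => vanM_of_sections fun B hB b => ?_) m
    · obtain ⟨_, ⟨A, hA, rfl⟩, hyA, hAO⟩ :=
        X.isBasis_affineOpens.exists_subset_of_mem_open (show y ∈ (O : Set X) from hy) O.2
      exact Opens.mem_iSup.2 ⟨⟨⟨A, hA⟩, hAO⟩, hyA⟩
    refine (TopCat.Sheaf.eq_of_locally_eq'
      (⟨G.presheaf, G.isSheaf⟩ : TopCat.Sheaf Ab.{u} X)
      (fun A' : {A' : X.affineOpens // A'.1 ≤ B} => A'.1.1) B (fun A' => homOfLE A'.2) ?_ b 0
      fun A' => ?_)
    · intro y hy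
      obtain ⟨_, ⟨A', hA', rfl⟩, hyA, hAB⟩ :=
        X.isBasis_affineOpens.exists_subset_of_mem_open (show y ∈ (B : Set X) from hy) B.2
      exact Opens.mem_iSup.2 ⟨⟨⟨A', hA'⟩, hAB⟩, hyA⟩
    · rw [map_zero]
      exact key A'.1 (A'.2.trans (hB.trans (A.2.trans hO))) _

variable [IsNoetherian Y] (f : X ⟶ Y) [IsProper f] [DCoh.HasRpush f]

/-- The right adjoint of `Rf_*` satisfies `KillsX`. -/
theorem killsX_rightAdjoint
    (h : ∀ K : DCoh.D X, DCoh.IsQCohD K → DCoh.IsQCohD ((DCoh.Rpush f).obj K))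
    (a : DCoh.DQCoh Y ⥤ DCoh.DQCoh X)
    (adj : (ObjectProperty.lift DCoh.IsQCohD (ObjectProperty.ι DCoh.IsQCohD ⋙ DCoh.Rpush f)
      (fun K => h K.obj K.property)) ⊣ a) {V : Y.Opens} (Q : DCoh.DQCoh Y) (c : ℤ) [Q.obj.IsGE c]
    (hV : ∀ i, VanM V (DCoh.HD Q.obj i)) : KillsX (f ⁻¹ᵁ V) (a.obj Q).obj := fun k F hF ψ => by
  haveI : IsLocallyNoetherian X := LocallyOfFiniteType.isLocallyNoetherian f
  have hq : ∀ F : X.Modules, Coh.IsCoh F → DCoh.IsQCohD ((DCoh.inD X F)⟦k⟧) := fun F hF =>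
    isQCohD_shift (isCohD_isQCohD (isCohD_inD hF)) k
  let G : DCoh.DQCoh X := ⟨_, hq F hF⟩
  let φ := (adj.homEquiv G Q).symm (ObjectProperty.homMk ψ)
  obtain ⟨F', ι, h1, h2, h3, h4⟩ := kills_of_vanM (f := f) c Q.property hV k F hF φ.hom
  refine ⟨F', ι, h1, h2, h3, ?_⟩
  let G' : DCoh.DQCoh X := ⟨_, hq F' h1⟩
  let σ : G' ⟶ G := ObjectProperty.homMk (((DerivedCategory.singleFunctor X.Modules 0).map ι)⟦k⟧')
  have h5 : (ObjectProperty.lift DCoh.IsQCohD (ObjectProperty.ι DCoh.IsQCohD ⋙ DCoh.Rpush f)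
      (fun K => h K.obj K.property)).map σ ≫ φ = 0 := by
    ext
    exact h4
  have h6 : σ ≫ (ObjectProperty.homMk ψ : G ⟶ a.obj Q) = 0 := by
    apply (adj.homEquiv G' Q).symm.injective
    rw [adj.homEquiv_naturality_left_symm]
    refine h5.trans ?_
    haveI := (rpush_additive_exact f).1
    simp only [Adjunction.homEquiv_counit]
    ext
    exact (zero_comp.symm.trans (congrArg (· ≫ _) ((DCoh.Rpush f).map_zero _ _).symm))
  exact congrArg (fun q : G' ⟶ a.obj Q => q.hom) h6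

/-- The right adjoint of `Rf_*` respects supports. -/
theorem vanM_rightAdjoint
    (h : ∀ K : DCoh.D X, DCoh.IsQCohD K → DCoh.IsQCohD ((DCoh.Rpush f).obj K))
    (a : DCoh.DQCoh Y ⥤ DCoh.DQCoh X)
    (adj : (ObjectProperty.lift DCoh.IsQCohD (ObjectProperty.ι DCoh.IsQCohD ⋙ DCoh.Rpush f)
      (fun K => h K.obj K.property)) ⊣ a) {V : Y.Opens} (Q : DCoh.DQCoh Y) (c : ℤ)
    (hc : ∀ i : ℤ, i < c → IsZero (DCoh.HD Q.obj i))
    (hV : ∀ i, VanM V (DCoh.HD Q.obj i)) (i : ℤ) : VanM (f ⁻¹ᵁ V) (DCoh.HD (a.obj Q).obj i) := by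
  haveI : IsLocallyNoetherian X := LocallyOfFiniteType.isLocallyNoetherian f
  haveI : CompactSpace X := QuasiCompact.compactSpace_of_compactSpace f
  haveI : IsNoetherian X := {}
  haveI : Q.obj.IsGE c := (DerivedCategory.isGE_iff _ _).2 hc
  obtain ⟨N, hN⟩ := exists_rightAdjoint_bound f h a adj
  haveI : (a.obj Q).obj.IsGE (c - N) := (DerivedCategory.isGE_iff _ _).2 fun j hj =>
    hN Q (c - 1) (fun j hj => hc j (by omega)) j (by omega)
  exact vanM_of_killsX (c - N) (a.obj Q).property (killsX_rightAdjoint f h a adj Q c hV) i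

end Groth.Agent.Dual59
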